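import Groth.Agent.Lib.Lambda.Elementary

/-!
# The determinant on a λ-ring with positive structure
-/

namespace GrothLib.Lambda

open LambdaRing Finset

universe u

attribute [local instance] intBinomialOps

variable {K : Type u} [CommRing K] [LambdaOps K] (P : PosStructure K)

/-- `λ^(ε e) e`, as a unit -/
noncomputable def topLam (e : K) (he : e ∈ P.pos) : Kˣ := (P.isUnit_lam e he).unit

theorem topLam_add {e f : K} (he : e ∈ P.pos) (hf : f ∈ P.pos) :
    topLam P (e + f) (P.add_mem e f he hf) = topLam P e he * topLam P f hf := by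
  refine Units.ext ?_
  simp only [topLam, IsUnit.unit_spec, Units.val_mul]
  have h1 := P.aug_pos e he
  have h2 := P.aug_pos f hf
  rw [map_add, Int.toNat_add h1.le h2.le, LambdaOps.lam_add, sum_eq_single (P.aug e).toNat]
  · rw [Nat.add_sub_cancel_left]
  · intro i hi hne
    rw [mem_range] at hi
    rcases lt_or_gt_of_ne hne with h | h
    · rw [P.lam_eq_zero f hf _ (by omega), mul_zero]
    · rw [P.lam_eq_zero e he _ (by omega), zero_mul]
  · intro h
    exact absurd (mem_range.2 (by omega)) h

theorem topLam_congr {e f : K} (he : e ∈ P.pos) (hf : f ∈ P.pos) (h : e = f) :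
    topLam P e he = topLam P f hf := by
  subst h; rfl

/-- the determinant `K → Kˣ` -/
noncomputable def detU (x : K) : Kˣ :=
  topLam P (P.exists_sub x).choose (P.exists_sub x).choose_spec.choose_spec.1 /
    topLam P (P.exists_sub x).choose_spec.choose (P.exists_sub x).choose_spec.choose_spec.2.1

theorem detU_sub {e f : K} (he : e ∈ P.pos) (hf : f ∈ P.pos) :
    detU P (e - f) = topLam P e he / topLam P f hf := by
  have hs := (P.exists_sub (e - f)).choose_spec.choose_spec.2.2
  have h : (P.exists_sub (e - f)).choose + f = e + (P.exists_sub (e - f)).choose_spec.choose := by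
    linear_combination -hs
  have h2 := topLam_congr P (P.add_mem _ _ (P.exists_sub (e - f)).choose_spec.choose_spec.1 hf)
    (P.add_mem _ _ he (P.exists_sub (e - f)).choose_spec.choose_spec.2.1) h
  rw [topLam_add, topLam_add] at h2
  rw [detU, div_eq_div_iff_mul_eq_mul]
  exact h2

theorem detU_add (x y : K) : detU P (x + y) = detU P x * detU P y := by
  obtain ⟨a, b, ha, hb, rfl⟩ := P.exists_sub x
  obtain ⟨c, d, hc, hd, rfl⟩ := P.exists_sub y
  rw [show a - b + (c - d) = (a + c) - (b + d) from by ring, detU_sub P (P.add_mem _ _ ha hc)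
    (P.add_mem _ _ hb hd), detU_sub P ha hb, detU_sub P hc hd, topLam_add, topLam_add,
    div_mul_div_comm]

/-- the determinant as an additive map -/
noncomputable def detHom : K →+ Additive Kˣ :=
  AddMonoidHom.mk' (fun x => Additive.ofMul (detU P x)) fun x y => by
    rw [detU_add]; rfl

theorem detU_of_pos {e : K} (he : e ∈ P.pos) : detU P e = topLam P e he := by
  have h := detU_sub P (P.add_mem e e he he) he
  rw [add_sub_cancel_right] at h
  rw [h, topLam_add P he he, mul_div_cancel_right]

theorem coe_detU_line {v : K} (hv : P.IsLine v) : ((detU P v : Kˣ) : K) = v := by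
  rw [detU_of_pos P hv.1, topLam, IsUnit.unit_spec, hv.2, Int.toNat_one, LambdaOps.lam_one]

theorem IsExtension.map_detU {K' : Type u} [CommRing K'] [LambdaOps K'] {P' : PosStructure K'}
    {f : K →+* K'} (hf : IsExtension P P' f) (x : K) :
    Units.map (f : K →* K') (detU P x) = detU P' (f x) := by
  obtain ⟨a, b, ha, hb, rfl⟩ := P.exists_sub x
  rw [map_sub, detU_sub P ha hb, detU_sub P' (hf.pos_subset a ha) (hf.pos_subset b hb), map_div]
  congr 1 <;>
  · refine Units.ext ?_
    simp [topLam, hf.aug_comp]
    exact hf.isLambdaHom _ _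

/-- the subgroup generated by `w(u-1)` -/
def lineJ1 : AddSubgroup K :=
  AddSubgroup.closure {z | ∃ w u, P.IsLine w ∧ P.IsLine u ∧ z = w * (u - 1)}

/-- the subgroup generated by `w(u-1)(v-1)` -/
def lineJ2 : AddSubgroup K :=
  AddSubgroup.closure {z | ∃ w u v, P.IsLine w ∧ P.IsLine u ∧ P.IsLine v ∧ z = w * (u - 1) * (v - 1)}

theorem closure_mul_mem {A B : Set K} {S : AddSubgroup K}
    (h : ∀ a ∈ A, ∀ b ∈ B, a * b ∈ S) {x y : K} (hx : x ∈ AddSubgroup.closure A)
    (hy : y ∈ AddSubgroup.closure B) : x * y ∈ S := by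
  induction hx using AddSubgroup.closure_induction with
  | mem a ha =>
    induction hy using AddSubgroup.closure_induction with
    | mem b hb => exact h a ha b hb
    | zero => rw [mul_zero]; exact zero_mem _
    | add _ _ _ _ h1 h2 => rw [mul_add]; exact add_mem h1 h2
    | neg _ _ h1 => rw [mul_neg]; exact neg_mem h1
  | zero => rw [zero_mul]; exact zero_mem _
  | add _ _ _ _ h1 h2 => rw [add_mul]; exact add_mem h1 h2
  | neg _ _ h1 => rw [neg_mul]; exact neg_mem h1

/-- a multiplicative three-step filtration -/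
def lineT : ℕ → AddSubgroup K
  | 0 => lineGroup P
  | 1 => lineJ1 P
  | _ + 2 => lineJ2 P

theorem one_mem_lineT : (1 : K) ∈ lineT P 0 := AddSubgroup.subset_closure (isLine_one P)

theorem lineJ2_le_lineJ1 : lineJ2 P ≤ lineJ1 P := by
  refine (AddSubgroup.closure_le _).2 ?_
  rintro _ ⟨w, u, v, hw, hu, hv, rfl⟩
  rw [show w * (u - 1) * (v - 1) = w * v * (u - 1) - w * (u - 1) from by ring]
  exact sub_mem (AddSubgroup.subset_closure ⟨w * v, u, IsLine.mul hw hv, hu, rfl⟩)
    (AddSubgroup.subset_closure ⟨w, u, hw, hu, rfl⟩)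

theorem lineT_mul {a b : ℕ} {x y : K} (hx : x ∈ lineT P a) (hy : y ∈ lineT P b) :
    x * y ∈ lineT P (a + b) := by
  match a, b with
  | 0, 0 =>
    exact closure_mul_mem (fun a ha b hb => AddSubgroup.subset_closure (IsLine.mul ha hb)) hx hy
  | 0, 1 =>
    refine closure_mul_mem (fun a ha b hb => ?_) hx hy
    obtain ⟨w, u, hw, hu, rfl⟩ := hb
    exact AddSubgroup.subset_closure ⟨a * w, u, IsLine.mul ha hw, hu, by ring⟩
  | 0, n + 2 =>
    rw [show 0 + (n + 2) = n + 2 from by omega]
    refine closure_mul_mem (fun a ha b hb => ?_) hx hy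
    obtain ⟨w, u, v, hw, hu, hv, rfl⟩ := hb
    exact AddSubgroup.subset_closure ⟨a * w, u, v, IsLine.mul ha hw, hu, hv, by ring⟩
  | 1, 0 =>
    refine closure_mul_mem (fun a ha b hb => ?_) hx hy
    obtain ⟨w, u, hw, hu, rfl⟩ := ha
    exact AddSubgroup.subset_closure ⟨w * b, u, IsLine.mul hw hb, hu, by ring⟩
  | 1, 1 =>
    refine closure_mul_mem (fun a ha b hb => ?_) hx hy
    obtain ⟨w, u, hw, hu, rfl⟩ := ha
    obtain ⟨w', v, hw', hv, rfl⟩ := hb
    exact AddSubgroup.subset_closure ⟨w * w', u, v, IsLine.mul hw hw', hu, hv, by ring⟩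
  | 1, n + 2 =>
    rw [show 1 + (n + 2) = (n + 1) + 2 from by omega]
    refine closure_mul_mem (fun a ha b hb => ?_) hx hy
    obtain ⟨w, u, hw, hu, rfl⟩ := ha
    obtain ⟨w', u', v', hw', hu', hv', rfl⟩ := hb
    rw [show w * (u - 1) * (w' * (u' - 1) * (v' - 1)) =
      (w * w' * u) * (u' - 1) * (v' - 1) - (w * w') * (u' - 1) * (v' - 1) from by ring]
    exact sub_mem
      (AddSubgroup.subset_closure ⟨w * w' * u, u', v', IsLine.mul (IsLine.mul hw hw') hu, hu', hv', rfl⟩)
      (AddSubgroup.subset_closure ⟨w * w', u', v', IsLine.mul hw hw', hu', hv', rfl⟩)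
  | m + 2, b =>
    rw [show m + 2 + b = (m + b) + 2 from by omega]
    have hy' : y ∈ lineGroup P := by
      have hJ : lineJ1 P ≤ lineGroup P := by
        refine (AddSubgroup.closure_le _).2 ?_
        rintro _ ⟨w, u, hw, hu, rfl⟩
        rw [mul_sub, mul_one]
        exact sub_mem (AddSubgroup.subset_closure (IsLine.mul hw hu)) (AddSubgroup.subset_closure hw)
      match b with
      | 0 => exact hy
      | 1 => exact hJ hy
      | n + 2 => exact hJ (lineJ2_le_lineJ1 P hy)
    refine closure_mul_mem (fun a ha c hc => ?_) hx hy'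
    obtain ⟨w, u, v, hw, hu, hv, rfl⟩ := ha
    exact AddSubgroup.subset_closure ⟨w * c, u, v, IsLine.mul hw hc, hu, hv, by ring⟩

theorem gamma_mem_lineT {x : K} (hx : x ∈ AddSubgroup.closure {z | ∃ u, P.IsLine u ∧ z = u - 1})
    (k : ℕ) : gamma k x ∈ lineT P k := by
  induction hx using AddSubgroup.closure_induction generalizing k with
  | mem z hz =>
    obtain ⟨u, hu, rfl⟩ := hz
    rw [gamma_line_sub_one (lam_one_eq_zero_of_pos P) (fun j hj => lam_line_eq_zero hu hj)]
    match k with
    | 0 => exact one_mem_lineT P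
    | 1 => exact AddSubgroup.subset_closure ⟨1, u, isLine_one P, hu, by simp [lineSeq]⟩
    | n + 2 => exact zero_mem _
  | zero =>
    match k with
    | 0 => rw [gamma_zero_left]; exact one_mem_lineT P
    | n + 1 => rw [gamma_succ_zero]; exact zero_mem _
  | add a b _ _ ha hb =>
    rw [gamma_add']
    refine sum_mem fun i hi => ?_
    rw [mem_range] at hi
    have := lineT_mul P (ha i) (hb (k - i))
    rwa [show i + (k - i) = k from by omega] at this
  | neg a _ ha =>
    induction k using Nat.strong_induction_on with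
    | _ k ih =>
    match k with
    | 0 => rw [gamma_zero_left]; exact one_mem_lineT P
    | n + 1 =>
      rw [gamma_neg_succ]
      refine neg_mem (sum_mem fun i hi => ?_)
      rw [mem_range] at hi
      have := lineT_mul P (ih i (by omega)) (ha (n + 1 - i))
      rwa [show i + (n + 1 - i) = n + 1 from by omega] at this

theorem mem_closure_sub_one {x : K} (hx : x ∈ lineGroup P) :
    x - (P.aug x : K) ∈ AddSubgroup.closure {z | ∃ u, P.IsLine u ∧ z = u - 1} := by
  induction hx using AddSubgroup.closure_induction with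
  | mem v hv => exact AddSubgroup.subset_closure ⟨v, hv, by rw [hv.2, Int.cast_one]⟩
  | zero => simp [zero_mem]
  | add a b _ _ ha hb =>
    rw [map_add, Int.cast_add, show a + b - ((P.aug a : K) + (P.aug b : K)) =
      (a - (P.aug a : K)) + (b - (P.aug b : K)) from by ring]
    exact add_mem ha hb
  | neg a _ ha =>
    rw [map_neg, Int.cast_neg, show -a - -(P.aug a : K) = -(a - (P.aug a : K)) from by ring]
    exact neg_mem ha

theorem detHom_lineJ2 {z : K} (hz : z ∈ lineJ2 P) : detHom P z = 0 := by
  induction hz using AddSubgroup.closure_induction with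
  | mem z hz =>
    obtain ⟨w, u, v, hw, hu, hv, rfl⟩ := hz
    rw [show w * (u - 1) * (v - 1) = (w * u * v + w) - (w * u + w * v) from by ring, map_sub,
      sub_eq_zero, map_add, map_add]
    refine Additive.toMul.injective (Units.ext ?_)
    change ((detU P (w * u * v) * detU P w : Kˣ) : K) = ((detU P (w * u) * detU P (w * v) : Kˣ) : K)
    rw [Units.val_mul, Units.val_mul, coe_detU_line P (IsLine.mul (IsLine.mul hw hu) hv),
      coe_detU_line P hw, coe_detU_line P (IsLine.mul hw hu), coe_detU_line P (IsLine.mul hw hv)]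
    ring
  | zero => exact map_zero _
  | add _ _ _ _ h1 h2 => rw [map_add, h1, h2, add_zero]
  | neg _ _ h1 => rw [map_neg, h1, neg_zero]

/-- the determinant is trivial on `F²` -/
theorem detHom_eq_zero (hK : HasSplitting K P) {x : K} (hx : x ∈ gammaFiltration P 2) :
    detHom P x = 0 := by
  rw [gammaFiltration, if_neg two_ne_zero] at hx
  induction hx using AddSubgroup.closure_induction with
  | mem z hz =>
    obtain ⟨l, hl, hle, rfl⟩ := hz
    obtain ⟨L, f, hf, h⟩ := exists_split hK (l.map Prod.snd)
    have key : ∀ m : List (ℕ × K), (∀ p ∈ m, P.aug p.2 = 0 ∧ f p.2 ∈ lineGroup L.posStr) →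
        f (m.map fun p => gamma p.1 p.2).prod ∈ lineT L.posStr (m.map Prod.fst).sum := by
      intro m
      induction m with
      | nil => exact fun _ => by simpa using one_mem_lineT L.posStr
      | cons p m ih =>
        intro hm
        simp only [List.map_cons, List.prod_cons, List.sum_cons, map_mul]
        refine lineT_mul _ ?_ (ih fun q hq => hm q (List.mem_cons_of_mem p hq))
        rw [Commutes.gamma (f := f) hf.isLambdaHom]
        refine gamma_mem_lineT _ ?_ _
        have := mem_closure_sub_one L.posStr (hm p List.mem_cons_self).2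
        rwa [hf.aug_comp, (hm p List.mem_cons_self).1, Int.cast_zero, sub_zero] at this
    have h2 := key l fun p hp => ⟨hl p hp, h _ (List.mem_map_of_mem hp)⟩
    obtain ⟨c, hc⟩ := Nat.exists_eq_add_of_le' hle
    rw [hc] at h2
    have h3 := detHom_lineJ2 L.posStr h2
    refine Additive.toMul.injective ?_
    refine Units.map_injective (f := (f : K →* L.carrier)) hf.injective ?_
    change Units.map (f : K →* L.carrier) (detU P _) = _
    rw [IsExtension.map_detU P hf]
    simpa [detHom] using congr_arg Additive.toMul h3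
  | zero => exact map_zero _
  | add _ _ _ _ h1 h2 => rw [map_add, h1, h2, add_zero]
  | neg _ _ h1 => rw [map_neg, h1, neg_zero]

omit P in
/-- `λ^n(y + n) = ∑_{k ≤ n} γ^k y` -/
theorem lam_add_self (h1 : ∀ k, 2 ≤ k → LambdaOps.lam k (1 : K) = 0) (y : K) (n : ℕ) :
    LambdaOps.lam n (y + (n : K)) = ∑ k ∈ range (n + 1), gamma k y := by
  induction n with
  | zero => simp [LambdaOps.lam_zero, gamma_zero_left]
  | succ n ih =>
    rw [show y + ((n + 1 : ℕ) : K) = (y + (n : K)) + 1 from by push_cast; ring, LambdaOps.lam_add,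
      sum_range_succ, sum_range_succ, sum_eq_zero fun i hi => ?_, sum_range_succ _ (n + 1), ← ih,
      gamma_eq_lam h1]
    · rw [show n + 1 - n = 1 from by omega, Nat.sub_self, LambdaOps.lam_one, LambdaOps.lam_zero,
        show y + ((n + 1 : ℕ) : K) - 1 = y + (n : K) from by push_cast; ring]
      ring
    · rw [mem_range] at hi
      rw [h1 _ (by omega), mul_zero]

end GrothLib.Lambda
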