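import Groth.Agent.Lib.Lambda.Elementary

/-!
# The γ-filtration of an elementary extension
-/

namespace GrothLib.Lambda

open LambdaRing Finset

universe u

attribute [local instance] intBinomialOps

theorem gamma_neg_line_sub_one {R : Type u} [CommRing R] [LambdaOps R]
    (h1 : ∀ k, 2 ≤ k → LambdaOps.lam k (1 : R) = 0) {v : R}
    (hv : ∀ j, 2 ≤ j → LambdaOps.lam j v = 0) (n : ℕ) :
    gamma n (-(v - 1)) = (-(v - 1)) ^ n := by
  induction n with
  | zero => rw [gamma_zero_left, pow_zero]
  | succ n ih =>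
    rw [gamma_neg_succ, sum_range_succ, sum_eq_zero fun i hi => ?_, zero_add,
      show n + 1 - n = 1 from by omega, gamma_one', ih, pow_succ]
    · ring
    · rw [mem_range] at hi
      obtain ⟨c, hc⟩ := Nat.exists_eq_add_of_le' (show 2 ≤ n + 1 - i by omega)
      rw [hc, gamma_line_sub_one h1 hv]
      simp [lineSeq]

variable {K : Type u} [CommRing K] [LambdaOps K] (P : PosStructure K) (e : K) (r : ℕ)

/-- the candidate filtration `∑_{i ≤ r} F^{k-i}(K) (ℓ-1)^i` -/
noncomputable def extG (k : ℕ) : AddSubgroup (AdjoinRoot (KRR.extPoly P e)) :=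
  ⨆ i ∈ Finset.range (r + 1), AddSubgroup.map
    ((AddMonoidHom.mulRight ((AdjoinRoot.root (KRR.extPoly P e) - 1) ^ i)).comp
      (AdjoinRoot.of (KRR.extPoly P e)).toAddMonoidHom)
    (LambdaRing.gammaFiltration P (k - i))

variable {P e r}

theorem of_mul_pow_mem_extG {k i : ℕ} (hi : i ≤ r) {y : K} (hy : y ∈ gammaFiltration P (k - i)) :
    AdjoinRoot.of (KRR.extPoly P e) y * (AdjoinRoot.root (KRR.extPoly P e) - 1) ^ i ∈
      extG P e r k :=
  AddSubgroup.mem_iSup_of_mem i (AddSubgroup.mem_iSup_of_mem (mem_range.2 (by omega))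
    ⟨y, hy, rfl⟩)

theorem filt_mul {a b c : ℕ} (hc : c ≤ a + b) {y z : K} (hy : y ∈ gammaFiltration P a)
    (hz : z ∈ gammaFiltration P b) : y * z ∈ gammaFiltration P c := by
  rw [mem_gammaFiltration_iff] at hy hz ⊢
  exact gammaFil_antitone hc (mul_mem_gammaFil hy hz)

/-- the relation satisfied by `ℓ - 1` -/
theorem root_sub_one_relation (he : e ∈ P.pos) (hr : P.aug e = r + 1)
    (inst : LambdaOps (AdjoinRoot (KRR.extPoly P e)))
    (hext : ∀ (i : ℕ) (x : K), @LambdaOps.lam _ _ inst i (AdjoinRoot.of (KRR.extPoly P e) x) =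
      AdjoinRoot.of (KRR.extPoly P e) (LambdaOps.lam i x))
    (h1 : ∀ k, 2 ≤ k → @LambdaOps.lam _ _ inst k (1 : AdjoinRoot (KRR.extPoly P e)) = 0)
    (hroot : ∀ i : ℕ, 2 ≤ i → @LambdaOps.lam _ _ inst i (AdjoinRoot.root (KRR.extPoly P e)) = 0) :
    ∑ i ∈ range (r + 2), AdjoinRoot.of (KRR.extPoly P e) (gamma i (e - ((r + 1 : ℕ) : K))) *
      (-(AdjoinRoot.root (KRR.extPoly P e) - 1)) ^ (r + 1 - i) = 0 := by
  letI := inst
  set ι := AdjoinRoot.of (KRR.extPoly P e)
  set ℓ := AdjoinRoot.root (KRR.extPoly P e)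
  have hy : ∀ k, r < k → LambdaOps.lam k (ι e - ℓ) = 0 := by
    intro k hk
    induction k, hk using Nat.le_induction with
    | base =>
      rw [lam_eq_sum_neg_pow hroot, sub_add_cancel]
      have h := root_relation (P := P) (e := e) hr
      rw [show r.succ + 1 = r + 2 from rfl]
      calc _ = ∑ k ∈ range (r + 2), (-1) ^ (r + 1) *
            (ι ((-1 : K) ^ k * LambdaOps.lam k e) * ℓ ^ (r + 1 - k)) := by
            refine sum_congr rfl fun k hk => ?_
            rw [mem_range] at hk
            have h2 : ((-1 : AdjoinRoot (KRR.extPoly P e)) ^ (r + 1)) * (-1) ^ k = (-1) ^ (r + 1 - k) := by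
              have h4 : ((-1 : AdjoinRoot (KRR.extPoly P e)) ^ k) * (-1) ^ k = 1 := by
                rw [← mul_pow]; simp
              have h5 : (-1 : AdjoinRoot (KRR.extPoly P e)) ^ (r + 1) =
                  (-1) ^ (r + 1 - k) * (-1) ^ k := by
                rw [← pow_add]; congr 1; omega
              rw [h5, mul_assoc, h4, mul_one]
            rw [show r.succ = r + 1 from rfl, hext, neg_pow, map_mul, map_pow, map_neg, map_one]
            linear_combination (-(ι (LambdaOps.lam k e) * ℓ ^ (r + 1 - k))) * h2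
        _ = 0 := by rw [← mul_sum, h, mul_zero]
    | succ k hk ih =>
      have h := LambdaOps.lam_add (k + 1) (ι e - ℓ) ℓ
      rw [sub_add_cancel, hext, P.lam_eq_zero e he _ (by omega), map_zero, sum_range_succ,
        sum_range_succ, sum_eq_zero fun i hi => ?_, ih, zero_mul, zero_add, zero_add, Nat.sub_self,
        LambdaOps.lam_zero, mul_one] at h
      · exact h.symm
      · rw [mem_range] at hi
        rw [hroot _ (by omega), mul_zero]
  have h := gamma_sub_natCast_eq_zero h1 (d := r) hy (k := r + 1) (by omega)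
  rw [show ι e - ℓ - (r : AdjoinRoot (KRR.extPoly P e)) = ι (e - ((r + 1 : ℕ) : K)) + -(ℓ - 1) from by
      simp; ring, gamma_add'] at h
  rw [← h]
  refine sum_congr rfl fun i _ => ?_
  rw [gamma_neg_line_sub_one h1 hroot, Commutes.gamma (f := ι) fun n x => (hext n x).symm]

variable (hK : HasSplitting K P) (he : e ∈ P.pos) (hr : P.aug e = r + 1)
  (hrel : ∑ i ∈ range (r + 2), AdjoinRoot.of (KRR.extPoly P e) (gamma i (e - ((r + 1 : ℕ) : K))) *
      (-(AdjoinRoot.root (KRR.extPoly P e) - 1)) ^ (r + 1 - i) = 0)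

include hr hrel

theorem of_mul_pow_mem_extG' : ∀ (i : ℕ) {k : ℕ} {y : K}, y ∈ gammaFiltration P (k - i) →
    AdjoinRoot.of (KRR.extPoly P e) y * (AdjoinRoot.root (KRR.extPoly P e) - 1) ^ i ∈
      extG P e r k := by
  intro i
  induction i using Nat.strong_induction_on with
  | _ i ih =>
  intro k y hy
  rcases Nat.lt_or_ge r i with hi | hi
  swap
  · exact of_mul_pow_mem_extG hi hy
  set ι := AdjoinRoot.of (KRR.extPoly P e)
  set x := AdjoinRoot.root (KRR.extPoly P e) - 1
  rw [sum_range_succ', gamma_zero_left, map_one, one_mul, Nat.sub_zero, neg_pow] at hrel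
  have hx : x ^ (r + 1) = -((-1) ^ (r + 1) * ∑ j ∈ range (r + 1),
      ι (gamma (j + 1) (e - ((r + 1 : ℕ) : K))) * (-x) ^ (r + 1 - (j + 1))) := by
    have h4 : ((-1 : AdjoinRoot (KRR.extPoly P e)) ^ (r + 1)) * (-1) ^ (r + 1) = 1 := by
      rw [← mul_pow]; simp
    linear_combination ((-1 : AdjoinRoot (KRR.extPoly P e)) ^ (r + 1)) * hrel - x ^ (r + 1) * h4
  rw [show i = (r + 1) + (i - (r + 1)) from by omega, pow_add, hx, mul_sum, neg_mul, sum_mul,
    mul_neg, mul_sum]
  refine neg_mem (sum_mem fun j hj => ?_)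
  rw [mem_range] at hj
  have hg : gamma (j + 1) (e - ((r + 1 : ℕ) : K)) ∈ gammaFiltration P (j + 1) := by
    rw [mem_gammaFiltration_iff]
    exact gamma_mem_gammaFil (by rw [map_sub, map_natCast, hr]; push_cast; ring) _
  have := ih (r + 1 - (j + 1) + (i - (r + 1))) (by omega) (k := k)
    (y := y * ((-1) ^ (r + 1) * (-1) ^ (r + 1 - (j + 1)) * gamma (j + 1) (e - ((r + 1 : ℕ) : K)))) (by
      refine filt_mul (a := k - i) (b := j + 1) (by omega) hy ?_
      have := filt_mul (P := P) (a := 0) (b := j + 1) (c := j + 1) (by omega)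
        (y := (-1 : K) ^ (r + 1) * (-1) ^ (r + 1 - (j + 1))) (by simp [gammaFiltration]) hg
      exact this)
  convert this using 1
  rw [neg_pow x, map_mul, map_mul, map_mul, map_pow, map_pow, map_neg, map_one, pow_add]
  ring

theorem extG_mul {a b : ℕ} {y z : AdjoinRoot (KRR.extPoly P e)} (hy : y ∈ extG P e r a)
    (hz : z ∈ extG P e r b) : y * z ∈ extG P e r (a + b) := by
  suffices extG P e r a ≤ (extG P e r (a + b)).comap (AddMonoidHom.mulRight z) from this hy
  refine iSup₂_le fun i _ => ?_
  rintro _ ⟨a', ha', rfl⟩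
  suffices extG P e r b ≤ (extG P e r (a + b)).comap (AddMonoidHom.mulLeft
      (AdjoinRoot.of (KRR.extPoly P e) a' * (AdjoinRoot.root (KRR.extPoly P e) - 1) ^ i)) from this hz
  refine iSup₂_le fun j _ => ?_
  rintro _ ⟨b', hb', rfl⟩
  have := of_mul_pow_mem_extG' hr hrel (i + j) (k := a + b)
    (filt_mul (a := a - i) (b := b - j) (by omega) ha' hb')
  change AdjoinRoot.of (KRR.extPoly P e) a' * (AdjoinRoot.root (KRR.extPoly P e) - 1) ^ i *
    (AdjoinRoot.of (KRR.extPoly P e) b' * (AdjoinRoot.root (KRR.extPoly P e) - 1) ^ j) ∈ extG P e r (a + b)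
  convert this using 1
  rw [map_mul, pow_add]
  ring

include he hK in
theorem gammaFiltration_ext (inst : LambdaOps (AdjoinRoot (KRR.extPoly P e)))
    (Pe : @PosStructure _ _ inst)
    (hext : @IsExtension K _ _ _ _ inst P Pe (AdjoinRoot.of (KRR.extPoly P e)))
    (hline : @PosStructure.IsLine _ _ inst Pe (AdjoinRoot.root (KRR.extPoly P e)))
    (hsplit : @HasSplitting _ _ inst Pe) (k : ℕ) :
    @gammaFiltration _ _ inst Pe k = extG P e r k := by
  letI := inst
  set ι := AdjoinRoot.of (KRR.extPoly P e) with hι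
  set x := AdjoinRoot.root (KRR.extPoly P e) - 1 with hx
  let v : {a : K // P.aug a = 0} ⊕ Unit → AdjoinRoot (KRR.extPoly P e) :=
    Sum.elim (fun a => ι a.1) fun _ => x
  have hv : ∀ i, augAlgHom Pe (v i) = 0 := by
    rintro (a | _)
    · exact (hext.aug_comp a.1).trans a.2
    · change Pe.aug x = 0
      rw [hx, map_sub, hline.2, map_one, sub_self]
  have hsurj : Function.Surjective (liftG (K := ℤ) v) := by
    rw [← AlgHom.range_eq_top, eq_top_iff]
    rintro z -
    have hι' : ∀ a : K, ι a ∈ (liftG (K := ℤ) v).range := fun a => by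
      have h0 := liftG_gen (K := ℤ) v (Sum.inl ⟨a - (P.aug a : K), by simp⟩)
      have h1 : ι (a - (P.aug a : K)) ∈ (liftG (K := ℤ) v).range := ⟨_, h0⟩
      have h2 := add_mem h1 (intCast_mem (liftG (K := ℤ) v).range (P.aug a))
      rwa [map_sub, map_intCast, sub_add_cancel] at h2
    have hℓ : AdjoinRoot.root (KRR.extPoly P e) ∈ (liftG (K := ℤ) v).range := by
      have h2 := add_mem (⟨_, liftG_gen (K := ℤ) v (Sum.inr ())⟩ : x ∈ (liftG (K := ℤ) v).range)
        (one_mem (liftG (K := ℤ) v).range)
      rwa [hx, sub_add_cancel] at h2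
    induction z using AdjoinRoot.induction_on with
    | _ q =>
      induction q using Polynomial.induction_on with
      | C a => exact hι' a
      | add p q hp hq => rw [map_add]; exact add_mem hp hq
      | monomial n a _ =>
        rw [map_mul, map_pow, AdjoinRoot.mk_C, AdjoinRoot.mk_X]
        exact mul_mem (hι' a) (pow_mem hℓ _)
  have hone : (1 : AdjoinRoot (KRR.extPoly P e)) ∈ extG P e r 0 := by
    have := of_mul_pow_mem_extG (P := P) (e := e) (r := r) (k := 0) (i := 0) (Nat.zero_le _)
      (y := 1) (by simp [gammaFiltration])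
    simpa using this
  have hgen : ∀ p : GVar ({a : K // P.aug a = 0} ⊕ Unit),
      gamma (p.deg + 1) (v p.idx) ∈ extG P e r (p.deg + 1) := by
    rintro ⟨a | _, d⟩
    · have := of_mul_pow_mem_extG (P := P) (e := e) (r := r) (k := d + 1) (i := 0) (Nat.zero_le _)
        (y := gamma (d + 1) a.1)
        (by rw [Nat.sub_zero, mem_gammaFiltration_iff]; exact gamma_mem_gammaFil a.2 _)
      rw [pow_zero, mul_one, Commutes.gamma (f := ι) hext.isLambdaHom] at this
      exact this
    · change gamma (d + 1) x ∈ extG P e r (d + 1)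
      rw [hx, gamma_line_sub_one (lam_one_eq_zero_of_pos Pe) fun j hj => lam_line_eq_zero hline hj]
      rcases d with _ | d
      · have := of_mul_pow_mem_extG' hr hrel 1 (k := 1) (y := 1) (by simp [gammaFiltration])
        simpa [lineSeq] using this
      · simp [lineSeq, zero_mem]
  refine le_antisymm (fun z hz => ?_) ?_
  · rw [mem_gammaFiltration_iff] at hz
    have hz' : z ∈ gammaFil ((augAlgHom Pe : _ →ₐ[ℤ] ℤ) : _ →+* ℤ) k := hz
    rw [gammaFil_eq_map (augAlgHom Pe) v intBinomial_isBinomial (isSpecial_of_hasSplitting hsplit)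
      (isAugLambdaAlg_aug hsplit) hv hsurj] at hz'
    obtain ⟨Z, hZ, rfl⟩ := (Ideal.mem_map_iff_of_surjective _ hsurj).1 hz'
    rw [MvPolynomial.as_sum Z, map_sum]
    refine sum_mem fun d hd => ?_
    have hw := hZ d (MvPolynomial.mem_support_iff.1 hd)
    have hmon : ∀ d : GVar ({a : K // P.aug a = 0} ⊕ Unit) →₀ ℕ,
        liftG (K := ℤ) v (MvPolynomial.monomial d 1) ∈ extG P e r (Finsupp.weight gWt d) := by
      intro d
      induction d using Finsupp.induction with
      | zero => simpa using hone
      | single_add p n d hpd hn0 ih =>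
        rw [show (MvPolynomial.monomial (Finsupp.single p n + d) (1 : ℤ)) =
          MvPolynomial.X p ^ n * MvPolynomial.monomial d 1 from by
            rw [MvPolynomial.X_pow_eq_monomial, MvPolynomial.monomial_mul, one_mul],
          map_mul, map_pow, liftG_X, map_add]
        refine extG_mul hr hrel ?_ ih
        rw [Finsupp.weight_apply, Finsupp.sum_single_index (by simp), smul_eq_mul]
        clear ih hn0
        induction n with
        | zero => simpa using hone
        | succ n ihn =>
          rw [pow_succ, Nat.succ_mul]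
          exact extG_mul hr hrel ihn (hgen p)
    rw [show MvPolynomial.monomial d (MvPolynomial.coeff d Z) =
      (MvPolynomial.coeff d Z) • MvPolynomial.monomial d (1 : ℤ) from by
        rw [MvPolynomial.smul_monomial, smul_eq_mul, mul_one], map_smul]
    refine zsmul_mem ?_ _
    have hmono : ∀ {a b : ℕ}, a ≤ b → extG P e r b ≤ extG P e r a := by
      intro a b hab
      refine iSup₂_mono fun i _ => AddSubgroup.map_mono fun y hy => ?_
      simp only [mem_gammaFiltration_iff] at hy ⊢
      exact gammaFil_antitone (by omega) hy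
    exact hmono hw (hmon d)
  · refine iSup₂_le fun i hi => ?_
    rintro _ ⟨y, hy, rfl⟩
    rw [mem_gammaFiltration_iff]
    have h1 : ι y ∈ gammaFil Pe.aug (k - i) := by
      rw [SetLike.mem_coe, gammaFiltration] at hy
      split at hy
      · rename_i h0
        rw [h0, gammaFil_zero]; trivial
      · induction hy using AddSubgroup.closure_induction with
        | mem z hz =>
          obtain ⟨l, hl, hle, rfl⟩ := hz
          refine Ideal.subset_span ⟨l.map fun p => (p.1, ι p.2), ?_, ?_, ?_⟩
          · intro p hp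
            obtain ⟨q, hq, rfl⟩ := List.mem_map.1 hp
            exact (hext.aug_comp _).trans (hl q hq)
          · simpa [List.map_map, Function.comp_def] using hle
          · rw [map_list_prod, List.map_map, List.map_map]
            congr 1
            exact List.map_congr_left fun p _ => Commutes.gamma hext.isLambdaHom p.1 p.2
        | zero => rw [map_zero]; exact zero_mem _
        | add _ _ _ _ h1 h2 => rw [map_add]; exact add_mem h1 h2
        | neg _ _ h1 => rw [map_neg]; exact neg_mem h1
    have h2 : x ^ i ∈ gammaFil Pe.aug i := by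
      clear h1 hy hi
      induction i with
      | zero => rw [gammaFil_zero]; trivial
      | succ i ih =>
        rw [pow_succ]
        refine mul_mem_gammaFil ih ?_
        rw [← gamma_one' x]
        exact gamma_mem_gammaFil (hv (Sum.inr ())) 1
    exact gammaFil_antitone (by omega) (mul_mem_gammaFil h1 h2)

end GrothLib.Lambda
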