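import Groth.Agent.Lib.Lambda.Split
import Groth.Prelude.Def_KRR
import Mathlib.RingTheory.AdjoinRoot
import Mathlib.RingTheory.PowerSeries.WellKnown
import Mathlib.Algebra.Group.ForwardDiff

/-!
# The elementary extension `K_e = K[T]/(p_e)` of a λ-ring
-/

namespace GrothLib.Lambda

open LambdaRing Finset

universe u v

section General

variable {K : Type u} [CommRing K] [LambdaOps K]

/-- removing a line element from `x + v` -/
theorem lam_eq_sum_neg_pow {v : K} (hv : ∀ j, 2 ≤ j → LambdaOps.lam j v = 0) (x : K) :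
    ∀ n, LambdaOps.lam n x =
      ∑ k ∈ range (n + 1), (-v) ^ (n - k) * LambdaOps.lam k (x + v) := by
  intro n
  induction n with
  | zero => simp [LambdaOps.lam_zero]
  | succ n ih =>
    have h : LambdaOps.lam (n + 1) (x + v) = LambdaOps.lam (n + 1) x + LambdaOps.lam n x * v := by
      rw [LambdaOps.lam_add, sum_range_succ, sum_range_succ, sum_eq_zero fun i hi => ?_]
      · rw [zero_add, show n + 1 - n = 1 from by omega, Nat.sub_self, LambdaOps.lam_one,
          LambdaOps.lam_zero, mul_one, add_comm]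
      · rw [mem_range] at hi
        rw [hv _ (by omega), mul_zero]
    rw [sum_range_succ, Nat.sub_self, pow_zero, one_mul, h]
    have h2 : ∑ k ∈ range (n + 1), (-v) ^ (n + 1 - k) * LambdaOps.lam k (x + v)
        = (-v) * LambdaOps.lam n x := by
      rw [ih, mul_sum]
      exact sum_congr rfl fun k hk => by
        rw [mem_range] at hk
        rw [show n + 1 - k = (n - k) + 1 from by omega, pow_succ]; ring
    rw [h2]; ring

theorem constantCoeff_rescale_lamSeries (x : K) :
    PowerSeries.constantCoeff (PowerSeries.rescale (-1 : K) (lamSeries x)) = 1 := by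
  rw [← PowerSeries.coeff_zero_eq_constantCoeff_apply, PowerSeries.coeff_rescale, pow_zero, one_mul,
    PowerSeries.coeff_zero_eq_constantCoeff_apply, constantCoeff_lamSeries]

/-- the defining recursion of `σ^i` -/
theorem sigma_recursion (x : K) (i : ℕ) :
    ∑ k ∈ range (i + 1), ((-1 : K) ^ k * LambdaOps.lam k x) * KRR.sigma (i - k) x =
      if i = 0 then 1 else 0 := by
  have h : PowerSeries.rescale (-1 : K) (lamSeries x) * KRR.sigmaSeries x = 1 :=
    PowerSeries.mul_invOfUnit _ _ (by simpa using constantCoeff_rescale_lamSeries x)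
  have h2 := congr_arg (PowerSeries.coeff i) h
  rw [PowerSeries.coeff_mul, Finset.Nat.sum_antidiagonal_eq_sum_range_succ_mk,
    PowerSeries.coeff_one] at h2
  rw [← h2]
  refine sum_congr rfl fun k _ => ?_
  simp [PowerSeries.coeff_rescale, lamSeries, KRR.sigma]

theorem aug_sigma {P : PosStructure K} (hK : HasSplitting K P) {e : K} (he : e ∈ P.pos) {r : ℕ}
    (hr : P.aug e = r + 1) (j : ℕ) : P.aug (KRR.sigma j e) = ((r + j).choose j : ℤ) := by
  have hn : (P.aug e).toNat = r + 1 := by omega
  have h : PowerSeries.rescale (-1 : K) (lamSeries e) * KRR.sigmaSeries e = 1 :=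
    PowerSeries.mul_invOfUnit _ _ (by simpa using constantCoeff_rescale_lamSeries e)
  have h1 : PowerSeries.map P.aug (PowerSeries.rescale (-1 : K) (lamSeries e))
      = ((1 : PowerSeries ℤ) - PowerSeries.X) ^ (r + 1) := by
    have h3 : ((1 : PowerSeries ℤ) - PowerSeries.X) ^ (r + 1) =
        ((((1 : Polynomial ℤ) + Polynomial.C (-1) * Polynomial.X) ^ (r + 1) : Polynomial ℤ) :
          PowerSeries ℤ) := by
      simp [sub_eq_add_neg]
    ext n
    rw [h3, Polynomial.coeff_coe]
    have h4 : ((1 : Polynomial ℤ) + Polynomial.C (-1) * Polynomial.X) ^ (r + 1)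
        = ((1 + Polynomial.X : Polynomial ℤ) ^ (r + 1)).comp (Polynomial.C (-1) * Polynomial.X) := by
      simp
    rw [h4, Polynomial.comp_C_mul_X_coeff, Polynomial.coeff_one_add_X_pow]
    simp [PowerSeries.coeff_rescale, lamSeries, aug_lam hK he, hn, mul_comm]
  have h5 := congr_arg (PowerSeries.map P.aug) h
  rw [map_mul, map_one, h1, ← PowerSeries.invOneSubPow_inv_eq_one_sub_pow] at h5
  have h6 : PowerSeries.map P.aug (KRR.sigmaSeries e) =
      (PowerSeries.invOneSubPow ℤ (r + 1)).val := by
    refine (eq_comm.1 ?_)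
    exact left_inv_eq_right_inv (Units.mul_inv _) h5
  have h7 := congr_arg (PowerSeries.coeff j) h6
  rw [PowerSeries.coeff_map, PowerSeries.invOneSubPow_val_succ_eq_mk_add_choose,
    PowerSeries.coeff_mk] at h7
  rw [KRR.sigma, h7, Nat.choose_symm_add]

end General

section Ext

variable {K : Type u} [CommRing K] [LambdaOps K] {P : PosStructure K} {e : K} {r : ℕ}

theorem root_relation (hr : P.aug e = r + 1) :
    ∑ k ∈ range (r + 2), AdjoinRoot.of (KRR.extPoly P e) ((-1 : K) ^ k * LambdaOps.lam k e) *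
      AdjoinRoot.root (KRR.extPoly P e) ^ (r + 1 - k) = 0 := by
  have hn : (P.aug e).toNat = r + 1 := by omega
  have h := AdjoinRoot.eval₂_root (KRR.extPoly P e)
  conv at h => lhs; arg 3; rw [KRR.extPoly, hn]
  rw [Polynomial.eval₂_finsetSum] at h
  simp only [Polynomial.eval₂_mul, Polynomial.eval₂_C, Polynomial.eval₂_X_pow] at h
  exact h

omit [LambdaOps K] in
theorem functional_of_mul {p : Polynomial K} (f : AdjoinRoot p →ₗ[K] K) (a : K) (x : AdjoinRoot p) :
    f (AdjoinRoot.of p a * x) = a * f x := by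
  rw [← AdjoinRoot.algebraMap_eq, ← Algebra.smul_def, map_smul, smul_eq_mul]

variable (he : e ∈ P.pos) (hr : P.aug e = r + 1)
  (f : AdjoinRoot (KRR.extPoly P e) →ₗ[K] K)
  (hf : ∀ i : ℕ, i ≤ r → f (AdjoinRoot.root (KRR.extPoly P e) ^ i) = KRR.sigma i e)

include he hr hf

theorem functional_root_pow (i : ℕ) :
    f (AdjoinRoot.root (KRR.extPoly P e) ^ i) = KRR.sigma i e := by
  induction i using Nat.strong_induction_on with
  | _ i ih =>
  rcases Nat.lt_or_ge r i with hi | hi
  swap
  · exact hf i hi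
  set c : ℕ → K := fun k => (-1 : K) ^ k * LambdaOps.lam k e
  have h1 : ∑ k ∈ range (r + 2), c k * f (AdjoinRoot.root (KRR.extPoly P e) ^ (i - k)) = 0 := by
    have h0 := congr_arg (fun z => f (z * AdjoinRoot.root (KRR.extPoly P e) ^ (i - (r + 1))))
      (root_relation (P := P) (e := e) hr)
    simp only [zero_mul, map_zero, sum_mul, map_sum] at h0
    rw [← h0]
    refine sum_congr rfl fun k hk => ?_
    rw [mem_range] at hk
    rw [mul_assoc (AdjoinRoot.of _ _), ← pow_add, functional_of_mul,
      show r + 1 - k + (i - (r + 1)) = i - k from by omega]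
  have h2 : ∑ k ∈ range (r + 2), c k * KRR.sigma (i - k) e = 0 := by
    have h0 := sigma_recursion e i
    rw [if_neg (by omega)] at h0
    rw [← h0]
    refine sum_subset (range_mono (by omega)) fun k _ hk => ?_
    rw [mem_range, not_lt] at hk
    simp only [c, P.lam_eq_zero e he k (by rw [hr]; omega), mul_zero, zero_mul]
  rw [sum_range_succ'] at h1 h2
  have h3 : ∑ k ∈ range (r + 1), c (k + 1) * f (AdjoinRoot.root (KRR.extPoly P e) ^ (i - (k + 1)))
      = ∑ k ∈ range (r + 1), c (k + 1) * KRR.sigma (i - (k + 1)) e :=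
    sum_congr rfl fun k _ => by rw [ih (i - (k + 1)) (by omega)]
  rw [h3] at h1
  have hc : c 0 = 1 := by simp [c, LambdaOps.lam_zero]
  rw [hc, Nat.sub_zero, one_mul] at h1 h2
  linear_combination h1 - h2

theorem functional_inv_pow (linv : AdjoinRoot (KRR.extPoly P e))
    (hlinv : linv * AdjoinRoot.root (KRR.extPoly P e) = 1) (n : ℕ) (h1n : 1 ≤ n) (hn : n ≤ r) :
    f (linv ^ n) = 0 := by
  induction n using Nat.strong_induction_on with
  | _ n ih =>
  set ℓ := AdjoinRoot.root (KRR.extPoly P e)
  set c : ℕ → K := fun k => (-1 : K) ^ k * LambdaOps.lam k e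
  obtain ⟨i, hi⟩ : ∃ i, r + 1 = i + n := ⟨r + 1 - n, by omega⟩
  have hcancel : ∀ a b : ℕ, linv ^ (a + b) * ℓ ^ a = linv ^ b := fun a b => by
    rw [pow_add, mul_right_comm, ← mul_pow, hlinv, one_pow, one_mul]
  have hcancel' : ∀ a b : ℕ, linv ^ a * ℓ ^ (a + b) = ℓ ^ b := fun a b => by
    rw [pow_add, ← mul_assoc, ← mul_pow, hlinv, one_pow, one_mul]
  have h1 : ∑ k ∈ range (i + 1 + n), c k * f (linv ^ n * ℓ ^ (r + 1 - k)) = 0 := by
    have h0 := congr_arg (fun z => f (linv ^ n * z)) (root_relation (P := P) (e := e) hr)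
    simp only [mul_zero, map_zero, mul_sum, map_sum] at h0
    rw [← h0, show r + 2 = i + 1 + n from by omega]
    exact sum_congr rfl fun k _ => by rw [mul_left_comm, functional_of_mul]
  rw [sum_range_add] at h1
  have h2 : ∑ k ∈ range (i + 1), c k * f (linv ^ n * ℓ ^ (r + 1 - k)) = 0 := by
    have h0 := sigma_recursion e i
    rw [if_neg (by omega)] at h0
    rw [← h0]
    refine sum_congr rfl fun k hk => ?_
    rw [mem_range] at hk
    rw [show r + 1 - k = n + (i - k) from by omega, hcancel', functional_root_pow he hr f hf]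
  have h3 : ∀ s ∈ range n, c (i + 1 + s) * f (linv ^ n * ℓ ^ (r + 1 - (i + 1 + s)))
      = c (i + 1 + s) * f (linv ^ (s + 1)) := fun s hs => by
    rw [mem_range] at hs
    rw [show r + 1 - (i + 1 + s) = n - (s + 1) from by omega,
      show linv ^ n = linv ^ ((n - (s + 1)) + (s + 1)) from by congr 1; omega, hcancel]
  rw [h2, zero_add, sum_congr rfl h3, show n = (n - 1) + 1 from by omega, sum_range_succ,
    sum_eq_zero fun s hs => ?_, zero_add, show i + 1 + (n - 1) = r + 1 from by omega,
    show n - 1 + 1 = n from by omega] at h1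
  · have hu : IsUnit (c (r + 1)) := by
      refine ((IsUnit.neg isUnit_one).pow _).mul ?_
      have := P.isUnit_lam e he
      rwa [show (P.aug e).toNat = r + 1 from by omega] at this
    exact hu.mul_right_eq_zero.1 h1
  · rw [mem_range] at hs
    rw [ih (s + 1) (by omega) (by omega) (by omega), mul_zero]

theorem functional_lam_sub_root (inst : LambdaOps (AdjoinRoot (KRR.extPoly P e)))
    (hext : ∀ (i : ℕ) (x : K), @LambdaOps.lam _ _ inst i (AdjoinRoot.of (KRR.extPoly P e) x) =
      AdjoinRoot.of (KRR.extPoly P e) (LambdaOps.lam i x))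
    (hroot : ∀ i : ℕ, 2 ≤ i → @LambdaOps.lam _ _ inst i (AdjoinRoot.root (KRR.extPoly P e)) = 0)
    (i : ℕ) :
    f (@LambdaOps.lam _ _ inst i (AdjoinRoot.of (KRR.extPoly P e) e -
      AdjoinRoot.root (KRR.extPoly P e))) = if i = 0 then 1 else 0 := by
  letI := inst
  rw [lam_eq_sum_neg_pow hroot, sub_add_cancel, map_sum]
  simp only [hext]
  have h : ∀ k ∈ range (i + 1), f ((-AdjoinRoot.root (KRR.extPoly P e)) ^ (i - k) *
      AdjoinRoot.of (KRR.extPoly P e) (LambdaOps.lam k e))
      = (-1 : K) ^ i * (((-1 : K) ^ k * LambdaOps.lam k e) * KRR.sigma (i - k) e) := fun k hk => by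
    rw [mem_range] at hk
    rw [neg_pow, mul_comm, ← mul_assoc,
      show ((-1 : AdjoinRoot (KRR.extPoly P e)) ^ (i - k)) = AdjoinRoot.of (KRR.extPoly P e) ((-1) ^ (i - k)) from by simp,
      ← map_mul, functional_of_mul, functional_root_pow he hr f hf,
      show (-1 : K) ^ i = (-1) ^ (i - k) * (-1) ^ k from by rw [← pow_add]; congr 1; omega]
    have : ((-1 : K) ^ k) * (-1) ^ k = 1 := by rw [← mul_pow]; simp
    linear_combination (-(((-1 : K) ^ (i - k)) * LambdaOps.lam k e * KRR.sigma (i - k) e)) * this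
  rw [sum_congr rfl h, ← mul_sum, sigma_recursion]
  split
  · subst i; simp
  · simp

end Ext

end GrothLib.Lambda
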