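import Groth.Agent.Lib.Lambda.Extract

/-!
# ψ and the weight filtration; the binomial λ-ring of integers
-/

namespace GrothLib.Lambda

open LambdaRing MvPolynomial

universe u v w

/-- the binomial λ-structure on the integers -/
@[reducible] noncomputable def intBinomialOps : LambdaOps ℤ := binomialLambdaOps ℤ

attribute [local instance] intBinomialOps

theorem intBinomial_isBinomial : IsBinomial ℤ := fun _ _ => rfl

theorem intBinomial_isSpecial : IsSpecial ℤ := isSpecial_of_isBinomial intBinomial_isBinomial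

variable {K : Type u} [CommRing K] [LambdaOps K] [BinomialRing K] {ι : Type v}

/-- `ψ^j Z ≡ j^n Z` in the free λ-ring -/
theorem adams_congr_gIdeal (hKb : IsBinomial K) {n : ℕ} {Z : MvPolynomial (GVar ι) K}
    (hZ : Z ∈ gIdeal n) (j : ℕ) (hj : 1 ≤ j) :
    adamsOp j Z - (j : MvPolynomial (GVar ι) K) ^ n * Z ∈ gIdeal (n + 1) := by
  have := BinomialRing.toIsAddTorsionFree (R := K)
  obtain ⟨N, hN⟩ := mem_gIdeal_of_piG (n + 1)
    (adamsOp j Z - (j : MvPolynomial (GVar ι) K) ^ n * Z)
  refine hN ?_
  have e : piG N (adamsOp j Z) = adamsOp j (piG N Z) := (commutes_piG hKb N).adamsOp _ Z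
  refine (map_mem_wtIdeal_iff algebraMap_rationalise_injective).1 ?_
  have e' : MvPolynomial.map (algebraMap K (Rationalise K)) (adamsOp j (piG N Z)) = adamsOp _ _ :=
    (commutes_embL K _).adamsOp _ (piG N Z)
  simp only [map_sub, map_mul, map_pow, map_natCast, e, e']
  rw [adamsOp_L _ _ hj]
  exact psiL_congr j ((map_mem_wtIdeal_iff algebraMap_rationalise_injective).2 (piG_mem N hZ))

end GrothLib.Lambda
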