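import Groth.Agent.Lib.Lambda.Psi
import Groth.Agent.Lib.Lambda.PsiFilt
import Mathlib.Data.Finset.Insert

/-!
# λ-rings with positive structure and the splitting property
-/

namespace GrothLib.Lambda

open LambdaRing MvPolynomial Finset

universe u

attribute [local instance] intBinomialOps

variable {K : Type u} [CommRing K] [LambdaOps K] {P : PosStructure K}

theorem lam_line_eq_zero {v : K} (hv : P.IsLine v) {j : ℕ} (hj : 2 ≤ j) :
    LambdaOps.lam j v = 0 :=
  P.lam_eq_zero v hv.1 j (by rw [hv.2]; exact_mod_cast hj)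

theorem isLine_one (P : PosStructure K) : P.IsLine (1 : K) :=
  ⟨by simpa using P.natCast_mem 1 Nat.one_pos, map_one _⟩

theorem IsLine.mul {v w : K} (hv : P.IsLine v) (hw : P.IsLine w) : P.IsLine (v * w) :=
  ⟨P.mul_mem v w hv.1 hw.1, by rw [map_mul, hv.2, hw.2, one_mul]⟩

theorem lam_one_eq_zero_of_pos (P : PosStructure K) : ∀ j, 2 ≤ j → LambdaOps.lam j (1 : K) = 0 :=
  fun _ hj => lam_line_eq_zero (isLine_one P) hj

theorem adams_succ (P : PosStructure K) (k : ℕ) (x : K) : adams P (k + 1) x = adamsOp (k + 1) x := by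
  have hc : PowerSeries.constantCoeff (lamSeries x) = 1 := constantCoeff_lamSeries x
  set R := PowerSeries.rescale (-1 : K) with hR
  have hinv : (R (lamSeries x)).invOfUnit 1 = R ((lamSeries x).invOfUnit 1) := by
    have h1 : R (lamSeries x) * R ((lamSeries x).invOfUnit 1) = 1 := by
      rw [← map_mul, PowerSeries.mul_invOfUnit _ _ (by simpa using hc), map_one]
    have h2 : (R (lamSeries x)).invOfUnit 1 * R (lamSeries x) = 1 := by
      refine PowerSeries.invOfUnit_mul _ _ ?_
      rw [← PowerSeries.coeff_zero_eq_constantCoeff_apply, PowerSeries.coeff_rescale, pow_zero, one_mul,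
        PowerSeries.coeff_zero_eq_constantCoeff_apply, hc]
      rfl
    calc (R (lamSeries x)).invOfUnit 1
        = (R (lamSeries x)).invOfUnit 1 * (R (lamSeries x) * R ((lamSeries x).invOfUnit 1)) := by
          rw [h1, mul_one]
      _ = R ((lamSeries x).invOfUnit 1) := by rw [← mul_assoc, h2, one_mul]
  have hder : PowerSeries.derivative K (R (lamSeries x)) =
      PowerSeries.C (-1 : K) * R (PowerSeries.derivative K (lamSeries x)) := by
    ext n
    simp [hR, PowerSeries.coeff_derivative, PowerSeries.coeff_rescale, pow_succ]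
    ring
  rw [adams, adamsSeries, map_sub, PowerSeries.coeff_C, if_neg (Nat.succ_ne_zero k), zero_sub,
    mul_assoc, PowerSeries.coeff_succ_X_mul, hder, hinv, mul_assoc, ← map_mul,
    PowerSeries.coeff_C_mul, PowerSeries.coeff_rescale, adamsOp, logDerivSeries]
  ring

theorem adams_zero (P : PosStructure K) (x : K) : adams P 0 x = (P.aug x : K) := by
  rw [adams, adamsSeries, map_sub, PowerSeries.coeff_C, if_pos rfl, mul_assoc,
    PowerSeries.coeff_zero_X_mul, sub_zero]

theorem adams_line {v : K} (hv : P.IsLine v) (j : ℕ) : adams P j v = v ^ j := by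
  rcases j with _ | k
  · rw [adams_zero, hv.2, Int.cast_one, pow_zero]
  · rw [adams_succ]; exact adamsOp_line (fun i hi => lam_line_eq_zero hv hi) (Nat.le_add_left 1 k)

/-- the additive subgroup generated by the line elements -/
def lineGroup (P : PosStructure K) : AddSubgroup K := AddSubgroup.closure {v | P.IsLine v}

theorem IsExtension.map_line {K' : Type u} [CommRing K'] [LambdaOps K'] {P' : PosStructure K'}
    {f : K →+* K'} (hf : IsExtension P P' f) {v : K} (hv : P.IsLine v) : P'.IsLine (f v) :=
  ⟨hf.pos_subset v hv.1, by rw [hf.aug_comp, hv.2]⟩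

theorem IsExtension.map_lineGroup {K' : Type u} [CommRing K'] [LambdaOps K'] {P' : PosStructure K'}
    {f : K →+* K'} (hf : IsExtension P P' f) {x : K} (hx : x ∈ lineGroup P) :
    f x ∈ lineGroup P' := by
  induction hx using AddSubgroup.closure_induction with
  | mem v hv => exact AddSubgroup.subset_closure (IsExtension.map_line hf hv)
  | zero => rw [map_zero]; exact zero_mem _
  | add _ _ _ _ ha hb => rw [map_add]; exact add_mem ha hb
  | neg _ _ ha => rw [map_neg]; exact neg_mem ha

theorem isExtension_id (P : PosStructure K) : IsExtension P P (RingHom.id K) :=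
  ⟨fun _ _ => rfl, fun _ _ h => h, fun _ => rfl, fun _ h => h⟩

theorem isExtension_comp {K₂ K₃ : Type u} [CommRing K₂] [LambdaOps K₂] [CommRing K₃] [LambdaOps K₃]
    {P₂ : PosStructure K₂} {P₃ : PosStructure K₃} {f : K →+* K₂} {g : K₂ →+* K₃}
    (hg : IsExtension P₂ P₃ g) (hf : IsExtension P P₂ f) : IsExtension P P₃ (g.comp f) :=
  ⟨fun i x => by rw [RingHom.comp_apply, RingHom.comp_apply, hf.isLambdaHom i x,
      hg.isLambdaHom i (f x)],
    hg.injective.comp hf.injective, fun x => (hg.aug_comp (f x)).trans (hf.aug_comp x),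
    fun e he => hg.pos_subset _ (hf.pos_subset e he)⟩

/-- finitely many elements can be split simultaneously -/
theorem exists_split (hK : HasSplitting K P) (s : List K) :
    ∃ (L : PosLambdaRing.{u}) (f : K →+* L.carrier), IsExtension P L.posStr f ∧
      ∀ x ∈ s, f x ∈ lineGroup L.posStr := by
  obtain ⟨C, hC, hsplit⟩ := hK
  suffices ∃ L ∈ C, ∃ f : K →+* L.carrier, IsExtension P L.posStr f ∧
      ∀ x ∈ s, f x ∈ lineGroup L.posStr by
    obtain ⟨L, -, f, hf, h⟩ := this
    exact ⟨L, f, hf, h⟩
  have one : ∀ L ∈ C, ∀ e ∈ L.posStr.pos, ∃ L' ∈ C, ∃ g : L.carrier →+* L'.carrier,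
      IsExtension L.posStr L'.posStr g ∧ g e ∈ lineGroup L'.posStr := by
    intro L hL e he
    obtain ⟨L', hL', g, hg, t, ht, hsum⟩ := hsplit L hL e he
    refine ⟨L', hL', g, hg, ?_⟩
    rw [← hsum]
    exact AddSubgroup.multiset_sum_mem _ _ fun v hv => AddSubgroup.subset_closure (ht v hv)
  induction s with
  | nil => exact ⟨_, hC, RingHom.id K, isExtension_id P, by simp⟩
  | cons x s ih =>
    obtain ⟨L, hL, f, hf, h⟩ := ih
    obtain ⟨e₁, e₂, he₁, he₂, rfl⟩ := P.exists_sub x
    obtain ⟨L₁, hL₁, g₁, hg₁, h₁⟩ := one L hL (f e₁) (hf.pos_subset _ he₁)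
    obtain ⟨L₂, hL₂, g₂, hg₂, h₂⟩ := one L₁ hL₁ (g₁ (f e₂))
      (hg₁.pos_subset _ (hf.pos_subset _ he₂))
    refine ⟨L₂, hL₂, (g₂.comp g₁).comp f, isExtension_comp (isExtension_comp hg₂ hg₁) hf, ?_⟩
    intro y hy
    rcases List.mem_cons.1 hy with rfl | hy
    · simp only [RingHom.comp_apply, map_sub]
      exact sub_mem (IsExtension.map_lineGroup hg₂ h₁) h₂
    · exact IsExtension.map_lineGroup hg₂ (IsExtension.map_lineGroup hg₁ (h y hy))

/-- a positive element is, in some extension, the sum of `ε e` line elements -/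
theorem exists_split_pos (hK : HasSplitting K P) {e : K} (he : e ∈ P.pos) :
    ∃ (L : PosLambdaRing.{u}) (f : K →+* L.carrier), IsExtension P L.posStr f ∧
      ∃ t : Multiset L.carrier, (∀ v ∈ t, L.posStr.IsLine v) ∧ t.sum = f e := by
  obtain ⟨C, hC, hsplit⟩ := hK
  obtain ⟨L, -, f, hf, ht⟩ := hsplit _ hC e he
  exact ⟨L, f, hf, ht⟩

theorem card_of_split {t : Multiset K} (ht : ∀ v ∈ t, P.IsLine v) :
    (P.aug t.sum).toNat = Multiset.card t := by
  rw [map_multiset_sum, Multiset.map_congr rfl (g := fun _ => (1 : ℤ)) fun v hv => (ht v hv).2,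
    Multiset.map_const', Multiset.sum_replicate, nsmul_one, Int.toNat_natCast]

theorem adams_add (P : PosStructure K) (j : ℕ) (x y : K) :
    adams P j (x + y) = adams P j x + adams P j y := by
  rcases j with _ | k
  · simp [adams_zero]
  · simp only [adams_succ]; exact adamsOp_add _ _ _

/-- `ψ^j` as an additive map -/
noncomputable def adamsAddHom (P : PosStructure K) (j : ℕ) : K →+ K :=
  AddMonoidHom.mk' (adams P j) (adams_add P j)

theorem IsExtension.map_adams {K' : Type u} [CommRing K'] [LambdaOps K'] {P' : PosStructure K'}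
    {f : K →+* K'} (hf : IsExtension P P' f) (j : ℕ) (x : K) :
    f (adams P j x) = adams P' j (f x) := by
  rcases j with _ | k
  · rw [adams_zero, adams_zero, map_intCast, hf.aug_comp]
  · rw [adams_succ, adams_succ]
    exact Commutes.adamsOp hf.isLambdaHom _ x

theorem adams_pow_line {v : K} (hv : P.IsLine v) (i j : ℕ) :
    adams P i (adams P j v) = adams P (i * j) v := by
  have : P.IsLine (v ^ j) := by
    induction j with
    | zero => rw [pow_zero]; exact isLine_one P
    | succ j ih => rw [pow_succ]; exact IsLine.mul ih hv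
  rw [adams_line hv, adams_line hv, adams_line this, ← pow_mul, mul_comm]

theorem adams_mul (hK : HasSplitting K P) (j : ℕ) (x y : K) :
    adams P j (x * y) = adams P j x * adams P j y := by
  obtain ⟨L, f, hf, h⟩ := exists_split hK [x, y]
  refine hf.injective ?_
  rw [map_mul, IsExtension.map_adams hf, IsExtension.map_adams hf, IsExtension.map_adams hf, map_mul]
  have key : ∀ a ∈ lineGroup L.posStr, ∀ b ∈ lineGroup L.posStr,
      adamsAddHom L.posStr j (a * b) = adamsAddHom L.posStr j a * adamsAddHom L.posStr j b := by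
    intro a ha b hb
    induction ha using AddSubgroup.closure_induction with
    | mem v hv =>
      induction hb using AddSubgroup.closure_induction with
      | mem w hw =>
        change adams _ j (v * w) = adams _ j v * adams _ j w
        rw [adams_line hv, adams_line hw, adams_line (IsLine.mul hv hw), mul_pow]
      | zero => simp
      | add _ _ _ _ h1 h2 => rw [mul_add, map_add, h1, h2, map_add, mul_add]
      | neg _ _ h1 => rw [mul_neg, map_neg, h1, map_neg, mul_neg]
    | zero => simp
    | add _ _ _ _ h1 h2 => rw [add_mul, map_add, h1, h2, map_add, add_mul]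
    | neg _ _ h1 => rw [neg_mul, map_neg, h1, map_neg, neg_mul]
  exact key _ (h x (by simp)) _ (h y (by simp))

theorem adams_adams (hK : HasSplitting K P) (i j : ℕ) (x : K) :
    adams P i (adams P j x) = adams P (i * j) x := by
  obtain ⟨L, f, hf, h⟩ := exists_split hK [x]
  refine hf.injective ?_
  rw [IsExtension.map_adams hf, IsExtension.map_adams hf, IsExtension.map_adams hf]
  have key : ∀ a ∈ lineGroup L.posStr, adamsAddHom L.posStr i (adamsAddHom L.posStr j a) =
      adamsAddHom L.posStr (i * j) a := by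
    intro a ha
    induction ha using AddSubgroup.closure_induction with
    | mem v hv => exact adams_pow_line hv i j
    | zero => simp
    | add _ _ _ _ h1 h2 => simp [h1, h2]
    | neg _ _ h1 => simp [h1]
  exact key _ (h x (by simp))

/-- the elements on which `f` commutes with the `λ^n` form an additive subgroup -/
def commutesAddSubgroup {A B : Type*} [CommRing A] [LambdaOps A] [CommRing B] [LambdaOps B]
    (f : A →+* B) : AddSubgroup A where
  carrier := {x | ∀ n, f (LambdaOps.lam n x) = LambdaOps.lam n (f x)}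
  zero_mem' n := by rw [map_zero, lam_zero_right, lam_zero_right]; split <;> simp
  add_mem' {x y} hx hy n := by
    rw [map_add, LambdaOps.lam_add, LambdaOps.lam_add, map_sum]
    exact sum_congr rfl fun i _ => by rw [map_mul, hx, hy]
  neg_mem' {x} hx n := by
    induction n using Nat.strong_induction_on with
    | _ n ih =>
      rcases n with _ | n
      · simp [LambdaOps.lam_zero]
      · rw [lam_neg_succ, map_neg f x, lam_neg_succ, map_neg, map_sum, neg_inj]
        refine sum_congr rfl fun i hi => ?_
        rw [map_mul, hx, ih i (mem_range.1 hi), map_neg f x]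

theorem commutesAddSubgroup_line {A B : Type*} [CommRing A] [LambdaOps A] [CommRing B] [LambdaOps B]
    (f : A →+* B) {t : A} (ht : ∀ j, 2 ≤ j → LambdaOps.lam j t = 0)
    (hft : ∀ j, 2 ≤ j → LambdaOps.lam j (f t) = 0) : t ∈ commutesAddSubgroup f := fun n => by
  rcases n with _ | _ | n
  · simp [LambdaOps.lam_zero]
  · simp [LambdaOps.lam_one]
  · rw [ht _ (Nat.le_add_left 2 n), hft _ (Nat.le_add_left 2 n), map_zero]

/-- the lines of `P` as images of variables -/
abbrev LineVars (P : PosStructure K) : Type u := LVar {v : K // P.IsLine v}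

/-- the map from the λ-ring of lines -/
noncomputable def lineEval (P : PosStructure K) :
    MvPolynomial (LineVars P) ℤ →+* K :=
  eval₂Hom (Int.castRingHom K) fun p => (p.idx : K) - 1

theorem commutes_lineEval (P : PosStructure K) : Commutes (lineEval P) := by
  let good : Submonoid (MvPolynomial (LineVars P) ℤ) :=
    { carrier := {t | (∀ k, 1 ≤ k → adamsOp k t = t ^ k) ∧ P.IsLine (lineEval P t)}
      one_mem' := ⟨fun k hk => (adamsOp_line
        (isSpecial_LK ℤ _).lam_one_eq_zero hk), by
          rw [map_one]; exact isLine_one P⟩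
      mul_mem' := fun {a b} ha hb => ⟨fun k hk => by
          rw [(psi_identities (isSpecial_LK ℤ _) a b).1 k hk, ha.1 k hk, hb.1 k hk, mul_pow],
        by rw [map_mul]; exact IsLine.mul ha.2 hb.2⟩ }
  have hgood : ∀ t ∈ good, t ∈ commutesAddSubgroup (lineEval P) := fun t ht => by
    refine commutesAddSubgroup_line _ (fun j hj => embL_injective ℤ _ ?_)
      fun j hj => lam_line_eq_zero ht.2 hj
    rw [commutes_embL, map_zero, lam_eq_ofPsi, ofPsi_congr (b := fun k => embL ℤ _ t ^ k)
      fun k hk _ => by rw [← (commutes_embL ℤ _).adamsOp, ht.1 k hk, map_pow], ofPsi_pow]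
    obtain ⟨i, rfl⟩ := Nat.exists_eq_add_of_le' hj
    rfl
  suffices key : ∀ p, ∀ t ∈ good, p * t ∈ commutesAddSubgroup (lineEval P) from fun n x => by
    have := key x 1 (one_mem good) n
    rwa [mul_one] at this
  intro p
  induction p using MvPolynomial.induction_on with
  | C c =>
    intro t ht
    rw [show (C c : MvPolynomial (LineVars P) ℤ) * t = c • t by
      rw [zsmul_eq_mul, eq_intCast (C : ℤ →+* MvPolynomial (LineVars P) ℤ) c]]
    exact zsmul_mem (hgood t ht) c
  | add p q hp hq => intro t ht; rw [add_mul]; exact add_mem (hp t ht) (hq t ht)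
  | mul_X p i hp =>
    intro t ht
    have hi : (1 + X i : MvPolynomial (LineVars P) ℤ) ∈ good :=
      ⟨fun k hk => adamsOp_line (fun j hj => lam_line_LK ℤ _ i hj) hk,
        by simpa [lineEval] using i.idx.2⟩
    rw [show p * X i * t = p * ((1 + X i) * t) - p * t by ring]
    exact sub_mem (hp _ (mul_mem hi ht)) (hp t ht)

theorem lineGroup_le_range (P : PosStructure K) {x : K} (hx : x ∈ lineGroup P) :
    ∃ X, lineEval P X = x := by
  induction hx using AddSubgroup.closure_induction with
  | mem v hv => exact ⟨1 + X ⟨⟨v, hv⟩⟩, by simp [lineEval]⟩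
  | zero => exact ⟨0, map_zero _⟩
  | add _ _ _ _ ha hb =>
    obtain ⟨a, rfl⟩ := ha
    obtain ⟨b, rfl⟩ := hb
    exact ⟨a + b, map_add _ a b⟩
  | neg _ _ ha =>
    obtain ⟨a, rfl⟩ := ha
    exact ⟨-a, map_neg _ a⟩

/-- a λ-ring with the splitting property is special -/
theorem isSpecial_of_hasSplitting (hK : HasSplitting K P) : IsSpecial K where
  lam_one_eq_zero := lam_one_eq_zero_of_pos P
  lam_mul n Pn hPn x y := by
    obtain ⟨L, f, hf, h⟩ := exists_split hK [x, y]
    obtain ⟨X, hX⟩ := lineGroup_le_range _ (h x (by simp))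
    obtain ⟨Y, hY⟩ := lineGroup_le_range _ (h y (by simp))
    have hc := commutes_lineEval L.posStr
    refine hf.injective ?_
    rw [hf.isLambdaHom, map_mul, ringHom_aeval, ← hX, ← hY, ← map_mul, ← hc,
      (isSpecial_LK ℤ _).lam_mul n Pn hPn, ringHom_aeval]
    congr 2
    funext i
    rcases i with i | i <;> simp only [Sum.elim_inl, Sum.elim_inr]
    · rw [hc, hX]; exact (hf.isLambdaHom _ x).symm
    · rw [hc, hY]; exact (hf.isLambdaHom _ y).symm
  lam_lam i j Q hQ x := by
    obtain ⟨L, f, hf, h⟩ := exists_split hK [x]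
    obtain ⟨X, hX⟩ := lineGroup_le_range _ (h x (by simp))
    have hc := commutes_lineEval L.posStr
    refine hf.injective ?_
    rw [hf.isLambdaHom, hf.isLambdaHom, ringHom_aeval, ← hX, ← hc, ← hc,
      (isSpecial_LK ℤ _).lam_lam i j Q hQ, ringHom_aeval]
    congr 2
    funext k
    rw [hc, hX]; exact (hf.isLambdaHom _ x).symm

theorem commutes_aug (hK : HasSplitting K P) : Commutes P.aug := by
  intro n x
  obtain ⟨L, f, hf, h⟩ := exists_split hK [x]
  have key : lineGroup L.posStr ≤ commutesAddSubgroup L.posStr.aug :=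
    (AddSubgroup.closure_le _).2 fun v hv => commutesAddSubgroup_line _
      (fun j hj => lam_line_eq_zero hv hj) fun j hj => by
        rw [hv.2]; exact intBinomial_isSpecial.lam_one_eq_zero j hj
  have := key (h x (by simp)) n
  rwa [← hf.isLambdaHom, hf.aug_comp, hf.aug_comp] at this

theorem aug_lam (hK : HasSplitting K P) {e : K} (he : e ∈ P.pos) (i : ℕ) :
    P.aug (LambdaOps.lam i e) = ((P.aug e).toNat.choose i : ℤ) := by
  rw [commutes_aug hK i e]
  conv_lhs => rw [← Int.toNat_of_nonneg (P.aug_pos e he).le]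
  exact Ring.choose_natCast _ _

/-- the augmentation as an algebra map over `ℤ` -/
noncomputable def augAlgHom (P : PosStructure K) : K →ₐ[ℤ] ℤ := P.aug.toIntAlgHom

theorem isAugLambdaAlg_aug (hK : HasSplitting K P) : IsAugLambdaAlg ℤ K (augAlgHom P) where
  isLambdaAlg := isLambdaAlg_int intBinomial_isBinomial (isSpecial_of_hasSplitting hK)
  map_lam := commutes_aug hK

theorem mem_gammaFiltration_iff (P : PosStructure K) (n : ℕ) (x : K) :
    x ∈ gammaFiltration P n ↔ x ∈ gammaFil P.aug n := by
  rcases Nat.eq_zero_or_pos n with rfl | hn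
  · rw [gammaFil_zero, gammaFiltration, if_pos rfl]; simp
  rw [gammaFiltration, if_neg (by omega)]
  constructor
  · intro h
    exact (AddSubgroup.closure_le (K := (gammaFil P.aug n).toAddSubgroup)).2
      (fun y hy => Ideal.subset_span hy) h
  · intro h
    set S := {y : K | ∃ l : List (ℕ × K), (∀ p ∈ l, P.aug p.2 = 0) ∧ n ≤ (l.map Prod.fst).sum ∧
      y = (l.map fun p => gamma p.1 p.2).prod}
    have hmul : ∀ a : K, ∀ y ∈ AddSubgroup.closure S, a * y ∈ AddSubgroup.closure S := by
      intro a y hy
      induction hy using AddSubgroup.closure_induction with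
      | mem y hy =>
        obtain ⟨l, hl, hle, rfl⟩ := hy
        have h1 : (a - (P.aug a : K)) * (l.map fun p => gamma p.1 p.2).prod ∈
            AddSubgroup.closure S :=
          AddSubgroup.subset_closure ⟨(1, a - (P.aug a : K)) :: l,
            List.forall_mem_cons.2 ⟨by simp, hl⟩,
            by simp only [List.map_cons, List.sum_cons]; omega, by simp [gamma_one']⟩
        have h2 : (P.aug a : K) * (l.map fun p => gamma p.1 p.2).prod ∈ AddSubgroup.closure S := by
          rw [← zsmul_eq_mul]
          exact zsmul_mem (AddSubgroup.subset_closure (show (l.map fun p => gamma p.1 p.2).prod ∈ S from ⟨l, hl, hle, rfl⟩)) _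
        have h3 := add_mem h1 h2
        rwa [← add_mul, sub_add_cancel] at h3
      | zero => rw [mul_zero]; exact zero_mem _
      | add _ _ _ _ h1 h2 => rw [mul_add]; exact add_mem h1 h2
      | neg _ _ h1 => rw [mul_neg]; exact neg_mem h1
    induction h using Submodule.span_induction with
    | mem y hy => exact AddSubgroup.subset_closure hy
    | zero => exact zero_mem _
    | add _ _ _ _ h1 h2 => exact add_mem h1 h2
    | smul a y _ h1 => exact hmul a y h1

/-- `ψ^j x ≡ j^n x` on the `n`-th step of the γ-filtration -/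
theorem adams_congr (hK : HasSplitting K P) {j : ℕ} (hj : 1 ≤ j) {n : ℕ} {x : K}
    (hx : x ∈ gammaFiltration P n) :
    adams P j x - (j : K) ^ n * x ∈ gammaFiltration P (n + 1) := by
  let v : {a : K // augAlgHom P a = 0} → K := fun a => a.1
  have hS := isSpecial_of_hasSplitting hK
  have hε := isAugLambdaAlg_aug hK
  have hb : IsBinomial ℤ := intBinomial_isBinomial
  have hsurj := surjective_liftG_of_ker (augAlgHom P) v fun a ha => ⟨⟨a, ha⟩, rfl⟩
  have hmap := fun m => gammaFil_eq_map (augAlgHom P) v hb hS hε (fun a => a.2) hsurj m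
  rw [mem_gammaFiltration_iff] at hx ⊢
  have hx' : x ∈ gammaFil ((augAlgHom P : K →ₐ[ℤ] ℤ) : K →+* ℤ) n := hx
  change _ ∈ gammaFil ((augAlgHom P : K →ₐ[ℤ] ℤ) : K →+* ℤ) (n + 1)
  rw [hmap] at hx' ⊢
  obtain ⟨Z, hZ, rfl⟩ := (Ideal.mem_map_iff_of_surjective _ hsurj).1 hx'
  obtain ⟨k, rfl⟩ := Nat.exists_eq_add_of_le' hj
  have h := Ideal.mem_map_of_mem (liftG (K := ℤ) v) (adams_congr_gIdeal hb hZ (k + 1) (Nat.le_add_left 1 k))
  have e : liftG v (adamsOp (k + 1) Z) = adamsOp (k + 1) (liftG v Z) :=
    (commutes_liftG hb hS hε.isLambdaAlg v).adamsOp (k + 1) Z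
  rw [map_sub, map_mul, map_pow, map_natCast, e] at h
  rw [adams_succ]
  exact h

end GrothLib.Lambda
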