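import Groth.Agent.Lib.Lambda.Seq
import Groth.Prelude.Def_LambdaSp

/-!
# Basic calculus of pre-λ-rings
-/

namespace GrothLib.Lambda

open Finset LambdaRing

universe u v

variable {K : Type u} [CommRing K] [LambdaOps K]

/-- the sequence `n ↦ λ^n x` -/
def lamSeq (x : K) : ℕ → K := fun n => LambdaOps.lam n x

theorem lamSeq_zero' (x : K) : lamSeq x 0 = 1 := LambdaOps.lam_zero x

theorem lamSeq_add (x y : K) : lamSeq (x + y) = conv (lamSeq x) (lamSeq y) :=
  funext fun n => LambdaOps.lam_add n x y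

theorem lamSeries_eq_mk (x : K) : lamSeries x = PowerSeries.mk (lamSeq x) := rfl

theorem lamSeries_add (x y : K) : lamSeries (x + y) = lamSeries x * lamSeries y := by
  rw [lamSeries_eq_mk, lamSeq_add, mk_conv, lamSeries_eq_mk, lamSeries_eq_mk]

theorem constantCoeff_lamSeries (x : K) : PowerSeries.constantCoeff (lamSeries x) = 1 := by
  simp [lamSeries_eq_mk, lamSeq_zero']

theorem isUnit_lamSeries (x : K) : IsUnit (lamSeries x) :=
  PowerSeries.isUnit_iff_constantCoeff.2 (by simp [constantCoeff_lamSeries])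

theorem lamSeries_zero : lamSeries (0 : K) = 1 := by
  have h := lamSeries_add (0 : K) 0
  rw [add_zero] at h
  exact ((isUnit_lamSeries (0 : K)).mul_left_cancel ((mul_one _).trans h)).symm

theorem lam_zero_right (n : ℕ) : LambdaOps.lam n (0 : K) = if n = 0 then 1 else 0 := by
  have h := congr_arg (PowerSeries.coeff n) (lamSeries_zero (K := K))
  simpa [lamSeries, PowerSeries.coeff_one] using h

theorem lam_succ_zero (n : ℕ) : LambdaOps.lam (n + 1) (0 : K) = 0 := by simp [lam_zero_right]

theorem lamSeries_neg (x : K) : lamSeries (-x) * lamSeries x = 1 := by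
  rw [← lamSeries_add, neg_add_cancel, lamSeries_zero]

theorem lam_neg_succ (n : ℕ) (x : K) :
    LambdaOps.lam (n + 1) (-x) =
      -∑ i ∈ range (n + 1), LambdaOps.lam i (-x) * LambdaOps.lam (n + 1 - i) x := by
  have h := LambdaOps.lam_add (n + 1) (-x) x
  rw [neg_add_cancel, lam_succ_zero, sum_range_succ, Nat.sub_self, LambdaOps.lam_zero, mul_one] at h
  exact eq_neg_of_add_eq_zero_right h.symm

theorem lamSeries_sum {ι : Type*} (s : Finset ι) (f : ι → K) :
    lamSeries (∑ i ∈ s, f i) = ∏ i ∈ s, lamSeries (f i) := by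
  classical
  induction s using Finset.induction with
  | empty => simp [lamSeries_zero]
  | insert a s ha ih => rw [sum_insert ha, prod_insert ha, lamSeries_add, ih]

theorem lam_multiset_sum (s : Multiset K)
    (hs : ∀ u ∈ s, ∀ j, 2 ≤ j → LambdaOps.lam j u = 0) :
    ∀ n, LambdaOps.lam n s.sum = s.esymm n := by
  induction s using Multiset.induction with
  | empty => intro n; simp [lam_zero_right, esymm_empty]
  | cons a s ih =>
    intro n
    have ha : lamSeq a = lineSeq a := funext fun j => by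
      rcases j with _ | _ | j
      · exact LambdaOps.lam_zero a
      · exact LambdaOps.lam_one a
      · exact hs a (Multiset.mem_cons_self a s) (j + 2) (Nat.le_add_left 2 j)
    have hs' : lamSeq s.sum = s.esymm :=
      funext (ih fun u hu => hs u (Multiset.mem_cons_of_mem hu))
    rw [Multiset.sum_cons, esymm_eq_conv]
    exact (congr_fun (lamSeq_add a s.sum) n).trans (by rw [ha, hs'])

theorem lam_sum {ι : Type*} (s : Finset ι) (f : ι → K)
    (hs : ∀ i ∈ s, ∀ j, 2 ≤ j → LambdaOps.lam j (f i) = 0) (n : ℕ) :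
    LambdaOps.lam n (∑ i ∈ s, f i) = (s.val.map f).esymm n :=
  lam_multiset_sum _ (by simpa using hs) n

theorem lam_natCast (h1 : ∀ k, 2 ≤ k → LambdaOps.lam k (1 : K) = 0) (n c : ℕ) :
    LambdaOps.lam n (c : K) = (c.choose n : K) := by
  have h := lam_multiset_sum (Multiset.replicate c (1 : K))
    (fun u hu => by rw [Multiset.eq_of_mem_replicate hu]; exact h1) n
  rw [Multiset.sum_replicate, nsmul_one] at h
  rw [h, Multiset.esymm]
  rw [Multiset.map_congr rfl (g := fun _ => (1 : K))]
  · simp [Multiset.card_powersetCard]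
  · intro t ht
    exact Multiset.prod_eq_one fun u hu =>
      Multiset.eq_of_mem_replicate (Multiset.mem_of_le (Multiset.mem_powersetCard.1 ht).1 hu)

/-! ### Adams operations -/

theorem logDerivSeries_eq (x : K) : logDerivSeries x =
    PowerSeries.derivative K (PowerSeries.mk (lamSeq x)) *
      (PowerSeries.mk (lamSeq x)).invOfUnit 1 := rfl

theorem adamsOp_eq (k : ℕ) (x : K) : adamsOp k x = psiOf (lamSeq x) k := by
  rcases k with _ | k <;> rfl

theorem newton_lamSeq (x : K) : Newton (lamSeq x) (fun k => adamsOp k x) :=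
  (newton_psiOf _ (lamSeq_zero' x)).congr_ghost fun k _ => (adamsOp_eq k x).symm

theorem adamsOp_add (k : ℕ) (x y : K) : adamsOp k (x + y) = adamsOp k x + adamsOp k y := by
  rw [adamsOp_eq, adamsOp_eq, adamsOp_eq, lamSeq_add, psiOf_conv _ _ (lamSeq_zero' x) (lamSeq_zero' y)]

/-- `ψ^k` as an additive map -/
noncomputable def adamsHom (k : ℕ) : K →+ K :=
  AddMonoidHom.mk' (adamsOp k) (adamsOp_add k)

@[simp] theorem adamsHom_apply (k : ℕ) (x : K) : adamsHom k x = adamsOp k x := rfl

theorem adamsOp_zero (k : ℕ) : adamsOp k (0 : K) = 0 := (adamsHom k).map_zero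

theorem adamsOp_neg (k : ℕ) (x : K) : adamsOp k (-x) = -adamsOp k x := (adamsHom k).map_neg x

theorem adamsOp_one_left (x : K) : adamsOp 1 x = x := by
  rw [adamsOp_eq, psiOf_one' _ (lamSeq_zero' x)]
  exact LambdaOps.lam_one x

theorem adamsOp_line {u : K} (hu : ∀ j, 2 ≤ j → LambdaOps.lam j u = 0) {k : ℕ} (hk : 1 ≤ k) :
    adamsOp k u = u ^ k := by
  have hl : lamSeq u = lineSeq u := funext fun j => by
    rcases j with _ | _ | j
    · exact LambdaOps.lam_zero u
    · exact LambdaOps.lam_one u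
    · exact hu (j + 2) (Nat.le_add_left 2 j)
  rw [adamsOp_eq, hl]
  exact ((newton_lineSeq u).eq_psiOf rfl k hk).symm

theorem lam_eq_ofPsi [Algebra ℚ K] (n : ℕ) (x : K) :
    LambdaOps.lam n x = ofPsi (fun k => adamsOp k x) n :=
  (newton_lamSeq x).eq_ofPsi (lamSeq_zero' x) n

/-! ### γ-operations -/

theorem gamma_eq (k : ℕ) (x : K) : gamma k x = gammaOf (lamSeq x) k := rfl

theorem gamma_zero_left (x : K) : gamma 0 x = 1 := if_pos rfl

theorem gamma_add' (k : ℕ) (x y : K) :
    gamma k (x + y) = ∑ i ∈ range (k + 1), gamma i x * gamma (k - i) y := by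
  rw [gamma_eq, lamSeq_add, gammaOf_conv _ _ (lamSeq_zero' x) (lamSeq_zero' y)]
  rfl

theorem gamma_one' (x : K) : gamma 1 x = x := by
  simp [gamma_eq, gammaOf_succ, lamSeq, LambdaOps.lam_one]

theorem gamma_succ_zero (k : ℕ) : gamma (k + 1) (0 : K) = 0 := by
  simp [gamma_eq, gammaOf_succ, lamSeq, lam_succ_zero]

theorem gamma_neg_succ (n : ℕ) (x : K) :
    gamma (n + 1) (-x) = -∑ i ∈ range (n + 1), gamma i (-x) * gamma (n + 1 - i) x := by
  have h := gamma_add' (n + 1) (-x) x
  rw [neg_add_cancel, gamma_succ_zero, sum_range_succ, Nat.sub_self, gamma_zero_left, mul_one] at h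
  exact eq_neg_of_add_eq_zero_right h.symm

/-- `γ^n(x) = λ^n(x + n - 1)` -/
theorem gamma_eq_lam (h1 : ∀ k, 2 ≤ k → LambdaOps.lam k (1 : K) = 0) (n : ℕ) (x : K) :
    gamma n x = LambdaOps.lam n (x + (n : K) - 1) := by
  rcases n with _ | r
  · rw [gamma_zero_left, LambdaOps.lam_zero]
  · rw [Nat.cast_succ, add_sub_assoc, add_sub_cancel_right, LambdaOps.lam_add, gamma_eq,
      gammaOf_succ, sum_range_succ' _ (r + 1), Nat.sub_zero, lam_natCast h1,
      Nat.choose_succ_self, Nat.cast_zero, mul_zero, add_zero]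
    refine sum_congr rfl fun i hi => ?_
    rw [mem_range] at hi
    rw [lam_natCast h1, Nat.add_sub_add_right, Nat.choose_symm (by omega), mul_comm]
    rfl

/-- for a line element `u`, `γ_t(u-1) = 1 + (u-1)t` -/
theorem lam_add_natCast_of_line (h1 : ∀ k, 2 ≤ k → LambdaOps.lam k (1 : K) = 0) {u : K}
    (hu : ∀ j, 2 ≤ j → LambdaOps.lam j u = 0) (c n : ℕ) :
    LambdaOps.lam (n + 1) (u + (c : K)) = (c.choose (n + 1) : K) + u * (c.choose n : K) := by
  rw [LambdaOps.lam_add, sum_range_succ', sum_range_succ', sum_eq_zero]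
  · simp [LambdaOps.lam_zero, LambdaOps.lam_one, lam_natCast h1]
    ring
  · intro i _
    rw [hu (i + 1 + 1) (by omega), zero_mul]

theorem gamma_line_sub_one (h1 : ∀ k, 2 ≤ k → LambdaOps.lam k (1 : K) = 0) {u : K}
    (hu : ∀ j, 2 ≤ j → LambdaOps.lam j u = 0) (n : ℕ) :
    gamma n (u - 1) = lineSeq (u - 1) n := by
  rcases n with _ | _ | r
  · exact gamma_zero_left _
  · exact gamma_one' _
  · rw [gamma_eq_lam h1, show u - 1 + ((r + 1 + 1 : ℕ) : K) - 1 = u + (r : K) by push_cast; ring,
      lam_add_natCast_of_line h1 hu, Nat.choose_eq_zero_of_lt (by omega),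
      Nat.choose_eq_zero_of_lt (by omega)]
    simp [lineSeq]

/-- `γ^k(∑ y_i - n) = e_k(y_i - 1)` for line elements `y_i` -/
theorem gamma_multiset_sum (h1 : ∀ k, 2 ≤ k → LambdaOps.lam k (1 : K) = 0) (s : Multiset K)
    (hs : ∀ u ∈ s, ∀ j, 2 ≤ j → LambdaOps.lam j u = 0) :
    ∀ n, gamma n (s.map fun u => u - 1).sum = (s.map fun u => u - 1).esymm n := by
  induction s using Multiset.induction with
  | empty => intro n; cases n <;> simp [gamma_zero_left, gamma_succ_zero, esymm_empty]
  | cons a s ih =>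
    intro n
    rw [Multiset.map_cons, Multiset.sum_cons, esymm_eq_conv, gamma_add']
    refine sum_congr rfl fun i _ => ?_
    rw [gamma_line_sub_one h1 (hs a (Multiset.mem_cons_self a s)),
      ih fun u hu => hs u (Multiset.mem_cons_of_mem hu)]

/-! ### Naturality -/

section Hom

variable {L : Type v} [CommRing L] [LambdaOps L] (f : K →+* L)

/-- `f` commutes with the `λ^n` (universe polymorphic form of `IsLambdaHom`) -/
def Commutes : Prop := ∀ (n : ℕ) (x : K), f (LambdaOps.lam n x) = LambdaOps.lam n (f x)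

variable {f}

theorem Commutes.lamSeq (hf : Commutes f) (x : K) :
    f ∘ GrothLib.Lambda.lamSeq x = GrothLib.Lambda.lamSeq (f x) :=
  funext fun n => hf n x

theorem Commutes.adamsOp (hf : Commutes f) (k : ℕ) (x : K) :
    f (LambdaRing.adamsOp k x) = LambdaRing.adamsOp k (f x) := by
  rw [adamsOp_eq, adamsOp_eq, psiOf_map f _ (lamSeq_zero' x), hf.lamSeq]

theorem Commutes.gamma (hf : Commutes f) (k : ℕ) (x : K) :
    f (LambdaRing.gamma k x) = LambdaRing.gamma k (f x) := by
  rw [gamma_eq, gamma_eq, gammaOf_map, hf.lamSeq]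

end Hom

end GrothLib.Lambda
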