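import Groth.Prelude.Def_LambdaSp
import Mathlib.RingTheory.MvPolynomial.Symmetric.FundamentalTheorem
import Mathlib.Algebra.MvPolynomial.Equiv
import Mathlib.Data.Fintype.Option
import Mathlib.Data.Fintype.Sigma

/-!
# Symmetric polynomials in several groups of variables; existence of the universal polynomials
-/

namespace GrothLib.Lambda

open MvPolynomial

universe u v w

variable {R : Type u} [CommRing R]

theorem aeval_esymm_injective (S : Type w) [CommRing S] {n m : ℕ} (h : n ≤ m) :
    Function.Injective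
      (aeval (fun i : Fin n => esymm (Fin m) S ((i : ℕ) + 1)) :
        MvPolynomial (Fin n) S →ₐ[S] MvPolynomial (Fin m) S) := by
  intro p q hpq
  apply esymmAlgHom_fin_injective S h
  ext1
  simpa [esymmAlgHom_apply] using hpq

/-- substitution in two groups of variables -/
theorem aeval_sumElim_injective {α α' : Type v} {β β' : Type w} (a : α → MvPolynomial α' R)
    (b : β → MvPolynomial β' R) (hb : Function.Injective (aeval (R := R) b))
    (ha : Function.Injective
      (aeval (R := MvPolynomial β' R) fun i => map (algebraMap R (MvPolynomial β' R)) (a i))) :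
    Function.Injective (aeval (R := R)
      (Sum.elim (fun i => rename (Sum.inl : α' → α' ⊕ β') (a i))
        (fun j => rename (Sum.inr : β' → α' ⊕ β') (b j)))) := by
  set Φ := aeval (R := R) (Sum.elim (fun i => rename (Sum.inl : α' → α' ⊕ β') (a i))
        (fun j => rename (Sum.inr : β' → α' ⊕ β') (b j)))
  have key : ((sumAlgEquiv R α' β').toAlgHom.comp Φ) =
      ((aeval (R := MvPolynomial β' R)
          fun i => map (algebraMap R (MvPolynomial β' R)) (a i)).restrictScalars R).comp
        ((mapAlgHom (aeval (R := R) b)).comp (sumAlgEquiv R α β).toAlgHom) := by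
    refine algHom_ext fun x => ?_
    rcases x with i | j
    · have := AlgHom.congr_fun (sumAlgEquiv_comp_rename_inl (R := R) (S₁ := α') (S₂ := β')) (a i)
      simpa [Φ] using this
    · have := AlgHom.congr_fun (sumAlgEquiv_comp_rename_inr (R := R) (S₁ := α') (S₂ := β')) (b j)
      simpa [Φ] using this
  intro p q hpq
  have h1 : (sumAlgEquiv R α' β').toAlgHom.comp Φ p = (sumAlgEquiv R α' β').toAlgHom.comp Φ q := by
    simp only [AlgHom.comp_apply, hpq]
  rw [key] at h1
  exact (sumAlgEquiv R α β).injective (map_injective _ hb (ha h1))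

/-- elementary symmetric functions in finitely many groups of variables -/
noncomputable def esymmSigma (R : Type u) [CommRing R] {ι : Type v} (N : ι → ℕ)
    (p : Σ i, Fin (N i)) : MvPolynomial (Σ i, Fin (N i)) R :=
  rename (Sigma.mk p.1) (esymm (Fin (N p.1)) R ((p.2 : ℕ) + 1))

theorem esymmSigma_reindex {ι κ : Type v} (e : ι ≃ κ) (N : κ → ℕ) (p : Σ i, Fin (N (e i))) :
    rename (Equiv.sigmaCongrLeft (β := fun k => Fin (N k)) e)
        (esymmSigma R (fun i => N (e i)) p) =
      esymmSigma R N (Equiv.sigmaCongrLeft (β := fun k => Fin (N k)) e p) := by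
  obtain ⟨i, r⟩ := p
  simp [esymmSigma, rename_rename, Function.comp_def]
  rfl

theorem aeval_esymmSigma_injective_fintype (ι : Type v) [Fintype ι] :
    ∀ N : ι → ℕ, Function.Injective (aeval (R := R) (esymmSigma R N)) := by
  refine Fintype.induction_empty_option
    (P := fun κ _ => ∀ N : κ → ℕ, Function.Injective (aeval (R := R) (esymmSigma R N))) ?_ ?_ ?_ ι
  · intro α β _ e h N p q hpq
    let E : (Σ i, Fin (N (e i))) ≃ Σ k, Fin (N k) :=
      Equiv.sigmaCongrLeft (β := fun k => Fin (N k)) e
    have key : (aeval (R := R) (esymmSigma R N)).comp (rename E) =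
        (rename E).comp (aeval (R := R) (esymmSigma R fun i => N (e i))) := by
      refine algHom_ext fun x => ?_
      simpa [E] using (esymmSigma_reindex e N x).symm
    obtain ⟨p, rfl⟩ := (renameEquiv R E).surjective p
    obtain ⟨q, rfl⟩ := (renameEquiv R E).surjective q
    have h1 : (aeval (R := R) (esymmSigma R N)).comp (rename E) p =
        (aeval (R := R) (esymmSigma R N)).comp (rename E) q := hpq
    rw [key] at h1
    rw [h _ (rename_injective _ E.injective h1)]
  · intro N
    have : aeval (R := R) (esymmSigma R N) = AlgHom.id R _ :=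
      algHom_ext fun x => isEmptyElim x.1
    rw [this]
    exact Function.injective_id
  · intro α _ h N
    let E : (Σ o, Fin (N o)) ≃ Fin (N none) ⊕ Σ a, Fin (N (some a)) :=
      { toFun := fun
          | ⟨none, r⟩ => Sum.inl r
          | ⟨some a, r⟩ => Sum.inr ⟨a, r⟩
        invFun := Sum.elim (fun r => ⟨none, r⟩) (fun p => ⟨some p.1, p.2⟩)
        left_inv := by rintro ⟨_ | a, r⟩ <;> rfl
        right_inv := by rintro (r | ⟨a, r⟩) <;> rfl }
    have hinj := aeval_sumElim_injective (R := R)
      (fun r : Fin (N none) => esymm (Fin (N none)) R ((r : ℕ) + 1))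
      (esymmSigma R fun a => N (some a)) (h _)
      (by simpa [map_esymm] using aeval_esymm_injective _ le_rfl)
    have key : (rename E).comp (aeval (R := R) (esymmSigma R N)) =
        (aeval (R := R) (Sum.elim
          (fun r : Fin (N none) => rename (Sum.inl : _ → Fin (N none) ⊕ Σ a, Fin (N (some a)))
            (esymm (Fin (N none)) R ((r : ℕ) + 1)))
          (fun p : Σ a, Fin (N (some a)) =>
            rename Sum.inr (esymmSigma R (fun a => N (some a)) p)))).comp (rename E) := by
      refine algHom_ext fun x => ?_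
      obtain ⟨_ | a, r⟩ := x <;>
        simp [E, esymmSigma, rename_rename, Function.comp_def]
    intro p q hpq
    have h1 : (rename E).comp (aeval (R := R) (esymmSigma R N)) p =
        (rename E).comp (aeval (R := R) (esymmSigma R N)) q := by
      simp only [AlgHom.comp_apply, hpq]
    rw [key] at h1
    exact rename_injective _ E.injective (hinj h1)

theorem aeval_esymmSigma_injective {ι : Type v} (N : ι → ℕ) :
    Function.Injective (aeval (R := R) (esymmSigma R N)) := by
  classical
  refine (injective_iff_map_eq_zero _).2 fun p hp => ?_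
  obtain ⟨s, q, rfl⟩ := exists_finset_rename p
  let t : Finset ι := s.image Sigma.fst
  let g : {x // x ∈ s} → Σ i : t, Fin (N i) :=
    fun x => ⟨⟨x.1.1, Finset.mem_image_of_mem _ x.2⟩, x.1.2⟩
  let j : (Σ i : t, Fin (N i)) → Σ i, Fin (N i) := fun x => ⟨x.1, x.2⟩
  have hj : Function.Injective j := by
    rintro ⟨⟨i, hi⟩, r⟩ ⟨⟨i', hi'⟩, r'⟩ h
    simp only [j, Sigma.mk.injEq] at h
    obtain ⟨rfl, h⟩ := h
    cases h
    rfl
  have hjg : j ∘ g = ((↑) : {x // x ∈ s} → Σ i, Fin (N i)) := rfl
  have key : (aeval (R := R) (esymmSigma R N)).comp (rename j) =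
      (rename j).comp (aeval (R := R) (esymmSigma R fun i : t => N i)) := by
    refine algHom_ext fun x => ?_
    simp [esymmSigma, rename_rename, Function.comp_def, j]
  rw [← hjg, ← rename_rename] at hp ⊢
  have h0 : (aeval (R := R) (esymmSigma R N)).comp (rename j) (rename g q) = 0 := hp
  rw [key] at h0
  rw [aeval_esymmSigma_injective_fintype (R := R) t (fun i => N i)
    ((rename_injective j hj) (h0.trans (map_zero _).symm) |>.trans (map_zero _).symm), map_zero]

/-! ### Weights -/

theorem IsWeightedHomogeneous.aeval_of {σ τ : Type*} {M : Type*} [AddCommMonoid M]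
    {w : σ → M} {w' : τ → M} {f : σ → MvPolynomial τ R}
    (hf : ∀ i, IsWeightedHomogeneous w' (f i) (w i)) (d : σ →₀ ℕ) (r : R) :
    IsWeightedHomogeneous w' (aeval f (monomial d r)) (Finsupp.weight w d) := by
  have h := (IsWeightedHomogeneous.prod d.support (fun i => f i ^ d i) (fun i => d i • w i)
    fun i _ => (hf i).pow (d i)).C_mul r
  rw [aeval_monomial, Finsupp.weight_apply, Finsupp.prod, Finsupp.sum, algebraMap_eq]
  exact h

theorem aeval_weightedHomogeneousComponent {σ τ : Type*} {M : Type*} [AddCommMonoid M]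
    {w : σ → M} {w' : τ → M} {f : σ → MvPolynomial τ R}
    (hf : ∀ i, IsWeightedHomogeneous w' (f i) (w i)) (m : M) (p : MvPolynomial σ R) :
    aeval f (weightedHomogeneousComponent w m p) =
      weightedHomogeneousComponent w' m (aeval f p) := by
  classical
  induction p using MvPolynomial.induction_on' with
  | monomial d r =>
    rw [weightedHomogeneousComponent_of_mem (isWeightedHomogeneous_monomial w d r rfl),
      weightedHomogeneousComponent_of_mem (IsWeightedHomogeneous.aeval_of hf d r)]
    split_ifs <;> simp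
  | add p q hp hq => simp [hp, hq]

theorem isWeightedHomogeneous_rename_esymm {σ τ : Type*} [Fintype σ] {M : Type*} [AddCommMonoid M]
    (j : σ → τ) (w' : τ → M) (c : M) (hj : ∀ a, w' (j a) = c) (k : ℕ) :
    IsWeightedHomogeneous w' (rename j (esymm σ R k)) (k • c) := by
  rw [esymm, map_sum]
  refine IsWeightedHomogeneous.sum _ _ _ fun t ht => ?_
  rw [map_prod]
  have h := IsWeightedHomogeneous.prod t (fun a => rename j (X a : MvPolynomial σ R))
    (fun _ => c) fun a _ => by rw [rename_X, ← hj a]; exact isWeightedHomogeneous_X R w' (j a)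
  rwa [Finset.sum_const, (Finset.mem_powersetCard.1 ht).2] at h

/-! ### The universal polynomials -/

theorem map_univ_val_comp {α β : Type*} [Fintype α] (e : α ≃ α) (f : α → β) :
    (Finset.univ : Finset α).val.map (fun x => f (e x)) = (Finset.univ : Finset α).val.map f := by
  conv_rhs => rw [← Finset.map_univ_equiv e, Finset.map_val, Multiset.map_map]
  rfl

theorem esymm_map' {A B : Type*} [CommRing A] [CommRing B] {F : Type*} [FunLike F A B]
    [RingHomClass F A B] (f : F) (s : Multiset A) (n : ℕ) :
    f (s.esymm n) = (s.map f).esymm n := by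
  simp [Multiset.esymm, Multiset.powersetCard_map, map_multiset_sum, Multiset.map_map,
    map_multiset_prod]

theorem mulGen_symm_left (N k : ℕ) (e : Equiv.Perm (Fin N)) :
    rename (Sum.map e id) (LambdaRing.mulGen N k) = LambdaRing.mulGen N k := by
  rw [LambdaRing.mulGen, esymm_map', Multiset.map_map]
  congr 1
  exact (map_univ_val_comp (e.prodCongr (Equiv.refl _))
    (fun ab : Fin N × Fin N => (X (Sum.inl ab.1) * X (Sum.inr ab.2) :
      MvPolynomial (Fin N ⊕ Fin N) ℤ))).symm.trans (by simp) |>.symm

theorem mulGen_symm_right (N k : ℕ) (e : Equiv.Perm (Fin N)) :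
    rename (Sum.map id e) (LambdaRing.mulGen N k) = LambdaRing.mulGen N k := by
  rw [LambdaRing.mulGen, esymm_map', Multiset.map_map]
  congr 1
  exact (map_univ_val_comp ((Equiv.refl _).prodCongr e)
    (fun ab : Fin N × Fin N => (X (Sum.inl ab.1) * X (Sum.inr ab.2) :
      MvPolynomial (Fin N ⊕ Fin N) ℤ))).symm.trans (by simp) |>.symm

theorem exists_aeval_esymm_of_symmetric (S : Type w) [CommRing S] {n : ℕ}
    {p : MvPolynomial (Fin n) S} (hp : p.IsSymmetric) :
    ∃ H : MvPolynomial (Fin n) S, aeval (fun i : Fin n => esymm (Fin n) S ((i : ℕ) + 1)) H = p := by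
  obtain ⟨H, hH⟩ := (esymmAlgHom_fin_bijective S n).2 ⟨p, hp⟩
  exact ⟨H, by rw [← esymmAlgHom_apply, hH]⟩

/-- fundamental theorem in two groups of variables -/
theorem exists_aeval_esymm_sum {n : ℕ} {p : MvPolynomial (Fin n ⊕ Fin n) ℤ}
    (hl : ∀ e : Equiv.Perm (Fin n), rename (Sum.map e id) p = p)
    (hr : ∀ e : Equiv.Perm (Fin n), rename (Sum.map id e) p = p) :
    ∃ P : MvPolynomial (Fin n ⊕ Fin n) ℤ,
      aeval (Sum.elim (fun k : Fin n => rename Sum.inl (esymm (Fin n) ℤ ((k : ℕ) + 1)))
        (fun k : Fin n => rename Sum.inr (esymm (Fin n) ℤ ((k : ℕ) + 1)))) P = p := by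
  let Φ : MvPolynomial (Fin n ⊕ Fin n) ℤ ≃ₐ[ℤ] MvPolynomial (Fin n) (MvPolynomial (Fin n) ℤ) :=
    sumAlgEquiv ℤ (Fin n) (Fin n)
  have hsym : (Φ p).IsSymmetric := fun e => by
    have h : ((rename e).restrictScalars ℤ).comp Φ.toAlgHom =
        Φ.toAlgHom.comp (rename (Sum.map e id)) := by
      refine algHom_ext fun x => ?_
      rcases x with i | j <;> simp [Φ]
    simpa [hl e] using AlgHom.congr_fun h p
  obtain ⟨H, hH⟩ := exists_aeval_esymm_of_symmetric _ hsym
  let E : Fin n → MvPolynomial (Fin n) (MvPolynomial (Fin n) ℤ) :=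
    fun i => esymm (Fin n) (MvPolynomial (Fin n) ℤ) ((i : ℕ) + 1)
  have hcoef : ∀ (e : Equiv.Perm (Fin n)),
      map (rename e).toRingHom H = H := fun e => by
    apply aeval_esymm_injective (MvPolynomial (Fin n) ℤ) le_rfl
    have h1 : map (rename e).toRingHom (Φ p) = Φ p := by
      have h : (mapAlgHom (rename e)).comp Φ.toAlgHom =
          Φ.toAlgHom.comp (rename (Sum.map id e)) := by
        refine algHom_ext fun x => ?_
        rcases x with i | j <;> simp [Φ]
      simpa [hr e] using AlgHom.congr_fun h p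
    rw [← hH] at h1
    rw [← h1, aeval_def, aeval_def, algebraMap_eq, map_eval₂]
    congr 1
    funext i
    simp [map_esymm]
  have hmem : ∀ d, H.coeff d ∈ Set.range
      (aeval (R := ℤ) fun i : Fin n => esymm (Fin n) ℤ ((i : ℕ) + 1)) := fun d => by
    obtain ⟨c, hc⟩ := exists_aeval_esymm_of_symmetric ℤ (p := H.coeff d) fun e => by
      simpa [coeff_map] using congr_arg (coeff d) (hcoef e)
    exact ⟨c, hc⟩
  choose c hc using hmem
  let H' : MvPolynomial (Fin n) (MvPolynomial (Fin n) ℤ) := ∑ d ∈ H.support, monomial d (c d)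
  refine ⟨Φ.symm H', ?_⟩
  have key : Φ.toAlgHom.comp
      (aeval (Sum.elim (fun k : Fin n => rename Sum.inl (esymm (Fin n) ℤ ((k : ℕ) + 1)))
        (fun k : Fin n => rename Sum.inr (esymm (Fin n) ℤ ((k : ℕ) + 1))))) =
      ((aeval (R := MvPolynomial (Fin n) ℤ) E).restrictScalars ℤ).comp
        ((mapAlgHom (aeval (R := ℤ) fun i : Fin n => esymm (Fin n) ℤ ((i : ℕ) + 1))).comp
          Φ.toAlgHom) := by
    refine algHom_ext fun x => ?_
    rcases x with i | j
    · have := AlgHom.congr_fun
        (sumAlgEquiv_comp_rename_inl (R := ℤ) (S₁ := Fin n) (S₂ := Fin n))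
        (esymm (Fin n) ℤ ((i : ℕ) + 1))
      simpa [Φ, E, map_esymm] using this
    · have := AlgHom.congr_fun
        (sumAlgEquiv_comp_rename_inr (R := ℤ) (S₁ := Fin n) (S₂ := Fin n))
        (esymm (Fin n) ℤ ((j : ℕ) + 1))
      simpa [Φ] using this
  apply Φ.injective
  have h2 := AlgHom.congr_fun key (Φ.symm H')
  simp only [AlgHom.comp_apply, AlgEquiv.coe_toAlgHom, AlgEquiv.apply_symm_apply,
    AlgHom.restrictScalars_apply] at h2
  rw [h2, ← hH]
  congr 1
  conv_rhs => rw [H.as_sum]
  simp [H', map_sum, map_monomial, hc]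

theorem exists_isMulPoly (n : ℕ) :
    ∃ P : MvPolynomial (Fin n ⊕ Fin n) ℤ, LambdaRing.IsMulPoly n P := by
  obtain ⟨P, hP⟩ := exists_aeval_esymm_sum (mulGen_symm_left n n) (mulGen_symm_right n n)
  let w : Fin n ⊕ Fin n → ℕ × ℕ := Sum.elim (fun k => ((k : ℕ) + 1, 0)) (fun k => (0, (k : ℕ) + 1))
  let w' : Fin n ⊕ Fin n → ℕ × ℕ := Sum.elim (fun _ => (1, 0)) (fun _ => (0, 1))
  refine ⟨weightedHomogeneousComponent w (n, n) P, ?_,
    weightedHomogeneousComponent_isWeightedHomogeneous _ _⟩
  rw [aeval_weightedHomogeneousComponent (w' := w') ?_, hP]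
  · refine IsWeightedHomogeneous.weightedHomogeneousComponent_same ?_
    rw [LambdaRing.mulGen, Finset.esymm_map_val]
    refine IsWeightedHomogeneous.sum _ _ _ fun t ht => ?_
    have h := IsWeightedHomogeneous.prod (w := w') t
      (fun ab : Fin n × Fin n => (X (Sum.inl ab.1) * X (Sum.inr ab.2) :
        MvPolynomial (Fin n ⊕ Fin n) ℤ)) (fun _ => ((1, 1) : ℕ × ℕ))
      fun ab _ => by
        simpa [w'] using (isWeightedHomogeneous_X ℤ w' (Sum.inl ab.1)).mul
          (isWeightedHomogeneous_X ℤ w' (Sum.inr ab.2))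
    simpa [(Finset.mem_powersetCard.1 ht).2] using h
  · rintro (k | k)
    · simpa [w, w'] using isWeightedHomogeneous_rename_esymm (R := ℤ) (Sum.inl : Fin n → _)
        w' (1, 0) (fun _ => rfl) ((k : ℕ) + 1)
    · simpa [w, w'] using isWeightedHomogeneous_rename_esymm (R := ℤ) (Sum.inr : Fin n → _)
        w' (0, 1) (fun _ => rfl) ((k : ℕ) + 1)

theorem compGen_symmetric (N i j : ℕ) : (LambdaRing.compGen N i j).IsSymmetric := fun e => by
  classical
  rw [LambdaRing.compGen, esymm_map', Multiset.map_map]
  congr 1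
  conv_rhs => rw [← Finset.map_univ_equiv e, Finset.powersetCard_map, Finset.map_val,
    Multiset.map_map]
  exact Multiset.map_congr rfl fun s _ => by simp [map_prod, Finset.mapEmbedding_apply]

theorem exists_isCompPoly (i j : ℕ) :
    ∃ Q : MvPolynomial (Fin (i * j)) ℤ, LambdaRing.IsCompPoly i j Q := by
  obtain ⟨Q, hQ⟩ := exists_aeval_esymm_of_symmetric ℤ (compGen_symmetric (i * j) i j)
  let w : Fin (i * j) → ℕ := fun k => (k : ℕ) + 1
  let w' : Fin (i * j) → ℕ := fun _ => 1
  refine ⟨weightedHomogeneousComponent w (i * j) Q, ?_,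
    weightedHomogeneousComponent_isWeightedHomogeneous _ _⟩
  rw [aeval_weightedHomogeneousComponent (w' := w') ?_, hQ]
  · refine IsWeightedHomogeneous.weightedHomogeneousComponent_same ?_
    rw [LambdaRing.compGen, Finset.esymm_map_val]
    refine IsWeightedHomogeneous.sum _ _ _ fun t ht => ?_
    rw [Finset.mem_powersetCard] at ht
    have h := IsWeightedHomogeneous.prod (w := w') t
      (fun s => (∏ a ∈ s, X a : MvPolynomial (Fin (i * j)) ℤ)) (fun _ => i)
      fun s hs => by
        simpa [(Finset.mem_powersetCard.1 (ht.1 hs)).2] using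
          IsWeightedHomogeneous.prod (w := w') s (fun a => (X a : MvPolynomial (Fin (i * j)) ℤ))
            (fun _ => 1) fun a _ => isWeightedHomogeneous_X ℤ w' a
    simpa [ht.2, mul_comm] using h
  · intro k
    simpa [w, w'] using isWeightedHomogeneous_rename_esymm (R := ℤ)
      (id : Fin (i * j) → Fin (i * j)) w' 1 (fun _ => rfl) ((k : ℕ) + 1)

end GrothLib.Lambda
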