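import Mathlib.RingTheory.MvPolynomial.WeightedHomogeneous
import Mathlib.RingTheory.Ideal.Maps
import Groth.Agent.Lib.Lambda.Sym

/-!
# The filtration of a polynomial ring by weight
-/

namespace GrothLib.Lambda

open MvPolynomial

variable {σ τ R : Type*} [CommRing R] {w : σ → ℕ} {w' : τ → ℕ}

/-- polynomials all of whose monomials have weight at least `n` -/
def wtIdeal (w : σ → ℕ) (n : ℕ) : Ideal (MvPolynomial σ R) where
  carrier := {p | ∀ d, coeff d p ≠ 0 → n ≤ Finsupp.weight w d}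
  zero_mem' d h := absurd (coeff_zero d) h
  add_mem' {p q} hp hq d h := by
    by_cases h1 : coeff d p = 0
    · exact hq d (by simpa [h1] using h)
    · exact hp d h1
  smul_mem' c p hp d h := by
    classical
    obtain ⟨⟨a, b⟩, hab, hne⟩ := Finset.exists_ne_zero_of_sum_ne_zero
      (by simpa [coeff_mul] using h : ∑ x ∈ Finset.antidiagonal d, coeff x.1 c * coeff x.2 p ≠ 0)
    rw [Finset.mem_antidiagonal] at hab
    have := hp b (right_ne_zero_of_mul hne)
    rw [← hab, map_add]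
    exact this.trans le_add_self

theorem mem_wtIdeal {n : ℕ} {p : MvPolynomial σ R} :
    p ∈ wtIdeal w n ↔ ∀ d, coeff d p ≠ 0 → n ≤ Finsupp.weight w d := Iff.rfl

theorem wtIdeal_mono {a b : ℕ} (h : a ≤ b) :
    (wtIdeal w b : Ideal (MvPolynomial σ R)) ≤ wtIdeal w a :=
  fun _ hp d hd => h.trans (hp d hd)

theorem wtIdeal_zero : (wtIdeal w 0 : Ideal (MvPolynomial σ R)) = ⊤ :=
  eq_top_iff.2 fun _ _ _ _ => Nat.zero_le _

theorem mem_wtIdeal_zero (p : MvPolynomial σ R) : p ∈ wtIdeal w 0 := fun _ _ => Nat.zero_le _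

theorem mul_mem_wtIdeal {a b : ℕ} {p q : MvPolynomial σ R} (hp : p ∈ wtIdeal w a)
    (hq : q ∈ wtIdeal w b) : p * q ∈ wtIdeal w (a + b) := fun d h => by
  classical
  obtain ⟨⟨u, v⟩, huv, hne⟩ := Finset.exists_ne_zero_of_sum_ne_zero
    (by simpa [coeff_mul] using h : ∑ x ∈ Finset.antidiagonal d, coeff x.1 p * coeff x.2 q ≠ 0)
  rw [Finset.mem_antidiagonal] at huv
  have h1 := hp u (left_ne_zero_of_mul hne)
  have h2 := hq v (right_ne_zero_of_mul hne)
  rw [← huv, map_add]
  exact add_le_add h1 h2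

theorem monomial_mem_wtIdeal {n : ℕ} {d : σ →₀ ℕ} (r : R) (h : n ≤ Finsupp.weight w d) :
    monomial d r ∈ wtIdeal w n := fun e he => by
  classical
  rw [coeff_monomial] at he
  split_ifs at he with h'
  · exact h' ▸ h
  · exact absurd rfl he

theorem X_mem_wtIdeal {n : ℕ} {i : σ} (h : n ≤ w i) :
    (X i : MvPolynomial σ R) ∈ wtIdeal w n :=
  monomial_mem_wtIdeal 1 (by simpa [Finsupp.weight_apply] using h)

theorem homogeneous_mem_wtIdeal {n m : ℕ} {p : MvPolynomial σ R}
    (hp : IsWeightedHomogeneous w p m) (h : n ≤ m) : p ∈ wtIdeal w n :=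
  fun _ hd => h.trans (hp hd).ge

theorem wtIdeal_le_of_monomial {n : ℕ} {I : Ideal (MvPolynomial σ R)}
    (h : ∀ d : σ →₀ ℕ, n ≤ Finsupp.weight w d → monomial d (1 : R) ∈ I) :
    wtIdeal w n ≤ I := fun p hp => by
  rw [as_sum p]
  refine Ideal.sum_mem _ fun d hd => ?_
  rw [← mul_one (coeff d p), ← C_mul_monomial]
  exact I.mul_mem_left _ (h d (hp d (mem_support_iff.1 hd)))

theorem mem_wtIdeal_one (hw : ∀ i, 1 ≤ w i) {p : MvPolynomial σ R} :
    p ∈ wtIdeal w 1 ↔ constantCoeff p = 0 := by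
  refine ⟨fun h => ?_, fun h d hd => ?_⟩
  · by_contra hne
    simpa using h 0 hne
  · rcases eq_or_ne d 0 with rfl | hd0
    · exact absurd h hd
    · obtain ⟨i, hi⟩ := Finsupp.ne_iff.1 hd0
      exact (hw i).trans (Finsupp.le_weight_of_ne_zero' w (by simpa using hi))

theorem mem_wtIdeal_iff_component {n : ℕ} {p : MvPolynomial σ R} :
    p ∈ wtIdeal w n ↔ ∀ k < n, weightedHomogeneousComponent w k p = 0 := by
  classical
  refine ⟨fun h k hk => ?_, fun h d hd => ?_⟩
  · ext d
    rw [coeff_weightedHomogeneousComponent, coeff_zero]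
    split_ifs with h'
    · by_contra hne
      have := h d hne
      omega
    · rfl
  · by_contra hlt
    have := congr_arg (coeff d) (h _ (not_le.1 hlt))
    rw [coeff_weightedHomogeneousComponent, if_pos rfl, coeff_zero] at this
    exact hd this

theorem map_mem_wtIdeal_iff {S : Type*} [CommRing S] {f : R →+* S} (hf : Function.Injective f)
    {n : ℕ} {p : MvPolynomial σ R} : map f p ∈ wtIdeal w n ↔ p ∈ wtIdeal w n := by
  refine forall_congr' fun d => ?_
  rw [coeff_map, ne_eq, map_eq_zero_iff f hf]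

theorem aeval_mem_wtIdeal {f : σ → MvPolynomial τ R}
    (hf : ∀ i, IsWeightedHomogeneous w' (f i) (w i)) {n : ℕ} {p : MvPolynomial σ R}
    (hp : p ∈ wtIdeal w n) : aeval f p ∈ wtIdeal w' n := by
  rw [mem_wtIdeal_iff_component] at hp ⊢
  intro k hk
  rw [← aeval_weightedHomogeneousComponent hf, hp k hk, map_zero]

theorem mem_wtIdeal_of_aeval {f : σ → MvPolynomial τ R}
    (hf : ∀ i, IsWeightedHomogeneous w' (f i) (w i)) (hinj : Function.Injective (aeval (R := R) f))
    {n : ℕ} {p : MvPolynomial σ R} (hp : aeval f p ∈ wtIdeal w' n) : p ∈ wtIdeal w n := by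
  rw [mem_wtIdeal_iff_component] at hp ⊢
  intro k hk
  apply hinj
  rw [aeval_weightedHomogeneousComponent hf, hp k hk, map_zero]

theorem rename_mem_wtIdeal_iff {j : σ → τ} (hj : Function.Injective j) {n : ℕ}
    {p : MvPolynomial σ R} : rename j p ∈ wtIdeal w' n ↔ p ∈ wtIdeal (w' ∘ j) n := by
  have h : ∀ i, IsWeightedHomogeneous w' (X (j i) : MvPolynomial τ R) ((w' ∘ j) i) :=
    fun i => isWeightedHomogeneous_X R w' (j i)
  have e : rename j = aeval (R := R) (fun i => (X (j i) : MvPolynomial τ R)) :=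
    algHom_ext fun i => by simp
  have hinj := rename_injective (R := R) j hj
  rw [e] at hinj ⊢
  exact ⟨mem_wtIdeal_of_aeval h hinj, aeval_mem_wtIdeal h⟩

end GrothLib.Lambda
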