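import Groth.Agent.Lib.Lambda.Free
import Groth.Agent.Lib.Lambda.Weight
import Mathlib.Algebra.Group.ForwardDiff
import Mathlib.Algebra.Polynomial.Eval.Degree
import Mathlib.RingTheory.Ideal.Quotient.Operations

/-!
# γ-operations and the weight filtration in a λ-ring of line elements
-/

namespace GrothLib.Lambda

open MvPolynomial LambdaRing Finset

universe u v

/-- a polynomial over a `ℚ`-algebra vanishing on the natural numbers is zero -/
theorem polynomial_eq_zero_of_natCast {R : Type*} [CommRing R] [Algebra ℚ R] (p : Polynomial R)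
    (h : ∀ n : ℕ, p.eval (n : R) = 0) : p = 0 := by
  induction hd : p.natDegree using Nat.strong_induction_on generalizing p with
  | _ d ih =>
    have h0 : p.coeff 0 = 0 := by rw [Polynomial.coeff_zero_eq_eval_zero]; simpa using h 0
    obtain ⟨q, hq⟩ := Polynomial.X_dvd_iff.2 h0
    have hq' : ∀ n : ℕ, (q.comp (Polynomial.X + 1)).eval (n : R) = 0 := fun n => by
      rw [Polynomial.eval_comp, Polynomial.eval_add, Polynomial.eval_X, Polynomial.eval_one]
      have hn := h (n + 1)
      rw [hq, Polynomial.eval_mul, Polynomial.eval_X] at hn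
      have := natCast_succ_mul_injective n (K := R) (x := q.eval (n + 1)) (y := 0)
        (by simpa using hn)
      exact this
    by_cases hq0 : q = 0
    · rw [hq, hq0, mul_zero]
    · nontriviality R
      have hdeg : q.natDegree < d := by
        rw [← hd, hq, Polynomial.natDegree_X_mul hq0]
        omega
      have hle : (q.comp (Polynomial.X + 1)).natDegree ≤ q.natDegree := by
        refine Polynomial.natDegree_comp_le.trans ?_
        rw [← Polynomial.C_1, Polynomial.natDegree_X_add_C, mul_one]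
      have hz := ih _ (hle.trans_lt hdeg) _ hq' rfl
      have hq1 : q = (q.comp (Polynomial.X + 1)).comp (Polynomial.X - 1) := by
        rw [Polynomial.comp_assoc]; simp
      rw [hz, Polynomial.zero_comp] at hq1
      exact absurd hq1 hq0

theorem ofPsi_const_zero {R : Type*} [CommRing R] [Algebra ℚ R] :
    ∀ j : ℕ, ofPsi (fun _ => (0 : R)) (j + 1) = 0
  | 0 => by rw [ofPsi_one]
  | j + 1 => by
    refine natCast_succ_mul_injective (j + 1) ?_
    rw [ofPsi_const_succ, ofPsi_const_zero j, mul_zero, mul_zero]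

theorem gammaOf_ofPsi_smul_eq_zero {R : Type*} [CommRing R] [Algebra ℚ R] (a : ℕ → R) (r : ℕ)
    (h : ∀ n : ℕ, gammaOf (ofPsi fun k => (n : R) * a k) r = 0) (c : R) :
    gammaOf (ofPsi fun k => c * a k) r = 0 := by
  let P : Polynomial R := gammaOf (ofPsi fun k => Polynomial.X * Polynomial.C (a k)) r
  have key : ∀ x : R, Polynomial.evalRingHom x P = gammaOf (ofPsi fun k => x * a k) r := fun x => by
    refine (gammaOf_map _ _ r).trans ?_
    congr 1
    funext n
    rw [Function.comp_apply, ofPsi_map]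
    exact ofPsi_congr fun k _ _ => by
      simp only [Function.comp_apply, Polynomial.coe_evalRingHom, Polynomial.eval_mul,
        Polynomial.eval_X, Polynomial.eval_C]
  have hP : P = 0 := polynomial_eq_zero_of_natCast P fun n => (key n).trans (h n)
  rw [← key c, hP, map_zero]

/-- the finite difference identity -/
theorem sum_choose_pow_eq_factorial {R : Type*} [CommRing R] (n : ℕ) :
    ∑ i ∈ range (n + 1), (n.choose i : R) * ((-1) ^ i * ((i + 1 : ℕ) : R) ^ n) =
      (-1) ^ n * (n.factorial : R) := by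
  have h := fwdDiff_iter_eq_sum_shift (1 : R) (fun r : R => r ^ n) n 1
  rw [fwdDiff_iter_eq_factorial, Pi.natCast_apply] at h
  rw [h, Finset.mul_sum]
  refine sum_congr rfl fun i hi => ?_
  have hi' : i ≤ n := Nat.lt_succ_iff.1 (mem_range.1 hi)
  rw [zsmul_eq_mul, nsmul_one, Nat.cast_succ, add_comm (i : R) 1]
  push_cast
  have : (-1 : R) ^ n * (-1) ^ (n - i) = (-1) ^ i := by
    conv_lhs => rw [← Nat.add_sub_cancel' hi', pow_add, Nat.add_sub_cancel_left]
    rw [mul_assoc, ← mul_pow, neg_one_mul, neg_neg, one_pow, mul_one]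
  rw [← this]
  ring

section

variable {σ : Type*} {R : Type*} [CommRing R] {w : σ → ℕ}

theorem X_pow_mem_wtIdeal {τ : Type*} {S : Type*} [CommRing S] {w' : τ → ℕ}
    {x : MvPolynomial τ S} {a : ℕ} (h : x ∈ wtIdeal w' a) (e : ℕ) :
    x ^ e ∈ wtIdeal w' (e * a) := by
  induction e with
  | zero => rw [zero_mul]; exact mem_wtIdeal_zero _
  | succ e ih => rw [pow_succ, Nat.succ_mul]; exact mul_mem_wtIdeal ih h

theorem ringHom_mem_wtIdeal {τ : Type*} {S : Type*} [CommRing S] {w' : τ → ℕ}
    (f : MvPolynomial σ R →+* MvPolynomial τ S) (hf : ∀ i, f (X i) ∈ wtIdeal w' (w i)) {n : ℕ}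
    {p : MvPolynomial σ R} (hp : p ∈ wtIdeal w n) : f p ∈ wtIdeal w' n := by
  refine (wtIdeal_le_of_monomial (I := (wtIdeal w' n).comap f) fun d hd => ?_) hp
  rw [Ideal.mem_comap]
  refine wtIdeal_mono hd ?_
  clear hd
  induction d using Finsupp.induction with
  | zero => simpa using mem_wtIdeal_zero _
  | single_add i e d _ _ ih =>
    rw [monomial_single_add, map_mul, map_pow, map_add, Finsupp.weight_single, smul_eq_mul]
    exact mul_mem_wtIdeal (X_pow_mem_wtIdeal (hf i) e) ih

end

variable {Q : Type u} [CommRing Q] {σ : Type v}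

/-- the order filtration -/
abbrev ordIdeal (n : ℕ) : Ideal (MvPolynomial (LVar σ) Q) := wtIdeal (fun _ : LVar σ => 1) n

theorem mem_ordIdeal_one {p : MvPolynomial (LVar σ) Q} :
    p ∈ ordIdeal 1 ↔ constantCoeff p = 0 := mem_wtIdeal_one fun _ => le_rfl

theorem psiL_mem {n : ℕ} (k : ℕ) {z : MvPolynomial (LVar σ) Q} (hz : z ∈ ordIdeal n) :
    psiL Q σ k z ∈ ordIdeal n :=
  ringHom_mem_wtIdeal (psiL Q σ k).toRingHom (fun i => mem_ordIdeal_one.2 (by simp [psiL])) hz

theorem psiL_monomial_congr (k : ℕ) (d : LVar σ →₀ ℕ) :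
    psiL Q σ k (monomial d 1) -
        (k : MvPolynomial (LVar σ) Q) ^ Finsupp.weight (fun _ : LVar σ => 1) d * monomial d 1 ∈
      ordIdeal (Finsupp.weight (fun _ : LVar σ => 1) d + 1) := by
  induction d using Finsupp.induction with
  | zero => simp
  | single_add i e d _ he ih =>
    clear he
    have hX : psiL Q σ k (X i) - (k : MvPolynomial (LVar σ) Q) * X i ∈ ordIdeal 2 := by
      have h1 : psiL Q σ k (X i) = (1 + X i) ^ k - 1 := aeval_X _ i
      rw [h1]
      clear ih h1
      induction k with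
      | zero => simp
      | succ k ihk =>
        rw [show ((1 : MvPolynomial (LVar σ) Q) + X i) ^ (k + 1) - 1 - ((k + 1 : ℕ) : MvPolynomial (LVar σ) Q) * X i =
          ((1 + X i) ^ k - 1 - (k : MvPolynomial (LVar σ) Q) * X i) * (1 + X i) +
            (k : MvPolynomial (LVar σ) Q) * (X i * X i) by push_cast; ring]
        refine add_mem (Ideal.mul_mem_right _ _ ihk) (Ideal.mul_mem_left _ _ ?_)
        exact mul_mem_wtIdeal (a := 1) (b := 1) (X_mem_wtIdeal le_rfl) (X_mem_wtIdeal le_rfl)
    have hXe : psiL Q σ k (X i) ^ e - (k : MvPolynomial (LVar σ) Q) ^ e * X i ^ e ∈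
        ordIdeal (e + 1) := by
      clear ih
      induction e with
      | zero => simp
      | succ e ihe =>
        rw [show psiL Q σ k (X i) ^ (e + 1) - (k : MvPolynomial (LVar σ) Q) ^ (e + 1) * X i ^ (e + 1) =
          (psiL Q σ k (X i) ^ e - (k : MvPolynomial (LVar σ) Q) ^ e * X i ^ e) * psiL Q σ k (X i) +
            (k : MvPolynomial (LVar σ) Q) ^ e *
              (X i ^ e * (psiL Q σ k (X i) - (k : MvPolynomial (LVar σ) Q) * X i)) by ring]
        refine add_mem ?_ (Ideal.mul_mem_left _ _ ?_)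
        · exact mul_mem_wtIdeal (b := 1) ihe (psiL_mem k (X_mem_wtIdeal le_rfl))
        · have := mul_mem_wtIdeal (X_pow_mem_wtIdeal (X_mem_wtIdeal (R := Q) (w := fun _ : LVar σ => 1)
            (n := 1) (i := i) le_rfl) e) hX
          rw [mul_one] at this
          exact wtIdeal_mono (by omega) this
    rw [monomial_single_add, map_mul, map_pow, map_add, Finsupp.weight_single, smul_eq_mul, mul_one]
    set W := Finsupp.weight (fun _ : LVar σ => 1) d
    rw [show psiL Q σ k (X i) ^ e * psiL Q σ k (monomial d 1) -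
        (k : MvPolynomial (LVar σ) Q) ^ (e + W) * (X i ^ e * monomial d 1) =
      (psiL Q σ k (X i) ^ e - (k : MvPolynomial (LVar σ) Q) ^ e * X i ^ e) *
          psiL Q σ k (monomial d 1) +
        (k : MvPolynomial (LVar σ) Q) ^ e *
          (X i ^ e * (psiL Q σ k (monomial d 1) -
            (k : MvPolynomial (LVar σ) Q) ^ W * monomial d 1)) by ring]
    refine add_mem ?_ (Ideal.mul_mem_left _ _ ?_)
    · have := mul_mem_wtIdeal hXe (psiL_mem k (monomial_mem_wtIdeal (R := Q) (1 : Q) (le_refl W)))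
      exact wtIdeal_mono (by omega) this
    · have := mul_mem_wtIdeal (X_pow_mem_wtIdeal (X_mem_wtIdeal (R := Q) (w := fun _ : LVar σ => 1)
        (n := 1) (i := i) le_rfl) e) ih
      rw [mul_one] at this
      exact wtIdeal_mono (by omega) this

theorem psiL_congr (k : ℕ) {m : ℕ} {z : MvPolynomial (LVar σ) Q} (hz : z ∈ ordIdeal m) :
    psiL Q σ k z - (k : MvPolynomial (LVar σ) Q) ^ m * z ∈ ordIdeal (m + 1) := by
  rw [as_sum z, map_sum, Finset.mul_sum, ← Finset.sum_sub_distrib]
  refine Ideal.sum_mem _ fun d hd => ?_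
  have hw := hz d (mem_support_iff.1 hd)
  rw [show monomial d (coeff d z) = C (coeff d z) * monomial d (1 : Q) by
      rw [C_mul_monomial, mul_one],
    map_mul, show psiL Q σ k (C (coeff d z)) = C (coeff d z) from (psiL Q σ k).commutes _,
    mul_left_comm, ← mul_sub]
  refine Ideal.mul_mem_left _ _ ?_
  rcases hw.eq_or_lt with h | h
  · rw [h]
    exact psiL_monomial_congr k d
  · exact sub_mem (psiL_mem k (monomial_mem_wtIdeal _ h))
      (Ideal.mul_mem_left _ _ (monomial_mem_wtIdeal _ h))

variable [Algebra ℚ Q]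

theorem adamsOp_C_mul (c : Q) {k : ℕ} (hk : 1 ≤ k) (z : MvPolynomial (LVar σ) Q) :
    adamsOp k (C c * z) = C c * adamsOp k z := by
  rw [adamsOp_L Q σ hk, adamsOp_L Q σ hk, map_mul]
  congr 1
  exact (psiL Q σ k).commutes c

/-- elements all of whose `γ^r` have order at least `r` -/
noncomputable def gammaBounded : Submodule Q (MvPolynomial (LVar σ) Q) where
  carrier := {z | ∀ r, gamma r z ∈ ordIdeal r}
  zero_mem' r := by
    rcases r with _ | r
    · exact mem_wtIdeal_zero _
    · rw [gamma_succ_zero]; exact zero_mem _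
  add_mem' {x y} hx hy r := by
    rw [gamma_add']
    refine Ideal.sum_mem _ fun i hi => ?_
    rw [mem_range] at hi
    exact wtIdeal_mono (by omega) (mul_mem_wtIdeal (hx i) (hy (r - i)))
  smul_mem' c z hz r := by
    have hnat : ∀ n : ℕ, ∀ r, gamma r (n • z) ∈ ordIdeal r := by
      intro n
      induction n with
      | zero =>
        intro r
        rcases r with _ | r
        · exact mem_wtIdeal_zero _
        · rw [zero_smul, gamma_succ_zero]; exact zero_mem _
      | succ n ih =>
        intro r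
        rw [succ_nsmul, gamma_add']
        refine Ideal.sum_mem _ fun i hi => ?_
        rw [mem_range] at hi
        exact wtIdeal_mono (by omega) (mul_mem_wtIdeal (ih i) (hz (r - i)))
    let π := Ideal.Quotient.mk (ordIdeal r : Ideal (MvPolynomial (LVar σ) Q))
    have key : ∀ a : Q, π (gamma r (C a * z)) =
        gammaOf (ofPsi fun k => π (C a) * π (adamsOp k z)) r := fun a => by
      rw [gamma_eq, gammaOf_map]
      congr 1
      funext n
      rw [Function.comp_apply, lamSeq, lam_eq_ofPsi, ofPsi_map]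
      exact ofPsi_congr fun k hk _ => by simp [adamsOp_C_mul a hk]
    rw [smul_eq_C_mul]
    refine Ideal.Quotient.eq_zero_iff_mem.1 ((key c).trans
      (gammaOf_ofPsi_smul_eq_zero _ r (fun n => ?_) _))
    have h := key (n : Q)
    simp only [map_natCast] at h
    rw [← h, ← nsmul_eq_mul]
    exact Ideal.Quotient.eq_zero_iff_mem.2 (hnat n r)

/-- line elements congruent to `1` -/
def IsLineElt (t : MvPolynomial (LVar σ) Q) : Prop :=
  constantCoeff t = 1 ∧ ∀ k, 1 ≤ k → adamsOp k t = t ^ k

theorem IsLineElt.sub_one_mem {t : MvPolynomial (LVar σ) Q} (ht : IsLineElt t) :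
    t - 1 ∈ gammaBounded (Q := Q) (σ := σ) := fun r => by
  have hline : ∀ j, 2 ≤ j → LambdaOps.lam j t = 0 := fun j hj => by
    rw [lam_eq_ofPsi, ofPsi_congr (b := fun k => t ^ k) fun k hk _ => ht.2 k hk, ofPsi_pow]
    obtain ⟨i, rfl⟩ := Nat.exists_eq_add_of_le' hj
    rfl
  rw [gamma_line_sub_one (isSpecial_L Q σ).lam_one_eq_zero hline]
  rcases r with _ | _ | r
  · exact mem_wtIdeal_zero _
  · exact mem_ordIdeal_one.2 (by simp [lineSeq, ht.1])
  · exact zero_mem _

theorem sub_constantCoeff_mem_gammaBounded (p : MvPolynomial (LVar σ) Q) :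
    ∀ t, IsLineElt t → p * t - C (constantCoeff (p * t)) ∈ gammaBounded (Q := Q) (σ := σ) := by
  induction p using MvPolynomial.induction_on with
  | C c =>
    intro t ht
    rw [map_mul, ht.1, constantCoeff_C, mul_one, ← mul_sub_one, ← smul_eq_C_mul]
    exact Submodule.smul_mem _ c ht.sub_one_mem
  | add p q hp hq =>
    intro t ht
    rw [show (p + q) * t - C (constantCoeff ((p + q) * t)) =
      (p * t - C (constantCoeff (p * t))) + (q * t - C (constantCoeff (q * t))) by
      rw [add_mul, map_add, map_add]; abel]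
    exact add_mem (hp t ht) (hq t ht)
  | mul_X p i hp =>
    intro t ht
    have ht' : IsLineElt ((1 + X i) * t) := by
      refine ⟨by simp [ht.1], fun k hk => ?_⟩
      rw [adamsOp_L Q σ hk, map_mul, psiL_one_add, ← adamsOp_L Q σ hk, ht.2 k hk, mul_pow]
    rw [show p * X i * t - C (constantCoeff (p * X i * t)) =
      (p * ((1 + X i) * t) - C (constantCoeff (p * ((1 + X i) * t)))) -
        (p * t - C (constantCoeff (p * t))) by
      rw [show p * X i * t = p * ((1 + X i) * t) - p * t by ring, map_sub constantCoeff, map_sub]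
      abel]
    exact sub_mem (hp _ ht') (hp t ht)

/-- (a): `γ^r` of an element of positive order has order at least `r` -/
theorem gamma_mem_ordIdeal {z : MvPolynomial (LVar σ) Q} (hz : z ∈ ordIdeal 1) (r : ℕ) :
    gamma r z ∈ ordIdeal r := by
  have h1 : IsLineElt (1 : MvPolynomial (LVar σ) Q) :=
    ⟨map_one _, fun k hk => by rw [adamsOp_L Q σ hk, map_one, one_pow]⟩
  have h := sub_constantCoeff_mem_gammaBounded z 1 h1 r
  rw [mul_one, mem_ordIdeal_one.1 hz, map_zero, sub_zero] at h
  exact h

theorem lam_mem_ordIdeal {m : ℕ} {z : MvPolynomial (LVar σ) Q} (hz : z ∈ ordIdeal m) (j : ℕ) :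
    LambdaOps.lam (j + 1) z ∈ ordIdeal m := by
  let π := Ideal.Quotient.mk (ordIdeal m : Ideal (MvPolynomial (LVar σ) Q))
  rw [← Ideal.Quotient.eq_zero_iff_mem, lam_eq_ofPsi, ofPsi_map,
    ofPsi_congr (b := fun _ => (0 : _)) fun k hk _ => by
      rw [Function.comp_apply, adamsOp_L Q σ hk, Ideal.Quotient.eq_zero_iff_mem]
      exact psiL_mem k hz]
  exact (ofPsi_const_zero j)

/-- (b): `γ^m z ≡ (-1)^(m-1) (m-1)! z` for `z` of order `m` -/
theorem gamma_congr_ordIdeal {m : ℕ} {z : MvPolynomial (LVar σ) Q} (hz : z ∈ ordIdeal (m + 1)) :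
    gamma (m + 1) z - (-1) ^ m * (m.factorial : MvPolynomial (LVar σ) Q) * z ∈ ordIdeal (m + 2) := by
  set π := Ideal.Quotient.mk (ordIdeal (m + 2) : Ideal (MvPolynomial (LVar σ) Q)) with hπ
  rw [← Ideal.Quotient.eq_zero_iff_mem, ← hπ, map_sub, sub_eq_zero, gamma_eq, gammaOf_succ, map_sum]
  have hlam : ∀ j, π (LambdaOps.lam (j + 1) z) =
      (-1) ^ j * ((j + 1 : ℕ) : _) ^ m * π z := fun j => by
    have hprod : ∀ i k, π (LambdaOps.lam (i + 1) z) * π (adamsOp (k + 1) z) = 0 := fun i k => by
      rw [← map_mul, hπ, Ideal.Quotient.eq_zero_iff_mem, adamsOp_L Q σ (Nat.le_add_left 1 k)]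
      exact wtIdeal_mono (by omega)
        (mul_mem_wtIdeal (lam_mem_ordIdeal hz i) (psiL_mem _ hz))
    have h := congr_arg π (newton_lamSeq z j)
    have hk : π (adamsOp (j + 1) z) = ((j + 1 : ℕ) : _) ^ (m + 1) * π z := by
      rw [adamsOp_L Q σ (Nat.le_add_left 1 j), ← map_natCast π, ← map_pow, ← map_mul, hπ,
        Ideal.Quotient.eq]
      exact psiL_congr (j + 1) hz
    apply natCast_succ_mul_injective j
    rw [map_mul, map_natCast, map_sum, Finset.sum_eq_single_of_mem j (by simp)] at h
    · refine h.trans ?_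
      rw [map_mul, map_mul, hk, Nat.sub_self, lamSeq_zero', map_one, mul_one, map_pow, map_neg,
        map_one]
      ring
    · intro i hi hne
      rw [mem_range] at hi
      obtain ⟨l, hl⟩ : ∃ l, j - i = l + 1 := ⟨j - i - 1, by omega⟩
      simp only [map_mul, lamSeq]
      rw [hl, mul_assoc, mul_comm (π (adamsOp _ z)), hprod, mul_zero]
  simp only [lamSeq, map_mul, map_natCast, map_pow, map_neg, map_one, hlam]
  rw [← sum_choose_pow_eq_factorial, Finset.sum_mul]
  exact sum_congr rfl fun i _ => by ring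

end GrothLib.Lambda
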