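import Groth.Agent.Lib.Lambda.Gr
import Groth.Agent.Lib.Lambda.LineFilt
import Groth.Agent.Lib.Lambda.Det
import Mathlib.LinearAlgebra.TensorProduct.RightExactness

/-!
# The Chern character of a λ-ring

`ch x = ∑_j (1/j!) [D_j x]_j` with `D_j x = ∑_i (-1)^(j-i) C(j,i) ψ^i x`.
-/

set_option autoImplicit false

universe u

open LambdaRing Finset TensorProduct

namespace GrothLib.Lambda

attribute [local instance] intBinomialOps

variable {K : Type u} [CommRing K] [LambdaOps K] (P : PosStructure K)

/-- The differences of the Adams operations. -/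
noncomputable def dOp (j : ℕ) : K →+ K where
  toFun x := ∑ i ∈ range (j + 1), ((-1) ^ (j - i) * (j.choose i : K)) * adams P i x
  map_zero' := sum_eq_zero fun i _ => by
    rw [show adams P i (0 : K) = 0 from map_zero (adamsAddHom P i), mul_zero]
  map_add' x y := by
    rw [← sum_add_distrib]
    exact sum_congr rfl fun i _ => by rw [adams_add, mul_add]

theorem dOp_apply (j : ℕ) (x : K) :
    dOp P j x = ∑ i ∈ range (j + 1), ((-1) ^ (j - i) * (j.choose i : K)) * adams P i x := rfl

variable {P}

theorem dOp_zero_left (x : K) : dOp P 0 x = (P.aug x : K) := by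
  simp [dOp_apply, adams_zero]

theorem dOp_line {v : K} (hv : P.IsLine v) (j : ℕ) : dOp P j v = (v - 1) ^ j := by
  rw [dOp_apply, sub_eq_add_neg, add_pow]
  exact sum_congr rfl fun i _ => by rw [adams_line hv]; ring

theorem dOp_one {j : ℕ} (hj : 1 ≤ j) : dOp P j (1 : K) = 0 := by
  rw [dOp_line (isLine_one P), sub_self, zero_pow (by omega)]

theorem map_dOp {K' : Type u} [CommRing K'] [LambdaOps K'] {P' : PosStructure K'} {f : K →+* K'}
    (hf : IsExtension P P' f) (j : ℕ) (x : K) : f (dOp P j x) = dOp P' j (f x) := by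
  simp [dOp_apply, map_sum, IsExtension.map_adams hf]

/-- The reduced γ-sequence. -/
def redGamma (P : PosStructure K) (x : K) (k : ℕ) : K := gamma k (x - (P.aug x : K))

theorem redGamma_zero_left (x : K) : redGamma P x 0 = 1 := gamma_zero_left _

theorem redGamma_add (x y : K) :
    redGamma P (x + y) = conv (redGamma P x) (redGamma P y) := by
  funext k
  simp only [redGamma, map_add, Int.cast_add]
  rw [show x + y - ((P.aug x : K) + (P.aug y : K)) = (x - (P.aug x : K)) + (y - (P.aug y : K)) by ring,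
    gamma_add']
  rfl

theorem psiOf_redGamma_zero {j : ℕ} : psiOf (redGamma P (0 : K)) j = 0 := by
  have h := redGamma_add (P := P) (0 : K) 0
  rw [add_zero] at h
  have h2 := psiOf_conv (redGamma P (0 : K)) (redGamma P 0) (redGamma_zero_left _) (redGamma_zero_left _) j
  rw [← h] at h2
  linear_combination -h2

/-- The power sums of the Chern roots are the differences of the Adams operations. -/
theorem psiOf_redGamma (hK : HasSplitting K P) {j : ℕ} (hj : 1 ≤ j) (x : K) :
    psiOf (redGamma P x) j = dOp P j x := by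
  obtain ⟨L, f, hf, h⟩ := exists_split hK [x]
  refine hf.injective ?_
  rw [map_dOp hf, psiOf_map f _ (redGamma_zero_left x)]
  have e : f ∘ redGamma P x = redGamma L.posStr (f x) := funext fun k => by
    simp only [Function.comp_apply, redGamma]
    rw [Commutes.gamma hf.isLambdaHom, map_sub, map_intCast, hf.aug_comp]
  rw [e]
  have key : ∀ a ∈ lineGroup L.posStr, psiOf (redGamma L.posStr a) j = dOp L.posStr j a := by
    intro a ha
    induction ha using AddSubgroup.closure_induction with
    | mem v hv =>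
      rw [dOp_line hv]
      have e : redGamma L.posStr v = lineSeq (v - 1) := funext fun k => by
        rw [redGamma, hv.2, Int.cast_one,
          gamma_line_sub_one (lam_one_eq_zero_of_pos L.posStr) fun i hi => lam_line_eq_zero hv hi]
      rw [e]
      exact ((newton_lineSeq (v - 1)).eq_psiOf rfl j hj).symm
    | zero => rw [map_zero]; exact psiOf_redGamma_zero
    | add a b _ _ ha hb =>
      rw [redGamma_add, psiOf_conv _ _ (redGamma_zero_left a) (redGamma_zero_left b), ha, hb, map_add]
    | neg a _ ha =>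
      have h := psiOf_conv (redGamma L.posStr a) (redGamma L.posStr (-a)) (redGamma_zero_left _)
        (redGamma_zero_left _) j
      rw [← redGamma_add, add_neg_cancel, psiOf_redGamma_zero, ha] at h
      rw [map_neg]
      linear_combination -h
  exact key _ (h x (by simp))

theorem redGamma_mem (x : K) (k : ℕ) : redGamma P x k ∈ gammaFiltration P k := by
  rw [mem_gammaFiltration_iff]
  exact gamma_mem_gammaFil (by simp) k

theorem psiOf_mem {c : ℕ → K} (h0 : c 0 = 1) (hc : ∀ k, c k ∈ gammaFiltration P k) :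
    ∀ j, psiOf c j ∈ gammaFiltration P j := by
  intro j
  induction j using Nat.strong_induction_on with
  | _ j ih =>
    rcases j with _ | r
    · exact mem_gammaFiltration_zero _
    · have h := newton_psiOf c h0 r
      rw [sum_range_succ, Nat.sub_self, h0, mul_one] at h
      have h1 : (-1 : K) ^ r * psiOf c (r + 1) ∈ gammaFiltration P (r + 1) := by
        rw [eq_sub_of_add_eq' h.symm]
        refine sub_mem (natCast_mul_mem_gammaFiltration (r + 1) (hc (r + 1))) (sum_mem fun i hi => ?_)
        have hi' := mem_range.1 hi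
        have h3 := mul_mem_gammaFiltration (mul_mem_gammaFiltration
          (mem_gammaFiltration_zero (P := P) ((-1 : K) ^ i)) (ih (i + 1) (by omega))) (hc (r - i))
        rwa [show 0 + (i + 1) + (r - i) = r + 1 by omega] at h3
      have h4 := mul_mem_gammaFiltration (mem_gammaFiltration_zero (P := P) ((-1 : K) ^ r)) h1
      rwa [Nat.zero_add, ← mul_assoc, ← pow_add, Even.neg_one_pow ⟨r, rfl⟩, one_mul] at h4

theorem dOp_mem (hK : HasSplitting K P) (j : ℕ) (x : K) : dOp P j x ∈ gammaFiltration P j := by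
  rcases Nat.eq_zero_or_pos j with rfl | hj
  · exact mem_gammaFiltration_zero _
  · rw [← psiOf_redGamma hK hj]
    exact psiOf_mem (redGamma_zero_left x) (redGamma_mem x) j

theorem psiOf_grK {c : ℕ → K} (h0 : c 0 = 1) (hc : ∀ k, c k ∈ gammaFiltration P k) {j : ℕ}
    (hj : 1 ≤ j) :
    psiOf (fun k : ℕ => KGr.grK P (k : ℤ) (c k)) j = KGr.grK P (j : ℤ) (psiOf c j) := by
  have h00 : (fun k : ℕ => KGr.grK P (k : ℤ) (c k)) 0 = 1 := by simp only [h0]; exact grK_zero_one
  refine ((Newton.eq_psiOf (a := fun k : ℕ => KGr.grK P (k : ℤ) (psiOf c k)) h00 (fun n => ?_) j hj)).symm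
  have hterm : ∀ i ∈ range (n + 1), psiOf c (i + 1) * c (n - i) ∈ gammaFiltration P (n + 1) ∧
      (-1) ^ i * psiOf c (i + 1) * c (n - i) ∈ gammaFiltration P (n + 1) := by
    intro i hi
    have h := mul_mem_gammaFiltration (psiOf_mem h0 hc (i + 1)) (hc (n - i))
    rw [show i + 1 + (n - i) = n + 1 by have := mem_range.1 hi; omega] at h
    refine ⟨h, ?_⟩
    have h' := mul_mem_gammaFiltration (mem_gammaFiltration_zero (P := P) ((-1 : K) ^ i)) h
    rwa [Nat.zero_add, ← mul_assoc] at h'
  show ((n + 1 : ℕ) : KGr.Gr P) * KGr.grK P ((n + 1 : ℕ) : ℤ) (c (n + 1)) = _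
  rw [← grK_natCast_mul _ (hc (n + 1)), newton_psiOf c h0 n, grK_sum _ _ fun i hi => (hterm i hi).2]
  refine sum_congr rfl fun i hi => ?_
  rw [mul_assoc ((-1 : KGr.Gr P) ^ i), grK_mul (psiOf_mem h0 hc (i + 1)) (hc (n - i)),
    show i + 1 + (n - i) = n + 1 by have := mem_range.1 hi; omega, mul_assoc ((-1 : K) ^ i)]
  have h := grK_intCast_mul (P := P) ((-1 : ℤ) ^ i) (hterm i hi).1
  push_cast at h
  exact h

/-- The Chern character in closed form. -/
theorem chK_eq (hK : HasSplitting K P) (d : ℕ) (x : K) :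
    KGr.chK P d x = ∑ j ∈ range (d + 1), ((j.factorial : ℚ)⁻¹) • KGr.grK P (j : ℤ) (dOp P j x) := by
  classical
  let xs : ℕ → MvPolynomial (Fin d) ℚ := fun k =>
    if k = 0 then 1 else if h : k - 1 < d then MvPolynomial.X ⟨k - 1, h⟩ else 0
  let Q : MvPolynomial (Fin d) ℚ := (d : MvPolynomial (Fin d) ℚ) +
    ∑ j ∈ range d, ((((j + 1).factorial : ℚ))⁻¹) • psiOf xs (j + 1)
  have hQ : KGr.chPoly d = Q := by
    rw [KGr.chPoly, AlgEquiv.symm_apply_eq]
    refine Subtype.ext (Eq.symm ?_)
    show (MvPolynomial.esymmAlgHom (Fin d) ℚ d Q).val = _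
    rw [MvPolynomial.esymmAlgHom_apply]
    set φ := MvPolynomial.aeval (R := ℚ) fun i : Fin d => MvPolynomial.esymm (Fin d) ℚ (i + 1) with hφ
    have hxs : φ ∘ xs = ((univ : Finset (Fin d)).val.map MvPolynomial.X).esymm := by
      funext k
      rw [Function.comp_apply]
      simp only [xs]
      split_ifs with h0 h1
      · rw [map_one, h0, esymm_zero']
      · rw [hφ, MvPolynomial.aeval_X, MvPolynomial.esymm_eq_multiset_esymm]
        exact congrArg _ (by simp only; omega)
      · rw [map_zero, esymm_eq_zero]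
        simp only [Multiset.card_map, card_val, card_univ, Fintype.card_fin]
        omega
    have hps : ∀ j, φ (psiOf xs (j + 1)) = ∑ i : Fin d, (MvPolynomial.X i : MvPolynomial (Fin d) ℚ) ^ (j + 1) := by
      intro j
      rw [show φ (psiOf xs (j + 1)) = φ.toRingHom (psiOf xs (j + 1))
        from rfl, psiOf_map φ.toRingHom xs (by simp [xs])]
      change psiOf (φ ∘ xs) (j + 1) = _
      rw [hxs, ← (newton_esymm _).eq_psiOf (esymm_zero' _) (j + 1) (by omega), Multiset.map_map]
      rfl
    simp only [Q, map_add, map_natCast, map_sum, map_smul, hps]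
    rw [show (d : MvPolynomial (Fin d) ℚ) = ∑ _i : Fin d, 1 by simp,
      sum_congr rfl (fun j _ => smul_sum), sum_comm, ← sum_add_distrib]
    refine sum_congr rfl fun i _ => ?_
    rw [KGr.expTrunc, map_sum, sum_range_succ' (fun k => Polynomial.aeval _ _), add_comm]
    simp [MvPolynomial.smul_eq_C_mul, Polynomial.aeval_def]
  rw [KGr.chK, hQ]
  set ψ := MvPolynomial.aeval (R := ℚ) fun i : Fin d => KGr.chern P (i.1 + 1) x with hψ
  have hps : ∀ j < d, ψ (psiOf xs (j + 1)) = KGr.grK P ((j + 1 : ℕ) : ℤ) (dOp P (j + 1) x) := by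
    intro j hj
    rw [show ψ (psiOf xs (j + 1)) = ψ.toRingHom (psiOf xs (j + 1)) from rfl,
      psiOf_map (L := KGr.Gr P) ψ.toRingHom xs (by simp [xs]), ← psiOf_redGamma hK (Nat.le_add_left 1 j),
      ← psiOf_grK (redGamma_zero_left x) (redGamma_mem x) (Nat.le_add_left 1 j)]
    refine psiOf_congr (by simp [xs]) (by simp only [redGamma_zero_left]; exact grK_zero_one) fun m hm => ?_
    change ψ (xs m) = _
    simp only [xs]
    split_ifs with h0 h1
    · subst h0; rw [map_one, redGamma_zero_left]; exact grK_zero_one.symm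
    · rw [hψ, MvPolynomial.aeval_X]
      obtain ⟨r, rfl⟩ : ∃ r, m = r + 1 := ⟨m - 1, by omega⟩
      rfl
    · omega
  simp only [Q, map_add, map_natCast, map_sum, map_smul]
  rw [sum_congr rfl (fun j hj => by rw [hps j (mem_range.1 hj)]), sum_range_succ' (fun j => _ • _),
    dOp_zero_left, ← intCast_eq_grK, Nat.factorial_zero, Nat.cast_one, inv_one, one_smul]
  simp only [map_sub, map_intCast, map_natCast]
  ring

theorem chK_add (hK : HasSplitting K P) (d : ℕ) (x y : K) :
    KGr.chK P d (x + y) = KGr.chK P d x + KGr.chK P d y := by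
  simp only [chK_eq hK, map_add, ← sum_add_distrib]
  exact sum_congr rfl fun j _ => by rw [grK_add (dOp_mem hK j x) (dOp_mem hK j y), smul_add]

theorem aug_eq_zero (hK : HasSplitting K P) {n : ℕ} {x : K} (hn : 1 ≤ n) (hx : x ∈ gammaFiltration P n) :
    P.aug x = 0 := by
  rw [gammaFiltration, if_neg (by omega)] at hx
  induction hx using AddSubgroup.closure_induction with
  | mem y hy =>
    obtain ⟨l, hl, hle, rfl⟩ := hy
    rw [map_list_prod, List.prod_eq_zero_iff, List.map_map, List.mem_map]
    by_contra hcon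
    have h0 : (l.map Prod.fst).sum = 0 := List.sum_eq_zero fun r hr => by
      obtain ⟨p, hp, rfl⟩ := List.mem_map.1 hr
      by_contra hne
      refine hcon ⟨p, hp, ?_⟩
      obtain ⟨k, hk⟩ := Nat.exists_eq_succ_of_ne_zero hne
      rw [Function.comp_apply, Commutes.gamma (commutes_aug hK), hl p hp, hk, gamma_succ_zero]
    omega
  | zero => exact map_zero _
  | add _ _ _ _ ha hb => rw [map_add, ha, hb, add_zero]
  | neg _ _ ha => rw [map_neg, ha, neg_zero]

theorem adams_congr_pow (hK : HasSplitting K P) {n : ℕ} {x : K} (hx : x ∈ gammaFiltration P n) (i : ℕ) :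
    adams P i x - (i : K) ^ n * x ∈ gammaFiltration P (n + 1) := by
  rcases Nat.eq_zero_or_pos i with rfl | hi
  · rw [adams_zero]
    rcases Nat.eq_zero_or_pos n with rfl | hn
    · rw [Nat.cast_zero, pow_zero, one_mul, mem_gammaFiltration_iff, ← neg_sub, neg_mem_iff, ← gamma_one' (x - _)]
      exact gamma_mem_gammaFil (by simp) 1
    · rw [aug_eq_zero hK hn hx, Nat.cast_zero, zero_pow (by omega), zero_mul]
      simp [zero_mem]
  · exact adams_congr hK hi hx

theorem sum_neg_one_pow_choose_pow {R : Type*} [CommRing R] (n : ℕ) :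
    ∑ i ∈ range (n + 1), ((-1) ^ (n - i) * (n.choose i : R)) * (i : R) ^ n = (n.factorial : R) := by
  have h := fwdDiff_iter_eq_sum_shift (1 : R) (fun r : R => r ^ n) n 0
  rw [fwdDiff_iter_eq_factorial, Pi.natCast_apply] at h
  rw [h]
  refine sum_congr rfl fun i _ => ?_
  rw [zsmul_eq_mul, nsmul_one, zero_add]
  push_cast
  ring

theorem dOp_congr (hK : HasSplitting K P) {n : ℕ} {x : K} (hx : x ∈ gammaFiltration P n) :
    dOp P n x - (n.factorial : K) * x ∈ gammaFiltration P (n + 1) := by
  rw [← sum_neg_one_pow_choose_pow (R := K) n, dOp_apply, sum_mul, ← sum_sub_distrib]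
  refine sum_mem fun i _ => ?_
  rw [mul_assoc _ ((i : K) ^ n), ← mul_sub]
  have h := mul_mem_gammaFiltration
    (mem_gammaFiltration_zero (P := P) ((-1 : K) ^ (n - i) * (n.choose i : K))) (adams_congr_pow hK hx i)
  rwa [Nat.zero_add] at h

theorem grK_dOp_eq_zero (hK : HasSplitting K P) {n j : ℕ} {x : K} (hx : x ∈ gammaFiltration P n) (hj : j < n) :
    KGr.grK P (j : ℤ) (dOp P j x) = 0 := by
  refine grK_eq_zero_of_succ (gammaFiltration_antitone (show j + 1 ≤ n by omega) ?_)
  rw [dOp_apply]
  refine sum_mem fun i _ => ?_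
  have h1 : adams P i x ∈ gammaFiltration P n := by
    have h2 := mul_mem_gammaFiltration (mem_gammaFiltration_zero (P := P) ((i : K) ^ n)) hx
    rw [Nat.zero_add] at h2
    rw [show adams P i x = (adams P i x - (i : K) ^ n * x) + (i : K) ^ n * x by ring]
    exact add_mem (gammaFiltration_antitone (Nat.le_succ n) (adams_congr_pow hK hx i)) h2
  have h := mul_mem_gammaFiltration
    (mem_gammaFiltration_zero (P := P) ((-1 : K) ^ (j - i) * (j.choose i : K))) h1
  rwa [Nat.zero_add] at h

theorem inv_factorial_smul_grK_dOp (hK : HasSplitting K P) {n : ℕ} {x : K} (hx : x ∈ gammaFiltration P n) :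
    ((n.factorial : ℚ)⁻¹) • KGr.grK P (n : ℤ) (dOp P n x) = KGr.grK P (n : ℤ) x := by
  rw [grK_congr (natCast_mul_mem_gammaFiltration _ hx) (dOp_congr hK hx), grK_natCast_mul _ hx,
    ← nsmul_eq_mul, ← Nat.cast_smul_eq_nsmul ℚ, smul_smul,
    inv_mul_cancel₀ (Nat.cast_ne_zero.2 n.factorial_ne_zero), one_smul]

variable (P) in
/-- The Chern character as an additive map. -/
noncomputable def chHom (hK : HasSplitting K P) (d : ℕ) : K →+ KGr.Gr P :=
  AddMonoidHom.mk' (KGr.chK P d) (chK_add hK d)

theorem exists_bijective_ch (hK : HasSplitting K P) {d : ℕ} (hd : gammaFiltration P (d + 1) = ⊥) :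
    ∃ Φ : ℚ ⊗[ℤ] K →ₗ[ℚ] KGr.Gr P,
      (∀ x : K, Φ ((1 : ℚ) ⊗ₜ[ℤ] x) = KGr.chK P d x) ∧ Function.Bijective Φ := by
  let Φ := (chHom P hK d).toIntLinearMap.liftBaseChange ℚ
  have hΦ : ∀ x : K, Φ ((1 : ℚ) ⊗ₜ[ℤ] x) = KGr.chK P d x := fun x => by
    rw [LinearMap.liftBaseChange_tmul, one_smul]; rfl
  have hsurj : Function.Surjective Φ := by
    rw [← LinearMap.range_eq_top, eq_top_iff, ← span_grK_eq_top, Submodule.span_le]
    rintro _ ⟨n, x, hx, rfl⟩
    suffices ∀ k n : ℕ, d + 1 ≤ n + k → ∀ x ∈ gammaFiltration P n, KGr.grK P (n : ℤ) x ∈ LinearMap.range Φ from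
      this (d + 1) n (by omega) x hx
    intro k
    induction k with
    | zero =>
      intro n hn x hx
      have : x = 0 := by
        have h := gammaFiltration_antitone (P := P) (show d + 1 ≤ n by omega) hx
        rwa [hd, AddSubgroup.mem_bot] at h
      rw [this, grK_zero_right]
      exact zero_mem _
    | succ k ih =>
      intro n hn x hx
      rcases Nat.lt_or_ge d n with hdn | hdn
      · exact ih n (by omega) x hx
      · have h : Φ ((1 : ℚ) ⊗ₜ[ℤ] x) ∈ LinearMap.range Φ := ⟨_, rfl⟩
        rw [hΦ, chK_eq hK, ← sum_range_add_sum_Ico _ (show n + 1 ≤ d + 1 by omega), sum_range_succ,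
          sum_eq_zero (fun j hj => by rw [grK_dOp_eq_zero hK hx (mem_range.1 hj), smul_zero]), zero_add,
          inv_factorial_smul_grK_dOp hK hx] at h
        have h' : ∑ j ∈ Ico (n + 1) (d + 1), ((j.factorial : ℚ)⁻¹) • KGr.grK P (j : ℤ) (dOp P j x) ∈
            LinearMap.range Φ := sum_mem fun j hj =>
          Submodule.smul_mem _ _ (ih j (by have := mem_Ico.1 hj; omega) _ (dOp_mem hK j x))
        simpa using sub_mem h h'
  refine ⟨Φ, hΦ, ?_, hsurj⟩
  rw [injective_iff_map_eq_zero]
  intro z hz
  suffices ∀ n, n ≤ d + 1 → z ∈ ratFil P n by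
    have h := this (d + 1) le_rfl
    rwa [ratFil_eq_bot hd, Submodule.mem_bot] at h
  intro n
  induction n with
  | zero => intro _; rw [ratFil_zero]; trivial
  | succ n ih =>
    intro hn
    let F := (gammaFiltration P (n + 1)).toIntSubmodule
    let q : K →ₗ[ℤ] K ⧸ gammaFiltration P (n + 1) :=
      (QuotientAddGroup.mk' (gammaFiltration P (n + 1))).toIntLinearMap
    let π : KGr.Gr P →ₗ[ℚ] ℚ ⊗[ℤ] (K ⧸ gammaFiltration P (n + 1)) :=
      (grProjAux P n).toIntLinearMap.baseChange ℚ
    have hπ : ∀ (j : ℕ) (y : K), y ∈ gammaFiltration P j →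
        π (KGr.grK P (j : ℤ) y) = if j = n then (1 : ℚ) ⊗ₜ[ℤ] q y else 0 := by
      intro j y hy
      rw [grK_eq hy]
      show π ((1 : ℚ) ⊗ₜ[ℤ] _) = _
      rw [LinearMap.baseChange_tmul]
      rw [AddMonoidHom.coe_toIntLinearMap, grProjAux_mk hy]
      split_ifs
      · rfl
      · rw [tmul_zero]
    have key : ∀ w ∈ ratFil P n, π (Φ w) = q.baseChange ℚ w := by
      intro w hw
      induction hw using Submodule.span_induction with
      | mem w hw =>
        obtain ⟨x, hx, rfl⟩ := hw
        rw [hΦ, chK_eq hK, map_sum, sum_eq_single n]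
        · rw [map_smul, hπ n _ (dOp_mem hK n x), if_pos rfl, LinearMap.baseChange_tmul]
          have e : q (dOp P n x) = (n.factorial : ℤ) • q x := by
            have h := (QuotientAddGroup.eq_zero_iff _).2 (dOp_congr hK hx)
            rw [QuotientAddGroup.mk_sub, sub_eq_zero] at h
            show ((dOp P n x : K) : K ⧸ gammaFiltration P (n + 1)) = _
            rw [h, ← nsmul_eq_mul, ← natCast_zsmul]
            rfl
          rw [e, tmul_smul, ← Int.cast_smul_eq_zsmul ℚ, smul_smul]
          simp [Nat.factorial_ne_zero]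
        · intro j _ hj
          rw [map_smul, hπ j _ (dOp_mem hK j x), if_neg hj, smul_zero]
        · intro h; exact absurd (mem_range.2 (by omega)) h
      | zero => simp
      | add a b _ _ ha hb => rw [map_add, map_add, ha, hb, map_add]
      | smul r a _ ha => rw [map_smul, map_smul, ha, map_smul]
    have h0 : q.baseChange ℚ z = 0 := by rw [← key z (ih (by omega)), hz, map_zero]
    have hex : Function.Exact F.subtype q := fun y => by
      refine (QuotientAddGroup.eq_zero_iff y).trans ⟨fun h => ⟨⟨y, h⟩, rfl⟩, ?_⟩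
      rintro ⟨⟨w, hw⟩, rfl⟩
      exact hw
    rw [LinearMap.baseChange_eq_ltensor] at h0
    obtain ⟨w, rfl⟩ := (lTensor_exact ℚ hex QuotientAddGroup.mk_surjective z).1 h0
    clear h0 hz ih key
    induction w using TensorProduct.induction_on with
    | zero => simp
    | add a b ha hb => rw [map_add]; exact add_mem ha hb
    | tmul r y =>
      rw [LinearMap.lTensor_tmul,
        show r ⊗ₜ[ℤ] F.subtype y = r • ((1 : ℚ) ⊗ₜ[ℤ] (y : K)) by rw [smul_tmul', smul_eq_mul, mul_one]; rfl]
      exact Submodule.smul_mem _ _ (Submodule.subset_span ⟨y, y.2, rfl⟩)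

/-! ### Multiplicativity -/

theorem dOp_mul (hK : HasSplitting K P) (n : ℕ) (x y : K) :
    dOp P n (x * y) = ∑ a ∈ range (n + 1), (n.choose a : K) * dOp P a x *
      ∑ i ∈ range (a + 1), (a.choose i : K) * dOp P (n - a + i) y := by
  obtain ⟨L, f, hf, h⟩ := exists_split hK [x, y]
  refine hf.injective ?_
  simp only [map_sum, map_mul, map_natCast, map_dOp hf]
  suffices ∀ a ∈ lineGroup L.posStr, ∀ b ∈ lineGroup L.posStr,
      dOp L.posStr n (a * b) = ∑ k ∈ range (n + 1), (n.choose k : L.carrier) * dOp L.posStr k a *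
        ∑ i ∈ range (k + 1), (k.choose i : L.carrier) * dOp L.posStr (n - k + i) b from
    this _ (h x (by simp)) _ (h y (by simp))
  intro a ha b hb
  induction ha using AddSubgroup.closure_induction with
  | mem v hv =>
    induction hb using AddSubgroup.closure_induction with
    | mem w hw =>
      rw [dOp_line (IsLine.mul hv hw), show v * w - 1 = (v - 1) * ((w - 1) + 1) + (w - 1) by ring, add_pow]
      refine sum_congr rfl fun k hk => ?_
      rw [mul_pow, add_pow, dOp_line hv]
      simp only [dOp_line hw, mul_sum, sum_mul, one_pow, mul_one, pow_add]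
      exact sum_congr rfl fun i _ => by ring
    | zero => simp
    | add _ _ _ _ h1 h2 => simp only [mul_add, map_add, sum_add_distrib, h1, h2]
    | neg _ _ h1 => simp only [mul_neg, map_neg, sum_neg_distrib, h1]
  | zero => simp
  | add _ _ _ _ h1 h2 => simp only [add_mul, mul_add, map_add, sum_add_distrib, h1, h2]
  | neg _ _ h1 => simp only [neg_mul, mul_neg, map_neg, sum_neg_distrib, h1]

theorem grK_dOp_mul (hK : HasSplitting K P) (n : ℕ) (x y : K) :
    KGr.grK P (n : ℤ) (dOp P n (x * y)) = ∑ a ∈ range (n + 1), (n.choose a : KGr.Gr P) *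
      (KGr.grK P (a : ℤ) (dOp P a x) * KGr.grK P ((n - a : ℕ) : ℤ) (dOp P (n - a) y)) := by
  have hterm : ∀ a ∈ range (n + 1), dOp P a x * dOp P (n - a) y ∈ gammaFiltration P n := fun a ha => by
    have h := mul_mem_gammaFiltration (dOp_mem hK a x) (dOp_mem hK (n - a) y)
    rwa [show a + (n - a) = n by have := mem_range.1 ha; omega] at h
  rw [grK_congr (y := ∑ a ∈ range (n + 1), (n.choose a : K) * (dOp P a x * dOp P (n - a) y))
    (sum_mem fun a ha => natCast_mul_mem_gammaFiltration _ (hterm a ha)) ?_,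
    grK_sum _ _ fun a ha => natCast_mul_mem_gammaFiltration _ (hterm a ha)]
  · refine sum_congr rfl fun a ha => ?_
    rw [grK_natCast_mul _ (hterm a ha), grK_mul (dOp_mem hK a x) (dOp_mem hK (n - a) y),
      show a + (n - a) = n by have := mem_range.1 ha; omega]
  · rw [dOp_mul hK, ← sum_sub_distrib]
    refine sum_mem fun a ha => ?_
    simp only [sum_range_succ', Nat.add_zero, Nat.choose_zero_right, Nat.cast_one, one_mul]
    rw [mul_add, mul_assoc,
      add_sub_assoc, mul_assoc, sub_self, add_zero, ← mul_assoc]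
    refine gammaFiltration_antitone (show n + 1 ≤ 0 + a + (n - a + 1) by have := mem_range.1 ha; omega)
      (mul_mem_gammaFiltration (mul_mem_gammaFiltration (mem_gammaFiltration_zero _) (dOp_mem hK a x))
        (sum_mem fun i _ => natCast_mul_mem_gammaFiltration _
          (gammaFiltration_antitone (show n - a + 1 ≤ n - a + (i + 1) by omega) (dOp_mem hK _ y))))

theorem chK_mul (hK : HasSplitting K P) {d : ℕ} (hd : gammaFiltration P (d + 1) = ⊥) (x y : K) :
    KGr.chK P d (x * y) = KGr.chK P d x * KGr.chK P d y := by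
  have hz : ∀ a b : ℕ, d < a + b →
      KGr.grK P (a : ℤ) (dOp P a x) * KGr.grK P (b : ℤ) (dOp P b y) = 0 := fun a b hab => by
    rw [grK_mul (dOp_mem hK a x) (dOp_mem hK b y)]
    have h := gammaFiltration_antitone (P := P) (show d + 1 ≤ a + b by omega)
      (mul_mem_gammaFiltration (dOp_mem hK a x) (dOp_mem hK b y))
    rw [hd, AddSubgroup.mem_bot] at h
    rw [h, grK_zero_right]
  set A := fun a : ℕ => ((a.factorial : ℚ)⁻¹) • KGr.grK P (a : ℤ) (dOp P a x) with hA
  set B := fun b : ℕ => ((b.factorial : ℚ)⁻¹) • KGr.grK P (b : ℤ) (dOp P b y) with hB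
  rw [chK_eq hK, chK_eq hK, chK_eq hK, sum_mul_sum]
  calc ∑ n ∈ range (d + 1), ((n.factorial : ℚ)⁻¹) • KGr.grK P (n : ℤ) (dOp P n (x * y))
      = ∑ n ∈ range (d + 1), ∑ a ∈ range (n + 1), A a * B (n - a) := by
        refine sum_congr rfl fun n _ => ?_
        rw [grK_dOp_mul hK, smul_sum]
        refine sum_congr rfl fun a ha => ?_
        simp only [hA, hB]
        rw [smul_mul_smul_comm, ← nsmul_eq_mul, ← Nat.cast_smul_eq_nsmul ℚ, smul_smul,
          Nat.cast_choose ℚ (show a ≤ n by have := mem_range.1 ha; omega)]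
        congr 1
        field_simp
    _ = ∑ a ∈ range (d + 1), ∑ b ∈ range (d + 1 - a), A a * B b := sum_range_diag_flip _ fun a b => A a * B b
    _ = ∑ a ∈ range (d + 1), ∑ b ∈ range (d + 1), A a * B b := by
        refine sum_congr rfl fun a _ => sum_subset (range_mono (by omega)) fun b _ hb => ?_
        simp only [hA, hB, smul_mul_smul_comm, hz a b (by simp only [mem_range] at hb; omega), smul_zero]

theorem chK_one (hK : HasSplitting K P) (d : ℕ) : KGr.chK P d (1 : K) = 1 := by
  rw [chK_eq hK, sum_eq_single 0]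
  · rw [dOp_zero_left, map_one, Int.cast_one, grK_zero_one, Nat.factorial_zero, Nat.cast_one, inv_one, one_smul]
  · intro j _ hj
    rw [dOp_one (by omega), grK_zero_right, smul_zero]
  · simp

end GrothLib.Lambda
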