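import Groth.Agent.Lib.Lambda.Rat

/-!
# λ-closed subrings and λ-homomorphisms on generators
-/

namespace GrothLib.Lambda

open LambdaRing MvPolynomial Finset

universe u v

variable {K : Type u} [CommRing K] [LambdaOps K] {L : Type v} [CommRing L] [LambdaOps L]

theorem aeval_mem_subring {σ : Type*} {A : Type*} [CommRing A] [Algebra ℤ A] {R : Subring A}
    {g : σ → A} (hg : ∀ i, g i ∈ R) (P : MvPolynomial σ ℤ) : aeval g P ∈ R := by
  induction P using MvPolynomial.induction_on with
  | C a =>
    rw [aeval_C, eq_intCast (algebraMap ℤ A) a]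
    exact intCast_mem R a
  | add p q hp hq => rw [map_add]; exact add_mem hp hq
  | mul_X p i hp => rw [map_mul, aeval_X]; exact mul_mem hp (hg i)

theorem gamma_mem_subring (R : Subring L) {x : L} (hx : ∀ n, LambdaOps.lam n x ∈ R) (k : ℕ) :
    gamma k x ∈ R := by
  rcases k with _ | r
  · rw [gamma_zero_left]; exact one_mem R
  · rw [gamma_eq, gammaOf_succ]
    exact sum_mem fun i _ => mul_mem (natCast_mem R _) (hx _)

/-- the elements all of whose `λ^n` lie in `R` -/
def lamClosed (hL : IsSpecial L) (R : Subring L) : Subring L where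
  carrier := {x | ∀ n, LambdaOps.lam n x ∈ R}
  zero_mem' n := by
    rw [lam_zero_right]
    split
    · exact one_mem R
    · exact zero_mem R
  one_mem' n := by
    rcases n with _ | _ | n
    · rw [LambdaOps.lam_zero]; exact one_mem R
    · rw [LambdaOps.lam_one]; exact one_mem R
    · rw [hL.lam_one_eq_zero _ (Nat.le_add_left 2 n)]; exact zero_mem R
  add_mem' {x y} hx hy n := by
    rw [LambdaOps.lam_add]
    exact sum_mem fun i _ => mul_mem (hx i) (hy _)
  neg_mem' {x} hx n := by
    induction n using Nat.strong_induction_on with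
    | _ n ih =>
      rcases n with _ | n
      · rw [LambdaOps.lam_zero]; exact one_mem R
      · rw [lam_neg_succ]
        exact neg_mem (sum_mem fun i hi => mul_mem (ih i (mem_range.1 hi)) (hx _))
  mul_mem' {x y} hx hy n := by
    obtain ⟨P, hP⟩ := exists_isMulPoly n
    rw [hL.lam_mul n P hP]
    exact aeval_mem_subring (fun i => by rcases i with i | i <;> simp [hx _, hy _]) P

/-- if a subring is generated by elements whose `λ^n` it contains, it is λ-closed -/
theorem lam_mem_of_closure (hL : IsSpecial L) (R : Subring L) (s : Set L)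
    (hs : ∀ t ∈ s, ∀ n, LambdaOps.lam n t ∈ R) {x : L} (hx : x ∈ Subring.closure s) (n : ℕ) :
    LambdaOps.lam n x ∈ R :=
  Subring.closure_le (t := lamClosed hL R).2 hs hx n

/-- the elements on which `f` commutes with all `λ^n` -/
def commutesSubring (f : K →+* L) (hK : IsSpecial K) (hL : IsSpecial L) : Subring K where
  carrier := {x | ∀ n, f (LambdaOps.lam n x) = LambdaOps.lam n (f x)}
  zero_mem' n := by rw [map_zero, lam_zero_right, lam_zero_right]; split <;> simp
  one_mem' n := by
    rcases n with _ | _ | n
    · simp [LambdaOps.lam_zero]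
    · simp [LambdaOps.lam_one]
    · rw [map_one, hK.lam_one_eq_zero _ (Nat.le_add_left 2 n),
        hL.lam_one_eq_zero _ (Nat.le_add_left 2 n), map_zero]
  add_mem' {x y} hx hy n := by
    rw [map_add, LambdaOps.lam_add, LambdaOps.lam_add, map_sum]
    exact sum_congr rfl fun i _ => by rw [map_mul, hx, hy]
  neg_mem' {x} hx n := by
    induction n using Nat.strong_induction_on with
    | _ n ih =>
      rcases n with _ | n
      · simp [LambdaOps.lam_zero]
      · rw [lam_neg_succ, map_neg f x, lam_neg_succ, map_neg, map_sum, neg_inj]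
        refine sum_congr rfl fun i hi => ?_
        rw [map_mul, hx, ih i (mem_range.1 hi), map_neg f x]
  mul_mem' {x y} hx hy n := by
    obtain ⟨P, hP⟩ := exists_isMulPoly n
    rw [hK.lam_mul n P hP, map_mul, hL.lam_mul n P hP, ringHom_aeval]
    congr 2
    funext i
    rcases i with i | i <;> simp [hx _, hy _]

theorem mem_commutesSubring {f : K →+* L} {hK : IsSpecial K} {hL : IsSpecial L} {x : K} :
    x ∈ commutesSubring f hK hL ↔ ∀ n, f (LambdaOps.lam n x) = LambdaOps.lam n (f x) :=
  Iff.rfl

theorem commutesSubring_lam (f : K →+* L) (hK : IsSpecial K) (hL : IsSpecial L) {x : K}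
    (hx : x ∈ commutesSubring f hK hL) (j : ℕ) :
    LambdaOps.lam j x ∈ commutesSubring f hK hL := fun n => by
  obtain ⟨Q, hQ⟩ := exists_isCompPoly j n
  rw [hK.lam_lam j n Q hQ, hx j, hL.lam_lam j n Q hQ, ringHom_aeval]
  exact congr_arg (fun g => aeval g Q) (funext fun k => hx _)

theorem lamClosed_lam (hL : IsSpecial L) (R : Subring L) {x : L} (hx : x ∈ lamClosed hL R) (j : ℕ) :
    LambdaOps.lam j x ∈ lamClosed hL R := fun n => by
  obtain ⟨Q, hQ⟩ := exists_isCompPoly j n
  rw [hL.lam_lam j n Q hQ]
  exact aeval_mem_subring (fun k => hx _) Q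

theorem commutes_of_eq_top (f : K →+* L) (hK : IsSpecial K) (hL : IsSpecial L)
    (h : commutesSubring f hK hL = ⊤) : Commutes f := fun n x =>
  mem_commutesSubring.1 (h ▸ Subring.mem_top x) n

theorem commutes_intCast_map (hZ : IsSpecial K) (hL : IsSpecial L) (f : K →+* L)
    (hsurj : Function.Surjective (Int.cast : ℤ → K)) : Commutes f :=
  commutes_of_eq_top f hZ hL (eq_top_iff.2 fun x _ => by
    obtain ⟨a, rfl⟩ := hsurj x
    exact intCast_mem _ a)

theorem Commutes.comp {M : Type*} [CommRing M] [LambdaOps M] {g : L →+* M} {f : K →+* L}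
    (hg : Commutes g) (hf : Commutes f) : Commutes (g.comp f) := fun n x => by
  rw [RingHom.comp_apply, RingHom.comp_apply, hf, hg]

/-! ### λ-structure on a λ-closed image -/

section Pullback

variable {U : Type u} [CommRing U] (f : U →+* L) (hinj : Function.Injective f)
  (hcl : ∀ (n : ℕ) (x : U), LambdaOps.lam n (f x) ∈ f.range)

/-- the λ-structure induced on a ring embedded with λ-closed image -/
@[reducible] noncomputable def pullbackOps : LambdaOps U where
  lam n x := Classical.choose (RingHom.mem_range.1 (hcl n x))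
  lam_zero x := hinj (by
    rw [Classical.choose_spec (RingHom.mem_range.1 (hcl 0 x)), LambdaOps.lam_zero, map_one])
  lam_one x := hinj (by
    rw [Classical.choose_spec (RingHom.mem_range.1 (hcl 1 x)), LambdaOps.lam_one])
  lam_add k x y := hinj (by
    rw [Classical.choose_spec (RingHom.mem_range.1 (hcl k (x + y))), map_add, LambdaOps.lam_add,
      map_sum]
    exact sum_congr rfl fun i _ => by
      rw [map_mul, Classical.choose_spec (RingHom.mem_range.1 (hcl i x)),
        Classical.choose_spec (RingHom.mem_range.1 (hcl (k - i) y))])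

theorem commutes_pullbackOps : @Commutes U _ (pullbackOps f hinj hcl) L _ _ f := fun n x =>
  Classical.choose_spec (RingHom.mem_range.1 (hcl n x))

theorem isSpecial_pullbackOps (hL : IsSpecial L) : @IsSpecial U _ (pullbackOps f hinj hcl) :=
  @isSpecial_of_injective U _ L _ (pullbackOps f hinj hcl) _ f (commutes_pullbackOps f hinj hcl)
    hinj hL

end Pullback

end GrothLib.Lambda
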