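import Groth.Agent.Lib.Lambda.Split
import Mathlib.LinearAlgebra.Eigenspace.Basic
import Mathlib.LinearAlgebra.TensorProduct.Tower

/-!
# Eigenspaces of `ψ^j` on `ℚ ⊗ K`
-/

namespace GrothLib.Lambda

open LambdaRing Module
open scoped TensorProduct

universe u v

section Linear

variable {k : Type u} [Field k] {V : Type v} [AddCommGroup V] [Module k V] {T : V →ₗ[k] V}
  {c : ℕ → k} {F : ℕ → Submodule k V} {d : ℕ}

/-- outside the eigenvalues `c m`, `m ≥ n`, the map `T - μ` is bijective on `F n` -/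
theorem resolvent (hanti : Antitone F) (hd : F (d + 1) = ⊥)
    (hT : ∀ n, ∀ x ∈ F n, T x - c n • x ∈ F (n + 1)) :
    ∀ n μ, (∀ m, n ≤ m → c m ≠ μ) →
      (∀ u ∈ F n, T u = μ • u → u = 0) ∧ (∀ v ∈ F n, ∃ u ∈ F n, T u - μ • u = v) := by
  suffices ∀ e n, d + 1 ≤ n + e → ∀ μ, (∀ m, n ≤ m → c m ≠ μ) →
      (∀ u ∈ F n, T u = μ • u → u = 0) ∧ (∀ v ∈ F n, ∃ u ∈ F n, T u - μ • u = v) from
    fun n => this (d + 1) n (by omega)
  intro e
  induction e with
  | zero =>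
    intro n hn μ _
    have h0 : ∀ x ∈ F n, x = 0 := fun x hx => by
      have := hanti (show d + 1 ≤ n by omega) hx
      rwa [hd, Submodule.mem_bot] at this
    exact ⟨fun u hu _ => h0 u hu, fun v hv => ⟨0, zero_mem _, by simp [h0 v hv]⟩⟩
  | succ e ih =>
    intro n hn μ hμ
    obtain ⟨ihinj, ihsurj⟩ := ih (n + 1) (by omega) μ fun m hm => hμ m (by omega)
    have hne : c n - μ ≠ 0 := sub_ne_zero.2 (hμ n le_rfl)
    refine ⟨fun u hu hTu => ?_, fun v hv => ?_⟩
    · have h := Submodule.smul_mem (F (n + 1)) (c n - μ)⁻¹ (neg_mem (hT n u hu))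
      rw [hTu, ← sub_smul, ← neg_smul, neg_sub, smul_smul, inv_mul_cancel₀ hne, one_smul] at h
      exact ihinj u h hTu
    · have hu0 : (c n - μ)⁻¹ • v ∈ F n := Submodule.smul_mem _ _ hv
      obtain ⟨u, hu, hTu⟩ := ihsurj _ (neg_mem (hT n _ hu0))
      refine ⟨(c n - μ)⁻¹ • v + u, add_mem hu0 (hanti (Nat.le_succ n) hu), ?_⟩
      have hv' : (c n - μ) • (c n - μ)⁻¹ • v = v := by
        rw [smul_smul, mul_inv_cancel₀ hne, one_smul]
      rw [map_add, smul_add]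
      linear_combination (norm := module) hTu + hv'

theorem eigenspace_le (hanti : Antitone F) (h0 : F 0 = ⊤) (hc : Function.Injective c)
    (hT : ∀ n, ∀ x ∈ F n, T x - c n • x ∈ F (n + 1)) (m : ℕ) :
    Module.End.eigenspace T (c m) ≤ F m := by
  intro u hu
  rw [Module.End.mem_eigenspace_iff] at hu
  suffices ∀ k ≤ m, u ∈ F k from this m le_rfl
  intro k
  induction k with
  | zero => intro _; rw [h0]; trivial
  | succ k ih =>
    intro hk
    have h := hT k u (ih (by omega))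
    rw [hu, ← sub_smul] at h
    have hne : c m - c k ≠ 0 := sub_ne_zero.2 fun e => by have := hc e; omega
    have h2 := Submodule.smul_mem (F (k + 1)) (c m - c k)⁻¹ h
    rwa [smul_smul, inv_mul_cancel₀ hne, one_smul] at h2

theorem eigenspace_sup (hanti : Antitone F) (hd : F (d + 1) = ⊥) (h0 : F 0 = ⊤)
    (hc : Function.Injective c) (hT : ∀ n, ∀ x ∈ F n, T x - c n • x ∈ F (n + 1)) (m : ℕ) :
    Module.End.eigenspace T (c m) ⊔ F (m + 1) = F m ∧
      Module.End.eigenspace T (c m) ⊓ F (m + 1) = ⊥ := by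
  have hμ : ∀ l, m + 1 ≤ l → c l ≠ c m := fun l hl e => by have := hc e; omega
  obtain ⟨hinj, hsurj⟩ := resolvent hanti hd hT (m + 1) (c m) hμ
  refine ⟨le_antisymm (sup_le (eigenspace_le hanti h0 hc hT m) (hanti (Nat.le_succ m))) ?_, ?_⟩
  · intro v hv
    obtain ⟨u, hu, hTu⟩ := hsurj _ (hT m v hv)
    refine Submodule.mem_sup.2 ⟨v - u, ?_, u, hu, sub_add_cancel v u⟩
    rw [Module.End.mem_eigenspace_iff, map_sub, smul_sub]
    linear_combination (norm := module) -hTu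
  · rw [eq_bot_iff]
    rintro u ⟨hu, hu'⟩
    exact (Submodule.mem_bot k).2 (hinj u hu' (Module.End.mem_eigenspace_iff.1 hu))

theorem iSup_eigenspace_eq_top (hanti : Antitone F) (hd : F (d + 1) = ⊥) (h0 : F 0 = ⊤)
    (hc : Function.Injective c) (hT : ∀ n, ∀ x ∈ F n, T x - c n • x ∈ F (n + 1)) :
    (⨆ m ∈ Finset.range (d + 1), Module.End.eigenspace T (c m)) = ⊤ := by
  rw [eq_top_iff, ← h0]
  suffices ∀ e m, d + 1 ≤ m + e →
      F m ≤ ⨆ m ∈ Finset.range (d + 1), Module.End.eigenspace T (c m) from this (d + 1) 0 (by omega)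
  intro e
  induction e with
  | zero =>
    intro m hm
    exact (hanti (show d + 1 ≤ m by omega)).trans (hd.le.trans bot_le)
  | succ e ih =>
    intro m hm
    by_cases hmd : d + 1 ≤ m
    · exact (hanti hmd).trans (hd.le.trans bot_le)
    rw [← (eigenspace_sup hanti hd h0 hc hT m).1]
    exact sup_le (le_iSup₂ (f := fun m _ => Module.End.eigenspace T (c m)) m
      (Finset.mem_range.2 (by omega))) (ih (m + 1) (by omega))

theorem eigenspace_le_of_commute {T' : V →ₗ[k] V} {c' : ℕ → k} (hanti : Antitone F)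
    (hd : F (d + 1) = ⊥) (h0 : F 0 = ⊤) (hc : Function.Injective c)
    (hT : ∀ n, ∀ x ∈ F n, T x - c n • x ∈ F (n + 1))
    (hT' : ∀ n, ∀ x ∈ F n, T' x - c' n • x ∈ F (n + 1)) (hcomm : ∀ x, T (T' x) = T' (T x)) (m : ℕ) :
    Module.End.eigenspace T (c m) ≤ Module.End.eigenspace T' (c' m) := by
  intro u hu
  have hw : T' u - c' m • u ∈ F (m + 1) := hT' m u (eigenspace_le hanti h0 hc hT m hu)
  rw [Module.End.mem_eigenspace_iff] at hu ⊢
  refine sub_eq_zero.1 ((resolvent hanti hd hT (m + 1) (c m)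
    (fun l hl e => by have := hc e; omega)).1 _ hw ?_)
  rw [map_sub, hcomm, map_smul, hu, map_smul, smul_sub, smul_comm]

end Linear

section Rational

variable {K : Type u} [CommRing K] [LambdaOps K] (P : PosStructure K)

/-- the image of the γ-filtration in `ℚ ⊗ K` -/
noncomputable def ratFil (n : ℕ) : Submodule ℚ (ℚ ⊗[ℤ] K) :=
  Submodule.span ℚ ((fun x : K => (1 : ℚ) ⊗ₜ[ℤ] x) '' (gammaFiltration P n : Set K))

variable {P}

theorem gammaFiltration_antitone : Antitone (gammaFiltration P) := fun a b h x hx =>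
  (mem_gammaFiltration_iff P a x).2 (gammaFil_antitone h ((mem_gammaFiltration_iff P b x).1 hx))

theorem ratFil_antitone : Antitone (ratFil P) := fun _ _ h =>
  Submodule.span_mono (Set.image_mono fun _ hx => gammaFiltration_antitone h hx)

theorem ratFil_eq_bot {d : ℕ} (hd : gammaFiltration P d = ⊥) : ratFil P d = ⊥ := by
  rw [ratFil, hd, Submodule.span_eq_bot]
  rintro _ ⟨x, hx, rfl⟩
  rw [AddSubgroup.mem_bot.1 hx]
  exact TensorProduct.tmul_zero K _

theorem ratFil_zero : ratFil P 0 = ⊤ := by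
  refine eq_top_iff.2 fun z h => ?_
  clear h
  induction z with
  | zero => exact zero_mem _
  | tmul q x =>
    rw [show q ⊗ₜ[ℤ] x = q • ((1 : ℚ) ⊗ₜ[ℤ] x) by rw [TensorProduct.smul_tmul', smul_eq_mul, mul_one]]
    exact Submodule.smul_mem _ _ (Submodule.subset_span ⟨x, by simp [gammaFiltration], rfl⟩)
  | add a b ha hb => exact add_mem ha hb

variable {j : ℕ} {Ψ : ℚ ⊗[ℤ] K →ₗ[ℚ] ℚ ⊗[ℤ] K}

theorem ratFil_shift (hK : HasSplitting K P) (hj : 1 ≤ j)
    (hΨ : ∀ x : K, Ψ (1 ⊗ₜ[ℤ] x) = 1 ⊗ₜ[ℤ] adams P j x) (n : ℕ) :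
    ∀ z ∈ ratFil P n, Ψ z - ((j : ℚ) ^ n) • z ∈ ratFil P (n + 1) := by
  intro z hz
  induction hz using Submodule.span_induction with
  | mem z hz =>
    obtain ⟨x, hx, rfl⟩ := hz
    refine Submodule.subset_span ⟨_, adams_congr hK hj hx, ?_⟩
    simp only [hΨ, TensorProduct.tmul_sub]
    congr 1
    rw [show ((j : K) ^ n * x) = ((j : ℤ) ^ n) • x by
      rw [zsmul_eq_mul]; push_cast; rfl, TensorProduct.tmul_smul, ← Int.cast_smul_eq_zsmul ℚ]
    push_cast
    rfl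
  | zero => simp
  | add a b _ _ ha hb =>
    rw [map_add, smul_add, add_sub_add_comm]
    exact add_mem ha hb
  | smul q a _ ha =>
    rw [map_smul, smul_comm, ← smul_sub]
    exact Submodule.smul_mem _ _ ha

theorem pow_cast_injective (hj : 2 ≤ j) : Function.Injective fun m : ℕ => (j : ℚ) ^ m :=
  fun _ _ h => Nat.pow_right_injective hj (by
    have h' : (j : ℚ) ^ _ = (j : ℚ) ^ _ := h
    exact_mod_cast h')

theorem rat_commute (hK : HasSplitting K P) {l : ℕ} {Ψ' : ℚ ⊗[ℤ] K →ₗ[ℚ] ℚ ⊗[ℤ] K}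
    (hΨ : ∀ x : K, Ψ (1 ⊗ₜ[ℤ] x) = 1 ⊗ₜ[ℤ] adams P j x)
    (hΨ' : ∀ x : K, Ψ' (1 ⊗ₜ[ℤ] x) = 1 ⊗ₜ[ℤ] adams P l x) (z : ℚ ⊗[ℤ] K) :
    Ψ (Ψ' z) = Ψ' (Ψ z) := by
  induction z with
  | zero => simp
  | tmul q x =>
    rw [show q ⊗ₜ[ℤ] x = q • ((1 : ℚ) ⊗ₜ[ℤ] x) by rw [TensorProduct.smul_tmul', smul_eq_mul, mul_one],
      map_smul, map_smul, map_smul, map_smul, hΨ, hΨ', hΨ, hΨ', adams_adams hK, adams_adams hK,
      mul_comm j l]
  | add a b ha hb => simp only [map_add, ha, hb]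

end Rational

end GrothLib.Lambda
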