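import Groth.Agent.Lib.Lambda.Filt

/-!
# Images of the weight filtration and division by `γ^d (N - d)`
-/

namespace GrothLib.Lambda

open MvPolynomial LambdaRing

universe u v w

variable {K : Type u} [CommRing K] [LambdaOps K] [BinomialRing K] {ι : Type v} {A : Type w}
  [CommRing A] [LambdaOps A] [Algebra K A]

/-- a multiplicative family of ideals containing the images of the generators contains the image
of the weight filtration -/
theorem liftG_mem_of_family (x : ι → A) (I : ℕ → Ideal A) (h0 : (1 : A) ∈ I 0)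
    (hanti : ∀ a b, a ≤ b → I b ≤ I a)
    (hmul : ∀ a b (y z : A), y ∈ I a → z ∈ I b → y * z ∈ I (a + b))
    (hgen : ∀ (i : ι) (r : ℕ), gamma (r + 1) (x i) ∈ I (r + 1)) {n : ℕ}
    {p : MvPolynomial (GVar ι) K} (hp : p ∈ gIdeal n) : liftG x p ∈ I n := by
  refine (wtIdeal_le_of_monomial (I := (I n).comap (liftG (K := K) x)) fun d hd => ?_) hp
  rw [Ideal.mem_comap]
  refine hanti _ _ hd ?_
  clear hd
  induction d using Finsupp.induction with
  | zero => simpa using h0
  | single_add v e d _ he ih =>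
    clear he
    rw [monomial_single_add, map_mul, map_pow, liftG_X, map_add, Finsupp.weight_single, smul_eq_mul]
    refine hmul _ _ _ _ ?_ ih
    clear ih
    induction e with
    | zero => simpa using h0
    | succ e ih =>
      rw [pow_succ, Nat.succ_mul]
      exact hmul _ _ _ _ ih (hgen v.idx v.deg)

/-- if the generators exhaust the kernel of the augmentation, the universal map is surjective -/
theorem surjective_liftG_of_ker (ε : A →ₐ[K] K) (x : ι → A)
    (h : ∀ a, ε a = 0 → ∃ i, x i = a) : Function.Surjective (liftG (K := K) x) := fun a => by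
  obtain ⟨i, hi⟩ := h (a - algebraMap K A (ε a)) (by simp)
  refine ⟨C (ε a) + X ⟨i, 0⟩, ?_⟩
  rw [map_add, liftG_gen, hi, ← MvPolynomial.algebraMap_eq, AlgHom.commutes]
  abel

theorem piG_X_eq_zero (N : ι → ℕ) (v : GVar ι) (h : N v.idx ≤ v.deg) :
    piG (K := K) N (X v) = 0 := by
  rw [piG_X, esymm_eq_multiset_esymm, esymm_eq_zero, map_zero]
  simpa using Nat.lt_succ_of_le h

/-- division by the top γ of an element of rank `n + 1` -/
theorem exists_eq_gamma_mul {n q : ℕ} (pt : ι) (x : ι → A)
    (hx : ∀ k, n + 1 < k → gamma k (x pt) = 0) {D : MvPolynomial (GVar ι) K} (hD : D ∈ gIdeal q)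
    (h : ∀ N : ι → ℕ, N pt = n → piG N D = 0) :
    ∃ Y ∈ gIdeal (K := K) (ι := ι) (q - (n + 1)),
      liftG x D = gamma (n + 1) (x pt) * liftG x Y := by
  obtain ⟨a, ha, b, hb, rfl⟩ := Submodule.mem_sup.1 (mem_of_piG_eq_zero pt hD h)
  obtain ⟨Y, hY, rfl⟩ := Ideal.mem_span_singleton_mul.1 ha
  have hb0 : liftG x b = 0 := by
    refine (Ideal.span_le (I := RingHom.ker (liftG (K := K) x))).2 ?_ hb
    rintro _ ⟨v, ⟨hv, hlt⟩, rfl⟩
    rw [SetLike.mem_coe, RingHom.mem_ker, liftG_X, hv, hx _ (by omega)]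
  refine ⟨Y, hY, ?_⟩
  rw [map_add, map_mul, liftG_X, hb0, add_zero]

end GrothLib.Lambda
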