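import Groth.Agent.Lib.Lambda.LineFilt
import Mathlib.RingTheory.MvPolynomial.Ideal

/-!
# The weight filtration of the free λ-ring and the γ-filtration
-/

namespace GrothLib.Lambda

open MvPolynomial LambdaRing Finset

universe u v w

/-- the weight of `γ^(r+1)` -/
def gWt {ι : Type v} (p : GVar ι) : ℕ := p.deg + 1

theorem isWeightedHomogeneous_rename_esymm_one {R : Type*} [CommRing R] {σ τ : Type*} [Fintype σ]
    (j : σ → τ) (k : ℕ) :
    IsWeightedHomogeneous (fun _ : τ => (1 : ℕ)) (rename j (esymm σ R k)) k := by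
  have h := isWeightedHomogeneous_rename_esymm (R := R) j (fun _ : τ => (1 : ℕ)) 1 (fun _ => rfl) k
  rwa [smul_eq_mul, mul_one] at h

variable {K : Type u} [CommRing K] [LambdaOps K] [BinomialRing K] {ι : Type v}

/-- the weight filtration of the free λ-ring -/
abbrev gIdeal (n : ℕ) : Ideal (MvPolynomial (GVar ι) K) := wtIdeal gWt n

theorem mem_gIdeal_one {p : MvPolynomial (GVar ι) K} : p ∈ gIdeal 1 ↔ constantCoeff p = 0 := by
  have hw : ∀ v : GVar ι, 1 ≤ gWt v := fun v => by simp only [gWt]; omega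
  exact mem_wtIdeal_one (R := K) (w := gWt) hw

/-- the splitting map: `x i` goes to the sum of `N i` line elements minus one -/
noncomputable def piG (N : ι → ℕ) :
    MvPolynomial (GVar ι) K →ₐ[K] MvPolynomial (LVar (Σ i, Fin (N i))) K :=
  liftG fun i => ∑ j : Fin (N i), X ⟨⟨i, j⟩⟩

theorem commutes_piG (hKb : IsBinomial K) (N : ι → ℕ) : Commutes (piG (K := K) N).toRingHom :=
  commutes_liftG hKb (isSpecial_LK K _) (isLambdaAlg_LK K _ hKb) _

theorem piG_X (N : ι → ℕ) (p : GVar ι) :
    piG (K := K) N (X p) =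
      rename (fun j => (⟨⟨p.idx, j⟩⟩ : LVar (Σ i, Fin (N i)))) (esymm (Fin (N p.idx)) K (p.deg + 1)) := by
  have h := gamma_multiset_sum (isSpecial_LK K (Σ i, Fin (N i))).lam_one_eq_zero
    ((Finset.univ : Finset (Fin (N p.idx))).val.map fun j =>
      (1 + X ⟨⟨p.idx, j⟩⟩ : MvPolynomial (LVar (Σ i, Fin (N i))) K))
    (fun u hu j hj => by
      obtain ⟨a, _, rfl⟩ := Multiset.mem_map.1 hu
      exact lam_line_LK K _ _ hj) (p.deg + 1)
  rw [Multiset.map_map] at h
  simp only [Function.comp_def, add_sub_cancel_left] at h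
  rw [piG, liftG_X, esymm_eq_multiset_esymm, esymm_map', Multiset.map_map]
  simp only [Function.comp_def, rename_X]
  exact h

/-- small variables -/
def smallVar (N : ι → ℕ) (x : Σ i, Fin (N i)) : GVar ι := ⟨x.1, x.2⟩

theorem smallVar_injective (N : ι → ℕ) : Function.Injective (smallVar N) := by
  rintro ⟨i, r⟩ ⟨i', r'⟩ h
  simp only [smallVar, GVar.mk.injEq] at h
  obtain ⟨rfl, h⟩ := h
  rw [Fin.ext h]

/-- killing the variables of degree at least `N` -/
noncomputable def trunc (N : ι → ℕ) :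
    MvPolynomial (GVar ι) K →ₐ[K] MvPolynomial (Σ i, Fin (N i)) K :=
  aeval fun p => if h : p.deg < N p.idx then X ⟨p.idx, ⟨p.deg, h⟩⟩ else 0

theorem trunc_rename (N : ι → ℕ) (q : MvPolynomial (Σ i, Fin (N i)) K) :
    trunc N (rename (smallVar N) q) = q := by
  change ((trunc N).comp (rename (smallVar N))) q = AlgHom.id K _ q
  congr 1
  refine algHom_ext fun x => ?_
  simp [trunc, smallVar, x.2.2]

theorem piG_eq (N : ι → ℕ) (p : MvPolynomial (GVar ι) K) :
    piG N p = rename LVar.mk (aeval (esymmSigma K N) (trunc N p)) := by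
  change _ = (((rename LVar.mk).comp (aeval (R := K) (esymmSigma K N))).comp (trunc N)) p
  congr 1
  refine algHom_ext fun x => ?_
  rw [piG_X]
  simp only [AlgHom.comp_apply, trunc, aeval_X]
  split_ifs with h
  · rw [aeval_X, esymmSigma, rename_rename]
    rfl
  · rw [map_zero, map_zero, esymm_eq_multiset_esymm, esymm_eq_zero, map_zero]
    simpa using Nat.lt_succ_of_le (not_lt.1 h)

theorem trunc_eq_zero_of_piG {N : ι → ℕ} {p : MvPolynomial (GVar ι) K} (h : piG N p = 0) :
    trunc N p = 0 := by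
  rw [piG_eq] at h
  exact aeval_esymmSigma_injective N ((rename_injective _ (fun a b e => congr_arg LVar.idx e)
    (h.trans (map_zero _).symm)).trans (map_zero _).symm)

theorem piG_homogeneous (N : ι → ℕ) (p : GVar ι) :
    IsWeightedHomogeneous (fun _ : LVar (Σ i, Fin (N i)) => 1) (piG (K := K) N (X p)) (gWt p) := by
  rw [piG_X]
  exact isWeightedHomogeneous_rename_esymm_one (R := K)
    (fun j => (⟨⟨p.idx, j⟩⟩ : LVar (Σ i, Fin (N i)))) (p.deg + 1)

theorem piG_eq_aeval (N : ι → ℕ) :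
    piG (K := K) N = aeval fun p => piG (K := K) N (X p) :=
  algHom_ext fun p => by simp

theorem piG_mem {n : ℕ} (N : ι → ℕ) {p : MvPolynomial (GVar ι) K} (hp : p ∈ gIdeal n) :
    piG N p ∈ ordIdeal n := by
  rw [piG_eq_aeval]
  exact aeval_mem_wtIdeal (piG_homogeneous N) hp

theorem exists_bound (p : MvPolynomial (GVar ι) K) : ∃ M : ℕ, ∀ v ∈ p.vars, v.deg < M :=
  ⟨p.vars.sup GVar.deg + 1, fun _ hv => Nat.lt_succ_of_le (Finset.le_sup (f := GVar.deg) hv)⟩

/-- membership in the weight filtration is detected by a large splitting map -/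
theorem mem_gIdeal_of_piG (n : ℕ) (p : MvPolynomial (GVar ι) K) :
    ∃ N : ι → ℕ, piG N p ∈ ordIdeal n → p ∈ gIdeal n := by
  obtain ⟨M, hM⟩ := exists_bound p
  refine ⟨fun _ => M, fun h => ?_⟩
  obtain ⟨q, rfl⟩ := exists_rename_eq_of_vars_subset_range p (smallVar fun _ : ι => M)
    (smallVar_injective _) fun v hv => ⟨⟨v.idx, ⟨v.deg, hM v hv⟩⟩, rfl⟩
  rw [piG_eq, trunc_rename, rename_mem_wtIdeal_iff (fun a b e => congr_arg LVar.idx e)] at h
  rw [gIdeal, rename_mem_wtIdeal_iff (smallVar_injective _)]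
  refine mem_wtIdeal_of_aeval (w := gWt ∘ smallVar fun _ : ι => M)
    (f := esymmSigma K fun _ : ι => M) (fun x => ?_) (aeval_esymmSigma_injective _) h
  exact isWeightedHomogeneous_rename_esymm_one (R := K)
    (Sigma.mk (β := fun _ : ι => Fin M) x.1) ((x.2 : ℕ) + 1)

/-- (a) in the free λ-ring -/
theorem gamma_mem_gIdeal (hKb : IsBinomial K) {Y : MvPolynomial (GVar ι) K}
    (hY : Y ∈ gIdeal 1) (r : ℕ) : gamma r Y ∈ gIdeal r := by
  have := BinomialRing.toIsAddTorsionFree (R := K)
  obtain ⟨N, hN⟩ := mem_gIdeal_of_piG r (gamma r Y)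
  refine hN ?_
  have e : piG N (gamma r Y) = gamma r (piG N Y) := (commutes_piG hKb N).gamma r Y
  rw [e]
  refine (map_mem_wtIdeal_iff algebraMap_rationalise_injective).1 ?_
  have e' : MvPolynomial.map (algebraMap K (Rationalise K)) (gamma r (piG N Y)) = gamma r _ :=
    (commutes_embL K _).gamma r (piG N Y)
  rw [e']
  exact gamma_mem_ordIdeal
    ((map_mem_wtIdeal_iff algebraMap_rationalise_injective).2 (piG_mem N hY)) r

/-- (b) in the free λ-ring -/
theorem gamma_congr_gIdeal (hKb : IsBinomial K) {m : ℕ} {Z : MvPolynomial (GVar ι) K}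
    (hZ : Z ∈ gIdeal (m + 1)) :
    gamma (m + 1) Z - (-1) ^ m * (m.factorial : MvPolynomial (GVar ι) K) * Z ∈ gIdeal (m + 2) := by
  have := BinomialRing.toIsAddTorsionFree (R := K)
  obtain ⟨N, hN⟩ := mem_gIdeal_of_piG (m + 2)
    (gamma (m + 1) Z - (-1) ^ m * (m.factorial : MvPolynomial (GVar ι) K) * Z)
  refine hN ?_
  have e : piG N (gamma (m + 1) Z) = gamma (m + 1) (piG N Z) := (commutes_piG hKb N).gamma _ Z
  refine (map_mem_wtIdeal_iff algebraMap_rationalise_injective).1 ?_
  have e' : MvPolynomial.map (algebraMap K (Rationalise K)) (gamma (m + 1) (piG N Z)) = gamma _ _ :=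
    (commutes_embL K _).gamma _ (piG N Z)
  simp only [map_sub, map_mul, map_pow, map_neg, map_one, map_natCast, e, e']
  exact gamma_congr_ordIdeal
    ((map_mem_wtIdeal_iff algebraMap_rationalise_injective).2 (piG_mem N hZ))

/-! ### Extraction of a vanishing factor -/

theorem mem_of_piG_eq_zero {n q : ℕ} (pt : ι) {D : MvPolynomial (GVar ι) K} (hD : D ∈ gIdeal q)
    (h : ∀ N : ι → ℕ, N pt = n → piG N D = 0) :
    D ∈ Ideal.span {X (⟨pt, n⟩ : GVar ι)} * gIdeal (q - (n + 1)) ⊔
      Ideal.span (X '' {v : GVar ι | v.idx = pt ∧ n < v.deg}) := by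
  classical
  obtain ⟨M, hM⟩ := exists_bound D
  let N : ι → ℕ := Function.update (fun _ => M) pt n
  have h0 := trunc_eq_zero_of_piG (h N (by simp [N]))
  let J : Ideal (MvPolynomial (GVar ι) K) := Ideal.span (X '' {v : GVar ι | ¬ v.deg < N v.idx})
  have hmk : (Ideal.Quotient.mkₐ K J).comp ((rename (smallVar N)).comp (trunc N)) =
      Ideal.Quotient.mkₐ K J := algHom_ext fun v => by
    simp only [AlgHom.comp_apply, trunc, aeval_X]
    split_ifs with hv
    · rw [rename_X]; rfl
    · rw [map_zero, map_zero]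
      exact (Ideal.Quotient.eq_zero_iff_mem.2
        (Ideal.subset_span ⟨v, hv, rfl⟩ : (X v : MvPolynomial (GVar ι) K) ∈ J)).symm
  have hDJ : D ∈ J := by
    have := AlgHom.congr_fun hmk D
    rw [AlgHom.comp_apply, AlgHom.comp_apply, h0, map_zero, map_zero] at this
    exact Ideal.Quotient.eq_zero_iff_mem.1 this.symm
  rw [as_sum D]
  refine Ideal.sum_mem _ fun e he => ?_
  obtain ⟨v, hv, hev⟩ := mem_ideal_span_X_image.1 hDJ e he
  have hvD : v ∈ D.vars := (mem_vars_iff_mem_support v).2 ⟨e, he, Finsupp.mem_support_iff.2 hev⟩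
  have hpt : v.idx = pt := by
    by_contra hne
    exact hv (by simp only [N, Function.update_of_ne hne]; exact hM v hvD)
  have hdeg : n ≤ v.deg := by
    simpa [N, hpt] using hv
  have hsplit : monomial e (coeff e D) =
      X v * monomial (e - Finsupp.single v 1) (coeff e D) := by
    rw [X, monomial_mul, one_mul, add_comm, tsub_add_cancel_of_le]
    exact Finsupp.single_le_iff.2 (Nat.one_le_iff_ne_zero.2 hev)
  rw [hsplit]
  rcases hdeg.eq_or_lt with heq | hlt
  · have hv' : v = ⟨pt, n⟩ := by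
      cases v
      simp only at hpt heq
      rw [hpt, heq]
    refine Ideal.mem_sup_left (Ideal.mul_mem_mul (hv' ▸ Ideal.mem_span_singleton_self _) ?_)
    refine monomial_mem_wtIdeal _ ?_
    have hw := hD e (mem_support_iff.1 he)
    have := congr_arg (Finsupp.weight gWt) (tsub_add_cancel_of_le
      (Finsupp.single_le_iff.2 (Nat.one_le_iff_ne_zero.2 hev)) : e - Finsupp.single v 1 + _ = e)
    rw [map_add, Finsupp.weight_single, one_smul] at this
    have hgv : gWt v = n + 1 := by rw [gWt, heq]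
    omega
  · exact Ideal.mem_sup_right (Ideal.mul_mem_right _ _ (Ideal.subset_span ⟨v, ⟨hpt, hlt⟩, rfl⟩))

/-! ### The γ-filtration -/

section GammaFil

variable {A : Type w} [CommRing A] [LambdaOps A] [Algebra K A]

omit [LambdaOps K] [BinomialRing K] [Algebra K A] in
theorem mul_mem_gammaFil {ε : A →+* K} {a b : ℕ} {x y : A} (hx : x ∈ gammaFil ε a)
    (hy : y ∈ gammaFil ε b) : x * y ∈ gammaFil ε (a + b) := by
  have h : gammaFil ε a * gammaFil ε b ≤ gammaFil ε (a + b) := by
    simp only [gammaFil, Ideal.span_mul_span']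
    refine Ideal.span_mono ?_
    rintro _ ⟨u, ⟨l, hl, hle, rfl⟩, v, ⟨l', hl', hle', rfl⟩, rfl⟩
    refine ⟨l ++ l', fun p hp => (List.mem_append.1 hp).elim (hl p) (hl' p), ?_, ?_⟩
    · simp only [List.map_append, List.sum_append]; omega
    · simp [List.map_append, List.prod_append]
  exact h (Ideal.mul_mem_mul hx hy)

omit [LambdaOps K] [BinomialRing K] [Algebra K A] in
theorem gamma_mem_gammaFil {ε : A →+* K} {x : A} (hx : ε x = 0) (r : ℕ) :
    gamma r x ∈ gammaFil ε r :=
  Ideal.subset_span ⟨[(r, x)], by simpa using hx, by simp, by simp⟩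

omit [LambdaOps K] [BinomialRing K] [Algebra K A] in
theorem gammaFil_antitone {ε : A →+* K} {a b : ℕ} (h : a ≤ b) : gammaFil ε b ≤ gammaFil ε a :=
  Ideal.span_mono fun _ ⟨l, hl, hle, he⟩ => ⟨l, hl, h.trans hle, he⟩

omit [LambdaOps K] [BinomialRing K] [Algebra K A] in
theorem gammaFil_zero (ε : A →+* K) : gammaFil ε 0 = ⊤ :=
  Ideal.eq_top_of_isUnit_mem _ (Ideal.subset_span ⟨[], by simp, by simp, by simp⟩) isUnit_one

variable (ε : A →ₐ[K] K) (x : ι → A)

theorem liftG_mem_gammaFil (hx : ∀ i, ε (x i) = 0) {n : ℕ} {p : MvPolynomial (GVar ι) K}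
    (hp : p ∈ gIdeal n) : liftG x p ∈ gammaFil (ε : A →+* K) n := by
  refine (wtIdeal_le_of_monomial
    (I := (gammaFil (ε : A →+* K) n).comap (liftG (K := K) x)) fun d hd => ?_) hp
  rw [Ideal.mem_comap]
  refine gammaFil_antitone hd ?_
  clear hd
  induction d using Finsupp.induction with
  | zero => simp [gammaFil_zero]
  | single_add v e d _ he ih =>
    clear he
    rw [monomial_single_add, map_mul, map_pow, liftG_X, map_add, Finsupp.weight_single, smul_eq_mul]
    refine mul_mem_gammaFil ?_ ih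
    clear ih
    induction e with
    | zero => simp [gammaFil_zero]
    | succ e ih =>
      rw [pow_succ, Nat.succ_mul]
      exact mul_mem_gammaFil ih (gamma_mem_gammaFil (ε := (ε : A →+* K)) (hx v.idx) _)

theorem aug_liftG (hε : IsAugLambdaAlg K A ε) (hx : ∀ i, ε (x i) = 0)
    (p : MvPolynomial (GVar ι) K) : ε (liftG x p) = constantCoeff p := by
  have hεc : Commutes (ε : A →+* K) := hε.map_lam
  induction p using MvPolynomial.induction_on with
  | C c => simp [liftG]
  | add p q hp hq => simp [hp, hq]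
  | mul_X p v hp =>
    have h := hεc.gamma (v.deg + 1) (x v.idx)
    rw [show (ε : A →+* K) (x v.idx) = 0 from hx v.idx, gamma_succ_zero] at h
    simp [show ε (gamma (v.deg + 1) (x v.idx)) = 0 from h]

/-- when the generators generate, the γ-filtration is the image of the weight filtration -/
theorem gammaFil_eq_map (hKb : IsBinomial K) (hA : IsSpecial A) (hε : IsAugLambdaAlg K A ε)
    (hx : ∀ i, ε (x i) = 0) (hsurj : Function.Surjective (liftG (K := K) x)) (n : ℕ) :
    gammaFil (ε : A →+* K) n = (gIdeal n).map (liftG (K := K) x) := by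
  refine le_antisymm ?_ (Ideal.map_le_iff_le_comap.2 fun p hp => liftG_mem_gammaFil ε x hx hp)
  refine Ideal.span_le.2 ?_
  rintro y ⟨l, hl, hle, rfl⟩
  suffices ∀ l : List (ℕ × A), (∀ p ∈ l, (ε : A →+* K) p.2 = 0) →
      ∃ P ∈ gIdeal (K := K) (ι := ι) (l.map Prod.fst).sum,
        liftG x P = (l.map fun p => gamma p.1 p.2).prod by
    obtain ⟨P, hP, he⟩ := this l hl
    rw [← he]
    exact Ideal.mem_map_of_mem _ (wtIdeal_mono hle hP)
  clear! l
  intro l
  induction l with
  | nil => exact fun _ => ⟨1, mem_wtIdeal_zero _, by simp⟩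
  | cons p l ih =>
    intro hl
    obtain ⟨P, hP, he⟩ := ih fun q hq => hl q (List.mem_cons_of_mem p hq)
    obtain ⟨Z, hZ⟩ := hsurj p.2
    have hZ1 : Z ∈ gIdeal (K := K) 1 := by
      rw [mem_gIdeal_one, ← aug_liftG ε x hε hx, hZ]
      exact hl p List.mem_cons_self
    refine ⟨gamma p.1 Z * P, mul_mem_wtIdeal (gamma_mem_gIdeal hKb hZ1 p.1) hP, ?_⟩
    rw [map_mul, he, List.map_cons, List.prod_cons]
    congr 1
    exact ((commutes_liftG hKb hA hε.isLambdaAlg x).gamma p.1 Z).trans (congr_arg _ hZ)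

end GammaFil

/-! ### Elements of finite rank -/

section Rank

variable {B : Type w} [CommRing B] [LambdaOps B]

theorem gamma_sub_natCast_eq_zero (h1 : ∀ k, 2 ≤ k → LambdaOps.lam k (1 : B) = 0) {d : ℕ} {N : B}
    (hN : ∀ k, d < k → LambdaOps.lam k N = 0) {k : ℕ} (hk : d < k) : gamma k (N - (d : B)) = 0 := by
  obtain ⟨c, rfl⟩ := Nat.exists_eq_add_of_lt hk
  rw [gamma_eq_lam h1, show N - (d : B) + ((d + c + 1 : ℕ) : B) - 1 = N + (c : B) by push_cast; ring,
    LambdaOps.lam_add]
  refine Finset.sum_eq_zero fun i hi => ?_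
  by_cases hid : d < i
  · rw [hN i hid, zero_mul]
  · rw [lam_natCast h1, Nat.choose_eq_zero_of_lt (by omega), Nat.cast_zero, mul_zero]

theorem alternating_sum_lam_add_one (h1 : ∀ k, 2 ≤ k → LambdaOps.lam k (1 : B) = 0) (y : B)
    (m : ℕ) : ∑ i ∈ range (m + 1), (-1 : B) ^ i * LambdaOps.lam i (y + 1) =
      (-1) ^ m * LambdaOps.lam m y := by
  induction m with
  | zero => simp [LambdaOps.lam_zero]
  | succ m ih =>
    rw [sum_range_succ, ih, LambdaOps.lam_add (m + 1) y 1, sum_range_succ, sum_range_succ,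
      sum_eq_zero, Nat.sub_self, Nat.add_sub_cancel_left, LambdaOps.lam_zero, LambdaOps.lam_one,
      pow_succ]
    · ring
    · intro i hi
      rw [mem_range] at hi
      rw [h1 (m + 1 - i) (by omega), mul_zero]

theorem lamAlt_eq_gamma (h1 : ∀ k, 2 ≤ k → LambdaOps.lam k (1 : B) = 0) (d : ℕ) (N : B) :
    ∑ i ∈ range (d + 1), (-1 : B) ^ i * LambdaOps.lam i N = (-1) ^ d * gamma d (N - (d : B)) := by
  rw [gamma_eq_lam h1, show N - (d : B) + (d : B) - 1 = N - 1 by ring,
    ← alternating_sum_lam_add_one h1 (N - 1) d, sub_add_cancel]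

end Rank

end GrothLib.Lambda
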