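import Groth.Agent.Lib.Lambda.Closed
import Mathlib.RingTheory.MvPolynomial.WeightedHomogeneous

/-!
# The free λ-ring over a binomial ring, and λ-rings of line elements

`MvPolynomial (GVar ι) K` is the free λ-algebra over the binomial ring `K` on generators `x i`, the
variable `⟨i, r⟩` standing for `γ^(r+1) (x i)`; `MvPolynomial (LVar σ) K` is the λ-algebra generated by
line elements `1 + X ⟨j⟩`.
-/

namespace GrothLib.Lambda

open LambdaRing MvPolynomial

universe u v w

/-- index of `γ^(r+1) (x i)` -/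
structure GVar (ι : Type v) : Type v where
  idx : ι
  deg : ℕ

/-- index of `ψ^(r+1) (x i)` -/
structure PVar (ι : Type v) : Type v where
  idx : ι
  deg : ℕ

/-- index of a line element minus one -/
structure LVar (σ : Type v) : Type v where
  idx : σ

/-! ### The models over a `ℚ`-algebra -/

section Models

variable (Q : Type u) [CommRing Q] (ι : Type v)

/-- `ψ^m` on the free ψ-ring -/
noncomputable def psiP (m : ℕ) : MvPolynomial (PVar ι) Q →ₐ[Q] MvPolynomial (PVar ι) Q :=
  aeval fun p => X ⟨p.idx, m * (p.deg + 1) - 1⟩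

theorem psiP_one : psiP Q ι 1 = AlgHom.id Q _ := algHom_ext fun p => by simp [psiP]

theorem psiP_comp (k k' : ℕ) (hk' : 1 ≤ k') (x : MvPolynomial (PVar ι) Q) :
    psiP Q ι k (psiP Q ι k' x) = psiP Q ι (k * k') x := by
  change ((psiP Q ι k).comp (psiP Q ι k')) x = _
  congr 1
  refine algHom_ext fun p => ?_
  have : 1 ≤ k' * (p.deg + 1) := Nat.one_le_iff_ne_zero.2
    (Nat.mul_ne_zero (by omega) (Nat.succ_ne_zero _))
  simp [psiP, Nat.sub_add_cancel this, mul_assoc]

/-- `ψ^m` on the ψ-ring of line elements -/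
noncomputable def psiL (m : ℕ) : MvPolynomial (LVar ι) Q →ₐ[Q] MvPolynomial (LVar ι) Q :=
  aeval fun p => (1 + X p) ^ m - 1

theorem psiL_one : psiL Q ι 1 = AlgHom.id Q _ := algHom_ext fun p => by simp [psiL]

theorem psiL_comp (k k' : ℕ) (x : MvPolynomial (LVar ι) Q) :
    psiL Q ι k (psiL Q ι k' x) = psiL Q ι (k * k') x := by
  change ((psiL Q ι k).comp (psiL Q ι k')) x = _
  congr 1
  refine algHom_ext fun p => ?_
  simp [psiL, pow_mul]

theorem psiL_one_add (m : ℕ) (p : LVar ι) : psiL Q ι m (1 + X p) = (1 + X p) ^ m := by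
  simp [psiL]

variable [Algebra ℚ Q]

theorem psiP_one' : (psiP Q ι 1).toLinearMap.toAddMonoidHom = AddMonoidHom.id _ := by
  rw [psiP_one]
  rfl

noncomputable instance instLambdaOpsP : LambdaOps (MvPolynomial (PVar ι) Q) :=
  opsOfPsi (fun m => (psiP Q ι m).toLinearMap.toAddMonoidHom) (psiP_one' Q ι)

theorem adamsOp_P {k : ℕ} (hk : 1 ≤ k) (x : MvPolynomial (PVar ι) Q) :
    adamsOp k x = psiP Q ι k x :=
  adamsOp_opsOfPsi _ (psiP_one' Q ι) hk x

theorem isSpecial_P : IsSpecial (MvPolynomial (PVar ι) Q) :=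
  isSpecial_opsOfPsi _ (psiP_one' Q ι) (fun k _ => map_one (psiP Q ι k)) (fun k _ => map_mul (psiP Q ι k))
    (fun k k' _ hk' x => psiP_comp Q ι k k' hk' x)

theorem psiL_one' : (psiL Q ι 1).toLinearMap.toAddMonoidHom = AddMonoidHom.id _ := by
  rw [psiL_one]
  rfl

noncomputable instance instLambdaOpsL : LambdaOps (MvPolynomial (LVar ι) Q) :=
  opsOfPsi (fun m => (psiL Q ι m).toLinearMap.toAddMonoidHom) (psiL_one' Q ι)

theorem adamsOp_L {k : ℕ} (hk : 1 ≤ k) (x : MvPolynomial (LVar ι) Q) :
    adamsOp k x = psiL Q ι k x :=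
  adamsOp_opsOfPsi _ (psiL_one' Q ι) hk x

theorem isSpecial_L : IsSpecial (MvPolynomial (LVar ι) Q) :=
  isSpecial_opsOfPsi _ (psiL_one' Q ι) (fun k _ => map_one (psiL Q ι k)) (fun k _ => map_mul (psiL Q ι k))
    (fun k k' _ _ x => psiL_comp Q ι k k' x)

theorem lam_line_L (p : LVar ι) (n : ℕ) :
    LambdaOps.lam n (1 + X p : MvPolynomial (LVar ι) Q) = lineSeq (1 + X p) n := by
  rw [lam_eq_ofPsi, ofPsi_congr (b := fun k => (1 + X p : MvPolynomial (LVar ι) Q) ^ k)
    fun k hk _ => by rw [adamsOp_L Q ι hk, psiL_one_add]]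
  exact ofPsi_pow _ n

theorem lam_C_P (q : Q) (n : ℕ) :
    LambdaOps.lam n (C q : MvPolynomial (PVar ι) Q) = C (ofPsi (fun _ => q) n) := by
  rw [lam_eq_ofPsi, ofPsi_map]
  exact ofPsi_congr fun k hk _ => (adamsOp_P Q ι hk _).trans ((psiP Q ι k).commutes q)

theorem lam_C_L (q : Q) (n : ℕ) :
    LambdaOps.lam n (C q : MvPolynomial (LVar ι) Q) = C (ofPsi (fun _ => q) n) := by
  rw [lam_eq_ofPsi, ofPsi_map]
  exact ofPsi_congr fun k hk _ => (adamsOp_L Q ι hk _).trans ((psiL Q ι k).commutes q)

end Models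

/-! ### The λ-rings over a binomial ring -/

section Binomial

variable (K : Type u) [CommRing K] [BinomialRing K] (ι : Type v)

/-- `x i` in the ψ-model -/
noncomputable def pGen (i : ι) : MvPolynomial (PVar ι) (Rationalise K) := X ⟨i, 0⟩

/-- the embedding of the free λ-ring in the ψ-model -/
noncomputable def embG : MvPolynomial (GVar ι) K →+* MvPolynomial (PVar ι) (Rationalise K) :=
  eval₂Hom (C.comp (algebraMap K (Rationalise K))) fun p => gamma (p.deg + 1) (pGen K ι p.idx)

@[simp] theorem embG_C (c : K) : embG K ι (C c) = C (algebraMap K (Rationalise K) c) :=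
  eval₂Hom_C _ _ c

@[simp] theorem embG_X (p : GVar ι) : embG K ι (X p) = gamma (p.deg + 1) (pGen K ι p.idx) :=
  eval₂Hom_X' _ _ p

theorem embG_injective : Function.Injective (embG K ι) := by
  have := BinomialRing.toIsAddTorsionFree (R := K)
  let g : ι → ℕ → MvPolynomial (GVar ι) (Rationalise K) := fun i r => X ⟨i, r - 1⟩
  let back : MvPolynomial (PVar ι) (Rationalise K) →+* MvPolynomial (GVar ι) (Rationalise K) :=
    eval₂Hom C fun p => psiOf (lamOfGamma (g p.idx)) (p.deg + 1)
  have hcomp : back.comp (embG K ι) = map (algebraMap K (Rationalise K)) := by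
    refine ringHom_ext (fun c => by simp [back]) fun p => ?_
    rw [RingHom.comp_apply, embG_X, gamma_eq, gammaOf_map, map_X]
    have hl : back ∘ lamSeq (pGen K ι p.idx) = lamOfGamma (g p.idx) := by
      funext n
      rw [Function.comp_apply, lamSeq, lam_eq_ofPsi, ofPsi_map]
      have h0 : lamOfGamma (g p.idx) 0 = 1 := by simp [lamOfGamma]
      rw [← ofPsi_psiOf _ h0 n]
      refine ofPsi_congr fun k hk _ => ?_
      rw [Function.comp_apply, adamsOp_P _ ι hk]
      simp [psiP, pGen, back, Nat.sub_add_cancel hk]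
    rw [hl, gammaOf_lamOfGamma]
    simp [g]
  have h := map_injective (σ := GVar ι) (algebraMap K (Rationalise K))
    algebraMap_rationalise_injective
  rw [← hcomp, RingHom.coe_comp] at h
  exact h.of_comp

theorem embG_closed (n : ℕ) (x : MvPolynomial (GVar ι) K) :
    LambdaOps.lam n (embG K ι x) ∈ (embG K ι).range := by
  revert n
  change embG K ι x ∈ lamClosed (isSpecial_P _ ι) (embG K ι).range
  induction x using MvPolynomial.induction_on with
  | C c => exact fun n => ⟨C (Ring.choose c n), by rw [embG_C, embG_C, lam_C_P, algebraMap_choose]⟩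
  | add p q hp hq => rw [map_add]; exact add_mem hp hq
  | mul_X p i hp =>
    rw [map_mul]
    refine mul_mem hp ?_
    have h : pGen K ι i.idx ∈ lamClosed (isSpecial_P _ ι) (embG K ι).range := fun n => by
      change lamSeq (pGen K ι i.idx) n ∈ _
      rw [← lamOfGamma_gammaOf (lamSeq (pGen K ι i.idx)) (lamSeq_zero' _) n]
      refine ⟨lamOfGamma (fun r => if r = 0 then 1 else X ⟨i.idx, r - 1⟩) n, ?_⟩
      rw [lamOfGamma_map]
      congr 1
      funext r
      rcases r with _ | r <;> simp [gammaOf_zero, gamma_eq]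
    rw [embG_X]
    exact gamma_mem_subring _ (fun j => lamClosed_lam _ _ h j) _

noncomputable instance instLambdaOpsG : LambdaOps (MvPolynomial (GVar ι) K) :=
  pullbackOps (embG K ι) (embG_injective K ι) (embG_closed K ι)

theorem commutes_embG : Commutes (embG K ι) :=
  commutes_pullbackOps _ (embG_injective K ι) (embG_closed K ι)

theorem isSpecial_G : IsSpecial (MvPolynomial (GVar ι) K) :=
  isSpecial_pullbackOps _ (embG_injective K ι) (embG_closed K ι) (isSpecial_P _ ι)

theorem lam_C_G (c : K) (n : ℕ) :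
    LambdaOps.lam n (C c : MvPolynomial (GVar ι) K) = C (Ring.choose c n) :=
  embG_injective K ι (by rw [commutes_embG, embG_C, embG_C, lam_C_P, algebraMap_choose])

/-- the variable `⟨i, r⟩` is `γ^(r+1)` of the generator `⟨i, 0⟩` -/
theorem X_eq_gamma (i : ι) (r : ℕ) :
    (X ⟨i, r⟩ : MvPolynomial (GVar ι) K) = gamma (r + 1) (X ⟨i, 0⟩) :=
  embG_injective K ι (by rw [(commutes_embG K ι).gamma, embG_X, embG_X, gamma_one'])

/-- the embedding of the λ-ring of lines in its ψ-model -/
noncomputable def embL : MvPolynomial (LVar ι) K →+* MvPolynomial (LVar ι) (Rationalise K) :=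
  map (algebraMap K (Rationalise K))

theorem embL_injective : Function.Injective (embL K ι) :=
  have := BinomialRing.toIsAddTorsionFree (R := K)
  map_injective _ algebraMap_rationalise_injective

theorem embL_closed (n : ℕ) (x : MvPolynomial (LVar ι) K) :
    LambdaOps.lam n (embL K ι x) ∈ (embL K ι).range := by
  revert n
  change embL K ι x ∈ lamClosed (isSpecial_L _ ι) (embL K ι).range
  induction x using MvPolynomial.induction_on with
  | C c => exact fun n => ⟨C (Ring.choose c n), by simp [embL, lam_C_L, algebraMap_choose]⟩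
  | add p q hp hq => rw [map_add]; exact add_mem hp hq
  | mul_X p i hp =>
    rw [map_mul]
    refine mul_mem hp ?_
    have h : (1 + X i : MvPolynomial (LVar ι) (Rationalise K)) ∈
        lamClosed (isSpecial_L _ ι) (embL K ι).range := fun n =>
      ⟨lineSeq (1 + X i) n, by
        rw [lam_line_L]
        rcases n with _ | _ | n <;> simp [lineSeq, embL]⟩
    simpa [embL] using sub_mem h (one_mem _)

noncomputable instance instLambdaOpsLK : LambdaOps (MvPolynomial (LVar ι) K) :=
  pullbackOps (embL K ι) (embL_injective K ι) (embL_closed K ι)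

theorem commutes_embL : Commutes (embL K ι) :=
  commutes_pullbackOps _ (embL_injective K ι) (embL_closed K ι)

theorem isSpecial_LK : IsSpecial (MvPolynomial (LVar ι) K) :=
  isSpecial_pullbackOps _ (embL_injective K ι) (embL_closed K ι) (isSpecial_L _ ι)

theorem lam_C_LK (c : K) (n : ℕ) :
    LambdaOps.lam n (C c : MvPolynomial (LVar ι) K) = C (Ring.choose c n) :=
  embL_injective K ι (by rw [commutes_embL]; simp [embL, lam_C_L, algebraMap_choose])

theorem lam_line_LK (p : LVar ι) {j : ℕ} (hj : 2 ≤ j) :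
    LambdaOps.lam j (1 + X p : MvPolynomial (LVar ι) K) = 0 := by
  refine embL_injective K ι ?_
  rw [commutes_embL, map_zero, show embL K ι (1 + X p) = 1 + X p by simp [embL], lam_line_L]
  rcases j with _ | _ | j
  · omega
  · omega
  · rfl

theorem isLambdaAlg_LK [LambdaOps K] (hKb : IsBinomial K) :
    IsLambdaAlg K (MvPolynomial (LVar ι) K) := fun n c => by
  rw [MvPolynomial.algebraMap_eq, lam_C_LK, hKb]

theorem isLambdaAlg_G [LambdaOps K] (hKb : IsBinomial K) :
    IsLambdaAlg K (MvPolynomial (GVar ι) K) := fun n c => by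
  rw [MvPolynomial.algebraMap_eq, lam_C_G, hKb]

end Binomial

/-! ### The universal property -/

section Universal

variable {K : Type u} [CommRing K] [LambdaOps K] [BinomialRing K] {ι : Type v} {A : Type w}
  [CommRing A] [LambdaOps A] [Algebra K A]

/-- the map of the free λ-ring sending `x i` to `x i` -/
noncomputable def liftG (x : ι → A) : MvPolynomial (GVar ι) K →ₐ[K] A :=
  aeval fun p => gamma (p.deg + 1) (x p.idx)

@[simp] theorem liftG_X (x : ι → A) (p : GVar ι) :
    liftG (K := K) x (X p) = gamma (p.deg + 1) (x p.idx) := aeval_X _ p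

theorem liftG_gen (x : ι → A) (i : ι) : liftG (K := K) x (X ⟨i, 0⟩) = x i := by
  rw [liftG_X]; exact gamma_one' _

theorem commutes_liftG (hKb : IsBinomial K) (hA : IsSpecial A) (hKA : IsLambdaAlg K A)
    (x : ι → A) : Commutes (liftG (K := K) x).toRingHom := by
  suffices key : ∀ p, p ∈ commutesSubring (liftG (K := K) x).toRingHom (isSpecial_G K ι) hA from
    commutes_of_eq_top _ (isSpecial_G K ι) hA (eq_top_iff.2 fun p _ => key p)
  intro p
  induction p using MvPolynomial.induction_on with
  | C c =>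
    intro n
    rw [lam_C_G]
    change liftG x (C (Ring.choose c n)) = LambdaOps.lam n (liftG x (C c))
    rw [← MvPolynomial.algebraMap_eq, AlgHom.commutes, AlgHom.commutes, ← hKb, hKA]
  | add p q hp hq => exact add_mem hp hq
  | mul_X p i hp =>
    refine mul_mem hp ?_
    have h : (X ⟨i.idx, 0⟩ : MvPolynomial (GVar ι) K) ∈
        commutesSubring (liftG (K := K) x).toRingHom (isSpecial_G K ι) hA := fun n => by
      change liftG x (lamSeq (X ⟨i.idx, 0⟩) n) = lamSeq (liftG x (X ⟨i.idx, 0⟩)) n
      rw [← lamOfGamma_gammaOf (lamSeq (X ⟨i.idx, 0⟩ : MvPolynomial (GVar ι) K)) (lamSeq_zero' _) n,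
        ← lamOfGamma_gammaOf (lamSeq (liftG (K := K) x (X ⟨i.idx, 0⟩))) (lamSeq_zero' _) n]
      refine (lamOfGamma_map (liftG (K := K) x).toRingHom _ n).trans ?_
      congr 1
      funext r
      rcases r with _ | r
      · simp [gammaOf_zero]
      · change liftG x (gamma (r + 1) (X ⟨i.idx, 0⟩)) = gamma (r + 1) _
        rw [← X_eq_gamma, liftG_X, liftG_gen]
    rw [show (X i : MvPolynomial (GVar ι) K) = gamma (i.deg + 1) (X ⟨i.idx, 0⟩) from
      X_eq_gamma K ι i.idx i.deg]
    exact gamma_mem_subring _ (fun j => commutesSubring_lam _ _ hA h j) _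

theorem isLambdaAlg_int [LambdaOps ℤ] (hZ : IsBinomial ℤ) (hA : IsSpecial A) :
    IsLambdaAlg ℤ A :=
  commutes_intCast_map (isSpecial_of_isBinomial hZ) hA (algebraMap ℤ A) fun a => ⟨a, Int.cast_id⟩

end Universal

end GrothLib.Lambda
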