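import Groth.Prelude.Def_KGr
import Groth.Agent.Lib.Lambda.Eigen

/-!
# The graded ring of the γ-filtration

`grK P n x` for `x ∈ F^n`, the homogeneous description of the Rees ring and the projections
`Gr → ℚ ⊗ (K / F^(m+1))`.
-/

set_option autoImplicit false

universe u

open LambdaRing LaurentPolynomial TensorProduct

namespace GrothLib.Lambda

variable {K : Type u} [CommRing K] [LambdaOps K] (P : PosStructure K)

/-- A degree `e` element of the Rees ring. -/
def homSet : Set (LaurentPolynomial K) :=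
  {p | ∃ (e : ℤ) (x : K), x ∈ gammaFiltration P (-e).toNat ∧ p = C x * T e}

variable {P}

theorem mul_mem_gammaFiltration {a b : ℕ} {x y : K} (hx : x ∈ gammaFiltration P a)
    (hy : y ∈ gammaFiltration P b) : x * y ∈ gammaFiltration P (a + b) := by
  rw [mem_gammaFiltration_iff] at *
  exact mul_mem_gammaFil hx hy

theorem mem_gammaFiltration_zero (x : K) : x ∈ gammaFiltration P 0 := by
  simp [gammaFiltration]

theorem natCast_mul_mem_gammaFiltration {n : ℕ} (N : ℕ) {x : K} (hx : x ∈ gammaFiltration P n) :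
    (N : K) * x ∈ gammaFiltration P n := by
  rw [← nsmul_eq_mul]; exact nsmul_mem hx N

theorem C_mul_T_mem {n : ℕ} {x : K} (hx : x ∈ gammaFiltration P n) :
    C x * T (-(n : ℤ)) ∈ KGr.rees P :=
  Subring.subset_closure (Set.mem_insert_of_mem _ ⟨n, x, hx, rfl⟩)

theorem rees_le {p : LaurentPolynomial K} (hp : p ∈ KGr.rees P) :
    p ∈ AddSubgroup.closure (homSet P) := by
  have hmul : ∀ a ∈ homSet P, ∀ b ∈ homSet P, a * b ∈ homSet P := by
    rintro _ ⟨e, x, hx, rfl⟩ _ ⟨e', y, hy, rfl⟩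
    refine ⟨e + e', x * y, ?_, by rw [map_mul, T_add]; ring⟩
    exact gammaFiltration_antitone (by omega) (mul_mem_gammaFiltration hx hy)
  refine Subring.closure_induction ?_ (zero_mem _) ?_ (fun _ _ _ _ => add_mem) (fun _ _ => neg_mem) ?_ hp
  · rintro q (rfl | ⟨n, x, hx, rfl⟩)
    · exact AddSubgroup.subset_closure ⟨1, 1, mem_gammaFiltration_zero _, by simp⟩
    · exact AddSubgroup.subset_closure ⟨-n, x, by simpa using hx, rfl⟩
  · exact AddSubgroup.subset_closure ⟨0, 1, mem_gammaFiltration_zero _, by simp⟩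
  · intro a b ha0 hb0 ha hb
    clear ha0 hb0
    induction ha using AddSubgroup.closure_induction with
    | mem a ha =>
      induction hb using AddSubgroup.closure_induction with
      | mem b hb => exact AddSubgroup.subset_closure (hmul a ha b hb)
      | zero => rw [mul_zero]; exact zero_mem _
      | add _ _ _ _ h1 h2 => rw [mul_add]; exact add_mem h1 h2
      | neg _ _ h1 => rw [mul_neg]; exact neg_mem h1
    | zero => rw [zero_mul]; exact zero_mem _
    | add _ _ _ _ h1 h2 => rw [add_mul]; exact add_mem h1 h2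
    | neg _ _ h1 => rw [neg_mul]; exact neg_mem h1

theorem coeff_mem {p : LaurentPolynomial K} (hp : p ∈ KGr.rees P) (n : ℕ) :
    p.coeff (-(n : ℤ)) ∈ gammaFiltration P n := by
  have hp' := rees_le hp
  clear hp
  induction hp' using AddSubgroup.closure_induction with
  | mem q hq =>
    obtain ⟨e, x, hx, rfl⟩ := hq
    rw [← single_eq_C_mul_T, AddMonoidAlgebra.coeff_single, Finsupp.single_apply]
    split_ifs with h
    · simpa [h] using hx
    · exact zero_mem _
  | zero => simp [zero_mem]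
  | add a b _ _ ha hb => simpa using add_mem ha hb
  | neg a _ ha => simpa using neg_mem ha

variable (P)

/-- The class of `x ∈ F^n` in degree `n`. -/
noncomputable def cls (n : ℕ) : gammaFiltration P n →+ KGr.Gr P where
  toFun x := (1 : ℚ) ⊗ₜ[ℤ]
    Ideal.Quotient.mk (Ideal.span {KGr.tGen P}) ⟨C (x : K) * T (-(n : ℤ)), C_mul_T_mem x.2⟩
  map_zero' := by
    have h : (⟨C ((0 : gammaFiltration P n) : K) * T (-(n : ℤ)),
        C_mul_T_mem (0 : gammaFiltration P n).2⟩ : KGr.rees P) = 0 := Subtype.ext (by simp)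
    rw [h, map_zero, tmul_zero]
  map_add' x y := by
    rw [← tmul_add, ← map_add]
    exact congrArg _ (congrArg _ (Subtype.ext (by simp [add_mul])))

variable {P}

theorem grK_eq {n : ℕ} {x : K} (hx : x ∈ gammaFiltration P n) :
    KGr.grK P (n : ℤ) x = cls P n ⟨x, hx⟩ := by
  have h : ∃ N : ℕ, 1 ≤ N ∧ C ((N : K) * x) * T (-(n : ℤ)) ∈ KGr.rees P :=
    ⟨1, le_rfl, C_mul_T_mem (by simpa using hx)⟩
  rw [KGr.grK, dif_pos h]
  have h1 : h.choose ≠ 0 := by have := h.choose_spec.1; omega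
  have e : (⟨C ((h.choose : K) * x) * T (-(n : ℤ)), h.choose_spec.2⟩ : KGr.rees P) =
      (h.choose : ℤ) • (⟨C x * T (-(n : ℤ)), C_mul_T_mem hx⟩ : KGr.rees P) := by
    refine Subtype.ext ?_
    simp [map_mul, mul_assoc]
  rw [e, map_zsmul, ← smul_tmul]
  refine congrArg (· ⊗ₜ[ℤ] _) ?_
  simp only [zsmul_eq_mul, Int.cast_natCast, one_div]
  exact inv_mul_cancel₀ (Nat.cast_ne_zero.2 h1) |>.symm.trans (mul_comm _ _) |>.symm

theorem grK_zero_right (n : ℕ) : KGr.grK P (n : ℤ) (0 : K) = 0 := by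
  rw [grK_eq (zero_mem _)]; exact map_zero (cls P n)

theorem grK_add {n : ℕ} {x y : K} (hx : x ∈ gammaFiltration P n) (hy : y ∈ gammaFiltration P n) :
    KGr.grK P (n : ℤ) (x + y) = KGr.grK P (n : ℤ) x + KGr.grK P (n : ℤ) y := by
  rw [grK_eq hx, grK_eq hy, grK_eq (add_mem hx hy), ← map_add]; rfl

theorem grK_sum {ι : Type*} {n : ℕ} (s : Finset ι) (f : ι → K)
    (hf : ∀ i ∈ s, f i ∈ gammaFiltration P n) :
    KGr.grK P (n : ℤ) (∑ i ∈ s, f i) = ∑ i ∈ s, KGr.grK P (n : ℤ) (f i) := by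
  classical
  induction s using Finset.induction with
  | empty => simp [grK_zero_right]
  | insert a s ha ih =>
    rw [Finset.sum_insert ha, Finset.sum_insert ha,
      grK_add (hf a (Finset.mem_insert_self a s))
        (sum_mem fun i hi => hf i (Finset.mem_insert_of_mem hi)),
      ih fun i hi => hf i (Finset.mem_insert_of_mem hi)]

theorem grK_intCast_mul {n : ℕ} (a : ℤ) {x : K} (hx : x ∈ gammaFiltration P n) :
    KGr.grK P (n : ℤ) ((a : K) * x) = (a : KGr.Gr P) * KGr.grK P (n : ℤ) x := by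
  have h : (a : K) * x ∈ gammaFiltration P n := by rw [← zsmul_eq_mul]; exact zsmul_mem hx a
  rw [grK_eq hx, grK_eq h]
  refine Eq.trans ?_ (zsmul_eq_mul _ a)
  rw [← map_zsmul]
  exact congrArg _ (Subtype.ext (zsmul_eq_mul x a).symm)

theorem grK_natCast_mul {n : ℕ} (a : ℕ) {x : K} (hx : x ∈ gammaFiltration P n) :
    KGr.grK P (n : ℤ) ((a : K) * x) = (a : KGr.Gr P) * KGr.grK P (n : ℤ) x := by
  exact_mod_cast grK_intCast_mul (a : ℤ) hx

theorem grK_neg {n : ℕ} {x : K} (hx : x ∈ gammaFiltration P n) :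
    KGr.grK P (n : ℤ) (-x) = -KGr.grK P (n : ℤ) x := by
  rw [show -x = ((-1 : ℤ) : K) * x by simp, grK_intCast_mul (-1) hx, Int.cast_neg, Int.cast_one]
  exact neg_one_mul (KGr.grK P (n : ℤ) x)

theorem grK_mul {a b : ℕ} {x y : K} (hx : x ∈ gammaFiltration P a) (hy : y ∈ gammaFiltration P b) :
    KGr.grK P (a : ℤ) x * KGr.grK P (b : ℤ) y = KGr.grK P ((a + b : ℕ) : ℤ) (x * y) := by
  rw [grK_eq hx, grK_eq hy, grK_eq (mul_mem_gammaFiltration hx hy)]
  show (_ ⊗ₜ[ℤ] _) * (_ ⊗ₜ[ℤ] _) = _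
  rw [Algebra.TensorProduct.tmul_mul_tmul, one_mul, ← map_mul]
  refine congrArg _ (congrArg _ (Subtype.ext ?_))
  simp only [MulMemClass.coe_mul]
  push_cast
  rw [map_mul, show -((a : ℤ) + b) = -(a : ℤ) + -(b : ℤ) by ring, T_add]
  ring

theorem grK_zero_one : KGr.grK P ((0 : ℕ) : ℤ) (1 : K) = 1 := by
  rw [grK_eq (mem_gammaFiltration_zero _), Algebra.TensorProduct.one_def]
  show (1 : ℚ) ⊗ₜ[ℤ] _ = _
  refine congrArg ((1 : ℚ) ⊗ₜ[ℤ] ·) ?_
  rw [← map_one (Ideal.Quotient.mk (Ideal.span {KGr.tGen P}))]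
  exact congrArg _ (Subtype.ext (by simp))

theorem mk_eq_zero_of_succ {n : ℕ} {x : K} (hx : x ∈ gammaFiltration P n)
    (hx' : x ∈ gammaFiltration P (n + 1)) :
    Ideal.Quotient.mk (Ideal.span {KGr.tGen P}) ⟨C x * T (-(n : ℤ)), C_mul_T_mem hx⟩ = 0 := by
  refine Ideal.Quotient.eq_zero_iff_mem.2 (Ideal.mem_span_singleton'.2
    ⟨⟨_, C_mul_T_mem hx'⟩, Subtype.ext ?_⟩)
  simp only [KGr.tGen, MulMemClass.coe_mul]
  rw [mul_assoc, ← T_add]
  push_cast
  congr 2
  ring

theorem grK_eq_zero_of_succ {n : ℕ} {x : K} (hx : x ∈ gammaFiltration P (n + 1)) :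
    KGr.grK P (n : ℤ) x = 0 := by
  have hx' : x ∈ gammaFiltration P n := gammaFiltration_antitone (Nat.le_succ n) hx
  rw [grK_eq hx']
  show (1 : ℚ) ⊗ₜ[ℤ] _ = 0
  rw [mk_eq_zero_of_succ hx' hx, tmul_zero]

theorem grK_congr {n : ℕ} {x y : K} (hy : y ∈ gammaFiltration P n)
    (h : x - y ∈ gammaFiltration P (n + 1)) : KGr.grK P (n : ℤ) x = KGr.grK P (n : ℤ) y := by
  rw [show x = (x - y) + y by ring, grK_add (gammaFiltration_antitone (Nat.le_succ n) h) hy,
    grK_eq_zero_of_succ h, zero_add]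

theorem intCast_eq_grK (a : ℤ) : (a : KGr.Gr P) = KGr.grK P ((0 : ℕ) : ℤ) (a : K) := by
  conv_rhs => rw [← mul_one (a : K)]
  rw [grK_intCast_mul a (mem_gammaFiltration_zero _), grK_zero_one, mul_one]

/-- Every element of the graded ring is spanned by the classes. -/
theorem span_grK_eq_top :
    Submodule.span ℚ {z : KGr.Gr P | ∃ (n : ℕ) (x : K), x ∈ gammaFiltration P n ∧ z = KGr.grK P (n : ℤ) x} = ⊤ := by
  refine eq_top_iff.2 fun z h => ?_
  clear h
  induction z using TensorProduct.induction_on with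
  | zero => exact zero_mem _
  | add a b ha hb => exact add_mem ha hb
  | tmul q w =>
    rw [show q ⊗ₜ[ℤ] w = q • ((1 : ℚ) ⊗ₜ[ℤ] w) by rw [smul_tmul', smul_eq_mul, mul_one]]
    refine Submodule.smul_mem _ _ ?_
    obtain ⟨⟨p, hp⟩, rfl⟩ := Ideal.Quotient.mk_surjective w
    have hgen : p ∈ AddSubgroup.closure (homSet P) := rees_le hp
    revert hp
    induction hgen using AddSubgroup.closure_induction with
    | mem q hq =>
      intro hp
      obtain ⟨e, x, hx, rfl⟩ := hq
      rcases le_or_gt e 0 with he | he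
      · obtain ⟨n, rfl⟩ : ∃ n : ℕ, e = -(n : ℤ) := ⟨(-e).toNat, by omega⟩
        rw [neg_neg, Int.toNat_natCast] at hx
        exact Submodule.subset_span ⟨n, x, hx, (grK_eq hx).symm⟩
      · obtain ⟨m, rfl⟩ : ∃ m : ℕ, e = (m : ℤ) + 1 := ⟨(e - 1).toNat, by omega⟩
        have hr : C x * T (m : ℤ) ∈ KGr.rees P := by
          have h1 : C x ∈ KGr.rees P := by simpa using C_mul_T_mem (mem_gammaFiltration_zero (P := P) x)
          have h2 : T (1 : ℤ) ∈ KGr.rees P := (KGr.tGen P).2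
          have h3 := mul_mem h1 (pow_mem h2 m)
          rwa [T_pow, mul_one] at h3
        have hz : Ideal.Quotient.mk (Ideal.span {KGr.tGen P}) ⟨C x * T ((m : ℤ) + 1), hp⟩ = 0 := by
          refine Ideal.Quotient.eq_zero_iff_mem.2 (Ideal.mem_span_singleton'.2 ⟨⟨_, hr⟩, Subtype.ext ?_⟩)
          show C x * T (m : ℤ) * T 1 = C x * T ((m : ℤ) + 1)
          rw [mul_assoc, ← T_add]
        rw [hz, tmul_zero]
        exact zero_mem _
    | zero =>
      intro hp
      rw [show (⟨0, hp⟩ : KGr.rees P) = 0 from rfl, map_zero, tmul_zero]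
      exact zero_mem _
    | add a b ha hb iha ihb =>
      intro hp
      have hS : ∀ s ∈ homSet P, s ∈ KGr.rees P := by
        rintro _ ⟨e, x, hx, rfl⟩
        rcases le_or_gt e 0 with he | he
        · obtain ⟨n, rfl⟩ : ∃ n : ℕ, e = -(n : ℤ) := ⟨(-e).toNat, by omega⟩
          rw [neg_neg, Int.toNat_natCast] at hx
          exact C_mul_T_mem hx
        · obtain ⟨m, rfl⟩ : ∃ m : ℕ, e = (m : ℤ) := ⟨e.toNat, by omega⟩
          have h1 : C x ∈ KGr.rees P := by simpa using C_mul_T_mem (mem_gammaFiltration_zero (P := P) x)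
          have h2 : T (1 : ℤ) ∈ KGr.rees P := (KGr.tGen P).2
          have h3 := mul_mem h1 (pow_mem h2 m)
          rwa [T_pow, mul_one] at h3
      have hle := (AddSubgroup.closure_le (K := (KGr.rees P).toAddSubgroup)).2 hS
      have h1 := iha (hle ha)
      have h2 := ihb (hle hb)
      have h3 := add_mem h1 h2
      rw [← tmul_add, ← map_add] at h3
      exact h3
    | neg a ha iha =>
      intro hp
      have h1 := iha (by simpa using neg_mem hp)
      have h3 := neg_mem h1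
      rw [← tmul_neg, ← map_neg] at h3
      exact h3

variable (P)

/-- The component of degree `m` in `ℚ ⊗ (K / F^(m+1))`. -/
noncomputable def grProjAux (m : ℕ) : KGr.GrZ P →+ K ⧸ gammaFiltration P (m + 1) :=
  QuotientAddGroup.lift (Submodule.toAddSubgroup (Ideal.span {KGr.tGen P}))
    { toFun := fun r => ((r.1.coeff (-(m : ℤ)) : K) : K ⧸ gammaFiltration P (m + 1))
      map_zero' := by simp
      map_add' := fun a b => by simp }
    fun r hr => by
      obtain ⟨s, rfl⟩ := Ideal.mem_span_singleton'.1 hr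
      refine (QuotientAddGroup.eq_zero_iff _).2 ?_
      have h := coeff_mem s.2 (m + 1)
      push_cast at h
      show ((s.1 * T 1).coeff (-(m : ℤ))) ∈ _
      have hc : (s.1 * T 1).coeff (-(m : ℤ)) = s.1.coeff (-((m : ℤ) + 1)) := by
        rw [T, AddMonoidAlgebra.coeff_mul_single_eq_coeff_mul (-((m : ℤ) + 1)) (fun a _ => by omega), mul_one]
      rw [hc]; exact h

variable {P}

theorem grProjAux_mk {m n : ℕ} {x : K} (hx : x ∈ gammaFiltration P n) :
    grProjAux P m (Ideal.Quotient.mk (Ideal.span {KGr.tGen P}) ⟨C x * T (-(n : ℤ)), C_mul_T_mem hx⟩) =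
      if n = m then ((x : K) : K ⧸ gammaFiltration P (m + 1)) else 0 := by
  show (((C x * T (-(n : ℤ))).coeff (-(m : ℤ)) : K) : K ⧸ gammaFiltration P (m + 1)) = _
  rw [← single_eq_C_mul_T, AddMonoidAlgebra.coeff_single, Finsupp.single_apply]
  by_cases h : n = m
  · subst h; simp
  · simp [h]

end GrothLib.Lambda
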