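import Groth.Agent.Lib.Lambda.Split
import Groth.Prelude.Def_W4bkmilneecrracsp2Inv

/-!
# Involutions
-/

namespace GrothLib.Lambda

open LambdaRing Finset

universe u

theorem esymm_of_inverse {K : Type u} [CommRing K] (g : K → K) (s : Multiset K)
    (hg : ∀ v ∈ s, g v * v = 1) :
    ∀ i ≤ Multiset.card s, s.esymm i = (s.map g).esymm (Multiset.card s - i) * s.prod := by
  induction s using Multiset.induction with
  | empty =>
    intro i hi
    simp at hi
    simp [hi, esymm_empty]
  | cons a s ih =>
    intro i hi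
    rw [Multiset.card_cons] at hi ⊢
    have ha := hg a (Multiset.mem_cons_self a s)
    have ih' := ih fun v hv => hg v (Multiset.mem_cons_of_mem hv)
    have hprod : (Multiset.map g s).esymm (Multiset.card s) * s.prod = 1 := by
      have := ih' 0 (Nat.zero_le _)
      rwa [esymm_zero', Nat.sub_zero, eq_comm] at this
    rw [Multiset.map_cons, Multiset.prod_cons]
    rcases i with _ | i
    · rw [esymm_zero', Nat.sub_zero, esymm_cons, esymm_eq_zero _ (by simp)]
      linear_combination (-(g a * a)) * hprod - ha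
    · rw [esymm_cons, Nat.add_sub_add_right]
      rcases (Nat.le_of_succ_le_succ hi).eq_or_lt with h | h
      · rw [h, Nat.sub_self, esymm_zero', esymm_eq_zero s (Nat.lt_succ_self _), ih' _ le_rfl,
          Nat.sub_self, esymm_zero']
        ring
      · obtain ⟨r, hr⟩ : ∃ r, Multiset.card s - i = r + 1 := ⟨Multiset.card s - i - 1, by omega⟩
        have h1 := ih' (i + 1) h
        have h2 := ih' i h.le
        rw [hr] at h2 ⊢
        rw [show Multiset.card s - (i + 1) = r by omega] at h1
        rw [esymm_cons, h1, h2]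
        linear_combination (-((Multiset.map g s).esymm r * s.prod)) * ha

variable {K : Type u} [CommRing K] [LambdaOps K] {P : PosStructure K} {inv : K → K}

theorem lam_inv_of_split (hS : HasInvSplitting P inv) {e : K} (he : e ∈ P.pos) :
    (∀ i ≤ (P.aug e).toNat, LambdaOps.lam i e =
        LambdaOps.lam ((P.aug e).toNat - i) (inv e) * LambdaOps.lam (P.aug e).toNat e) ∧
    ∀ i, (P.aug e).toNat < i → LambdaOps.lam i (inv e) = 0 := by
  obtain ⟨L, inv', f, hf, hV', hcomm, t, ht, hsum⟩ := hS e he
  let g : L.carrier →+ L.carrier := AddMonoidHom.mk' inv' hV'.map_add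
  have hcard : Multiset.card t = (P.aug e).toNat := by
    rw [← hf.aug_comp, ← hsum, card_of_split ht]
  have hlam : ∀ n, f (LambdaOps.lam n e) = t.esymm n := fun n => by
    rw [hf.isLambdaHom, ← hsum, lam_multiset_sum t fun v hv j hj => lam_line_eq_zero (ht v hv) hj]
  have hlam' : ∀ n, f (LambdaOps.lam n (inv e)) = (t.map inv').esymm n := fun n => by
    rw [hf.isLambdaHom, hcomm, ← hsum, show inv' t.sum = g t.sum from rfl, map_multiset_sum]
    refine lam_multiset_sum _ (fun v hv j hj => ?_) n
    obtain ⟨w, hw, rfl⟩ := Multiset.mem_map.1 hv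
    exact lam_line_eq_zero (hV'.inv_line w (ht w hw)) hj
  refine ⟨fun i hi => hf.injective ?_, fun i hi => hf.injective ?_⟩
  · rw [← hcard] at hi
    rw [map_mul, hlam, hlam, hlam', ← hcard,
      esymm_of_inverse inv' t (fun v hv => hV'.inv_mul_self v (ht v hv)) i hi]
    congr 1
    rw [esymm_of_inverse inv' t (fun v hv => hV'.inv_mul_self v (ht v hv)) _ le_rfl, Nat.sub_self,
      esymm_zero', one_mul]
  · rw [map_zero, hlam', esymm_eq_zero]
    rw [Multiset.card_map, hcard]
    exact hi

theorem lamAlt_reflect (hS : HasInvSplitting P inv) {e : K} (he : e ∈ P.pos) :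
    ∑ i ∈ range ((P.aug e).toNat + 1), (-1 : K) ^ i * LambdaOps.lam i e =
      (-1) ^ (P.aug e).toNat *
        (∑ i ∈ range ((P.aug e).toNat + 1), (-1 : K) ^ i * LambdaOps.lam i (inv e)) *
        LambdaOps.lam (P.aug e).toNat e := by
  rw [← sum_range_reflect (fun i => (-1 : K) ^ i * LambdaOps.lam i (inv e)), Finset.mul_sum,
    Finset.sum_mul]
  refine sum_congr rfl fun i hi => ?_
  have hi' : i ≤ (P.aug e).toNat := Nat.lt_succ_iff.1 (mem_range.1 hi)
  conv_lhs => rw [(lam_inv_of_split hS he).1 i hi']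
  rw [Nat.add_sub_cancel]
  have : (-1 : K) ^ (P.aug e).toNat * (-1) ^ ((P.aug e).toNat - i) = (-1) ^ i := by
    conv_lhs => rw [← Nat.add_sub_cancel' hi', pow_add, Nat.add_sub_cancel_left]
    rw [mul_assoc, ← mul_pow, neg_one_mul, neg_neg, one_pow, mul_one]
  rw [← this]
  ring

theorem gamma_top_of_inv (hS : HasInvSplitting P inv) {e : K} (he : e ∈ P.pos) :
    gamma (P.aug e).toNat (e - ((P.aug e).toNat : K)) =
      (∑ i ∈ range ((P.aug e).toNat + 1), (-1 : K) ^ i * LambdaOps.lam i (inv e)) *
        LambdaOps.lam (P.aug e).toNat e := by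
  have h := lamAlt_eq_gamma (lam_one_eq_zero_of_pos P) (P.aug e).toNat e
  rw [lamAlt_reflect hS he, mul_assoc] at h
  have hu : IsUnit ((-1 : K) ^ (P.aug e).toNat) := isUnit_one.neg.pow _
  exact (hu.mul_left_cancel h).symm

end GrothLib.Lambda
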