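import Groth.Agent.Lib.Lambda.Free

/-!
# ψ-identities in a special λ-ring
-/

namespace GrothLib.Lambda

theorem psi_identities {K : Type*} [CommRing K] [LambdaRing.LambdaOps K]
    (hK : LambdaRing.IsSpecial K) (x y : K) :
    (∀ k, 1 ≤ k → LambdaRing.adamsOp k (x * y) = LambdaRing.adamsOp k x * LambdaRing.adamsOp k y) ∧
    (∀ k k', 1 ≤ k → 1 ≤ k' →
      LambdaRing.adamsOp k (LambdaRing.adamsOp k' x) = LambdaRing.adamsOp (k * k') x) := by
  letI : LambdaRing.LambdaOps ℤ := LambdaRing.binomialLambdaOps ℤ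
  have hZ : LambdaRing.IsBinomial ℤ := fun _ _ => rfl
  let v : Fin 2 → K := ![x, y]
  let f := (liftG (K := ℤ) v).toRingHom
  have hf : Commutes f :=
    commutes_liftG hZ hK (isLambdaAlg_int hZ hK) v
  have he := commutes_embG ℤ (Fin 2)
  let X0 : MvPolynomial (GVar (Fin 2)) ℤ := MvPolynomial.X ⟨0, 0⟩
  let X1 : MvPolynomial (GVar (Fin 2)) ℤ := MvPolynomial.X ⟨1, 0⟩
  have h0 : f X0 = x := liftG_gen v 0
  have h1 : f X1 = y := liftG_gen v 1
  refine ⟨fun k hk => ?_, fun k k' hk hk' => ?_⟩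
  · have h : LambdaRing.adamsOp k (X0 * X1) = LambdaRing.adamsOp k X0 * LambdaRing.adamsOp k X1 :=
      embG_injective ℤ _ (by
        simp only [map_mul, he.adamsOp, adamsOp_P _ _ hk])
    have := congr_arg f h
    simpa only [map_mul, hf.adamsOp, h0, h1] using this
  · have hkk' : 1 ≤ k * k' := Nat.mul_le_mul hk hk'
    have h : LambdaRing.adamsOp k (LambdaRing.adamsOp k' X0) = LambdaRing.adamsOp (k * k') X0 :=
      embG_injective ℤ _ (by
        simp only [he.adamsOp, adamsOp_P _ _ hk, adamsOp_P _ _ hk',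
          adamsOp_P _ _ hkk']
        exact psiP_comp _ _ k k' hk' _)
    have := congr_arg f h
    simpa only [hf.adamsOp, h0] using this

end GrothLib.Lambda
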