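import Groth.Agent.Lib.Lambda.Basic
import Groth.Agent.Lib.Lambda.Sym
import Mathlib.RingTheory.Localization.FractionRing
import Mathlib.RingTheory.Binomial

/-!
# λ-structures from Adams operations; criterion for being special
-/

namespace GrothLib.Lambda

open LambdaRing MvPolynomial

universe u v w

variable {K : Type u} [CommRing K]

theorem ringHom_aeval {σ : Type*} {A : Type*} {B : Type*} [CommRing A] [CommRing B]
    [Algebra ℤ A] [Algebra ℤ B] (f : A →+* B) (g : σ → A) (P : MvPolynomial σ ℤ) :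
    f (aeval g P) = aeval (fun i => f (g i)) P := by
  rw [aeval_def, aeval_def, eval₂_comp_left]
  congr 1
  exact RingHom.ext_int _ _

/-- the λ-structure with prescribed Adams operations -/
@[reducible] noncomputable def opsOfPsi [Algebra ℚ K] (ψ : ℕ → K →+ K)
    (h : ψ 1 = AddMonoidHom.id K) : LambdaOps K where
  lam n x := ofPsi (fun k => ψ k x) n
  lam_zero x := ofPsi_zero _
  lam_one x := by rw [ofPsi_one, h]; rfl
  lam_add k x y := by
    simp only [map_add]
    exact ofPsi_add _ _ k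

theorem adamsOp_opsOfPsi [Algebra ℚ K] (ψ : ℕ → K →+ K) (h : ψ 1 = AddMonoidHom.id K) {k : ℕ}
    (hk : 1 ≤ k) (x : K) : @adamsOp K _ (opsOfPsi ψ h) k x = ψ k x := by
  let L := opsOfPsi ψ h
  rw [adamsOp_eq]
  exact psiOf_ofPsi _ k hk

/-! ### Substitution of power sums -/

section PowerSum

/-- a family of variables as a sequence `1 ↦ X 0, …, N ↦ X (N-1)` -/
noncomputable def varSeq {σ : Type*} {R : Type*} [CommRing R] {N : ℕ} (j : Fin N → σ) (k : ℕ) :
    MvPolynomial σ R :=
  if h : 1 ≤ k ∧ k ≤ N then X (j ⟨k - 1, by omega⟩) else 0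

theorem varSeq_succ {σ : Type*} {R : Type*} [CommRing R] {N : ℕ} (j : Fin N → σ) (i : Fin N) :
    varSeq (R := R) j ((i : ℕ) + 1) = X (j i) := by
  rw [varSeq, dif_pos ⟨Nat.le_add_left 1 _, i.2⟩]
  rfl

theorem psum_eq_sum (S : Type w) [CommRing S] (N k : ℕ) :
    psum (Fin N) S k = (((Finset.univ : Finset (Fin N)).val.map fun i =>
      (X i : MvPolynomial (Fin N) S)).map fun u => u ^ k).sum := by
  rw [Multiset.map_map]
  rfl

/-- the elementary symmetric functions are the λ-sequence of the power sums -/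
theorem ofPsi_psum (S : Type w) [CommRing S] [Algebra ℚ S] (N m : ℕ) :
    ofPsi (fun k => psum (Fin N) S k) m = esymm (Fin N) S m := by
  have h := ofPsi_powerSum ((Finset.univ : Finset (Fin N)).val.map fun i => (X i : MvPolynomial (Fin N) S)) m
  rw [esymm_eq_multiset_esymm]
  refine Eq.trans ?_ h
  congr 1
  funext k
  exact psum_eq_sum S N k

theorem aeval_psum_injective (S : Type w) [CommRing S] [Algebra ℚ S] (N : ℕ) :
    Function.Injective (aeval (R := S) fun k : Fin N => psum (Fin N) S ((k : ℕ) + 1)) := by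
  -- the variables as a λ-sequence
  let x : ℕ → MvPolynomial (Fin N) S := fun m => if m = 0 then 1 else varSeq id m
  have hx : x 0 = 1 := rfl
  let g : MvPolynomial (Fin N) S →ₐ[S] MvPolynomial (Fin N) S :=
    aeval fun k => psiOf x ((k : ℕ) + 1)
  let h : MvPolynomial (Fin N) S →ₐ[S] MvPolynomial (Fin N) S :=
    aeval fun k => ofPsi (varSeq id) ((k : ℕ) + 1)
  let Φ : MvPolynomial (Fin N) S →ₐ[S] MvPolynomial (Fin N) S :=
    aeval fun k => esymm (Fin N) S ((k : ℕ) + 1)
  have hhg : h.comp g = AlgHom.id S _ := algHom_ext fun k => by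
    have hk : psiOf (h.toRingHom ∘ x) ((k : ℕ) + 1) = psiOf (ofPsi (varSeq id)) ((k : ℕ) + 1) := by
      refine psiOf_congr (by simp [hx]) (ofPsi_zero _) fun m hm => ?_
      rcases m with _ | m
      · simp [hx, ofPsi_zero]
      · have hm' : m < N := by omega
        simp [x, h, varSeq_succ id ⟨m, hm'⟩]
    rw [psiOf_ofPsi _ _ (Nat.le_add_left 1 _), varSeq_succ] at hk
    rw [AlgHom.comp_apply, show g (X k) = psiOf x ((k : ℕ) + 1) from aeval_X _ k]
    exact (psiOf_map h.toRingHom x hx _).trans hk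
  have hΦg : Φ.comp g = aeval (R := S) fun k : Fin N => psum (Fin N) S ((k : ℕ) + 1) := by
    refine algHom_ext fun k => ?_
    have hΦx : Φ.toRingHom ∘ x =
        ((Finset.univ : Finset (Fin N)).val.map fun i => (X i : MvPolynomial (Fin N) S)).esymm := by
      funext m
      rcases m with _ | m
      · simp [hx, esymm_zero']
      · by_cases hm : m < N
        · simp [x, Φ, varSeq_succ id ⟨m, hm⟩, esymm_eq_multiset_esymm]
        · rw [esymm_eq_zero _ (by simp; omega)]
          simp [x, varSeq, show ¬ (m + 1 ≤ N) by omega]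
    rw [AlgHom.comp_apply, show g (X k) = psiOf x ((k : ℕ) + 1) from aeval_X _ k, aeval_X]
    refine (psiOf_map Φ.toRingHom x hx _).trans ?_
    rw [hΦx, ← (newton_esymm _).eq_psiOf (esymm_zero' _) _ (Nat.le_add_left 1 _)]
    exact (psum_eq_sum S N _).symm
  rw [← hΦg]
  refine (aeval_esymm_injective S le_rfl).comp ?_
  exact Function.LeftInverse.injective (g := h) fun p => AlgHom.congr_fun hhg p

end PowerSum

/-! ### The two identities in a ψ-ring over `ℚ` -/

theorem mulPoly_identity {n : ℕ} {P : MvPolynomial (Fin n ⊕ Fin n) ℤ} (hP : IsMulPoly n P) :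
    let A : ℕ → MvPolynomial (Fin n ⊕ Fin n) ℚ := varSeq Sum.inl
    let B : ℕ → MvPolynomial (Fin n ⊕ Fin n) ℚ := varSeq Sum.inr
    aeval (Sum.elim (fun k : Fin n => ofPsi A ((k : ℕ) + 1))
      (fun k : Fin n => ofPsi B ((k : ℕ) + 1))) P = ofPsi (fun k => A k * B k) n := by
  intro A B
  let T : ℕ → MvPolynomial (Fin n ⊕ Fin n) ℚ := fun k => rename Sum.inl (psum (Fin n) ℚ k)
  let U : ℕ → MvPolynomial (Fin n ⊕ Fin n) ℚ := fun k => rename Sum.inr (psum (Fin n) ℚ k)
  let Θ : MvPolynomial (Fin n ⊕ Fin n) ℚ →ₐ[ℚ] MvPolynomial (Fin n ⊕ Fin n) ℚ :=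
    aeval (Sum.elim (fun k : Fin n => T ((k : ℕ) + 1)) (fun k : Fin n => U ((k : ℕ) + 1)))
  have hΘ : Function.Injective Θ := by
    refine aeval_sumElim_injective _ _ (aeval_psum_injective ℚ n) ?_
    simpa [psum] using aeval_psum_injective (MvPolynomial (Fin n) ℚ) n
  have hA : ∀ k, 1 ≤ k → k ≤ n → Θ (A k) = T k ∧ Θ (B k) = U k := by
    intro k hk hk'
    obtain ⟨j, rfl⟩ := Nat.exists_eq_add_of_le' hk
    simp [A, B, Θ, varSeq_succ _ (⟨j, hk'⟩ : Fin n)]
  apply hΘ
  change Θ.toRingHom _ = Θ.toRingHom _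
  rw [ringHom_aeval, ofPsi_map]
  have h1 : (fun i : Fin n ⊕ Fin n => Θ.toRingHom (Sum.elim (fun k : Fin n => ofPsi A ((k : ℕ) + 1))
      (fun k : Fin n => ofPsi B ((k : ℕ) + 1)) i)) =
      fun i => map (Int.castRingHom ℚ)
        (Sum.elim (fun k : Fin n => rename Sum.inl (esymm (Fin n) ℤ ((k : ℕ) + 1)))
          (fun k : Fin n => rename Sum.inr (esymm (Fin n) ℤ ((k : ℕ) + 1))) i) := by
    funext i
    rcases i with k | k
    · rw [Sum.elim_inl, Sum.elim_inl, map_rename, map_esymm, ofPsi_map, ← ofPsi_psum ℚ n]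
      refine Eq.trans ?_ (ofPsi_map (rename (R := ℚ) (Sum.inl : Fin n → Fin n ⊕ Fin n)).toRingHom
        (fun l => psum (Fin n) ℚ l) _).symm
      exact ofPsi_congr fun l hl hl' => (hA l hl (by omega)).1
    · rw [Sum.elim_inr, Sum.elim_inr, map_rename, map_esymm, ofPsi_map, ← ofPsi_psum ℚ n]
      refine Eq.trans ?_ (ofPsi_map (rename (R := ℚ) (Sum.inr : Fin n → Fin n ⊕ Fin n)).toRingHom
        (fun l => psum (Fin n) ℚ l) _).symm
      exact ofPsi_congr fun l hl hl' => (hA l hl (by omega)).2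
  rw [h1, ← ringHom_aeval (map (Int.castRingHom ℚ)), hP.1, mulGen, esymm_map, Multiset.map_map]
  have h2 : ∀ k, 1 ≤ k → k ≤ n → (Θ.toRingHom ∘ fun k => A k * B k) k =
      (((Finset.univ : Finset (Fin n × Fin n)).val.map fun ab =>
        (X (Sum.inl ab.1) * X (Sum.inr ab.2) : MvPolynomial (Fin n ⊕ Fin n) ℚ)).map
          fun u => u ^ k).sum := fun k hk hk' => by
    simp [(hA k hk hk').1, (hA k hk hk').2, T, U, psum, Multiset.map_map, mul_pow,
      Finset.sum_mul_sum, Fintype.sum_prod_type]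
  rw [ofPsi_congr h2, ofPsi_powerSum]
  congr 1
  exact Multiset.map_congr rfl fun ab _ => by simp

theorem compPoly_identity {i j : ℕ} {Q : MvPolynomial (Fin (i * j)) ℤ} (hQ : IsCompPoly i j Q) :
    let A : ℕ → MvPolynomial (Fin (i * j)) ℚ := varSeq id
    aeval (fun k : Fin (i * j) => ofPsi A ((k : ℕ) + 1)) Q =
      ofPsi (fun k => ofPsi (fun l => A (k * l)) i) j := by
  intro A
  let Θ : MvPolynomial (Fin (i * j)) ℚ →ₐ[ℚ] MvPolynomial (Fin (i * j)) ℚ :=
    aeval fun k : Fin (i * j) => psum (Fin (i * j)) ℚ ((k : ℕ) + 1)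
  have hA : ∀ k, 1 ≤ k → k ≤ i * j → Θ (A k) = psum (Fin (i * j)) ℚ k := by
    intro k hk hk'
    obtain ⟨m, rfl⟩ := Nat.exists_eq_add_of_le' hk
    simp [A, Θ, varSeq_succ _ (⟨m, hk'⟩ : Fin (i * j))]
  apply aeval_psum_injective ℚ (i * j)
  change Θ.toRingHom _ = Θ.toRingHom _
  rw [ringHom_aeval, ofPsi_map]
  have h1 : (fun k : Fin (i * j) => Θ.toRingHom (ofPsi A ((k : ℕ) + 1))) =
      fun k : Fin (i * j) => map (Int.castRingHom ℚ) (esymm (Fin (i * j)) ℤ ((k : ℕ) + 1)) := by
    funext k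
    rw [map_esymm, ofPsi_map, ← ofPsi_psum ℚ]
    exact ofPsi_congr fun l hl hl' => hA l hl (by omega)
  rw [h1, ← ringHom_aeval (map (Int.castRingHom ℚ)), hQ.1, compGen, esymm_map, Multiset.map_map]
  have h2 : ∀ k, 1 ≤ k → k ≤ j → (Θ.toRingHom ∘ fun k => ofPsi (fun l => A (k * l)) i) k =
      ((((Finset.univ : Finset (Fin (i * j))).powersetCard i).val.map fun s =>
        (∏ a ∈ s, X a : MvPolynomial (Fin (i * j)) ℚ)).map fun u => u ^ k).sum := fun k hk hk' => by
    rw [Function.comp_apply, ofPsi_map]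
    have h3 : ∀ l, 1 ≤ l → l ≤ i → (Θ.toRingHom ∘ fun l => A (k * l)) l =
        (((Finset.univ : Finset (Fin (i * j))).val.map fun a =>
          (X a : MvPolynomial (Fin (i * j)) ℚ) ^ k).map fun u => u ^ l).sum := fun l hl hl' => by
      have hkl : Θ (A (k * l)) = psum (Fin (i * j)) ℚ (k * l) :=
        hA (k * l) (Nat.le_mul_of_pos_right _ hl |>.trans' hk)
          (by rw [mul_comm i j]; exact Nat.mul_le_mul hk' hl')
      change Θ (A (k * l)) = _
      rw [hkl, psum_eq_sum, Multiset.map_map, Multiset.map_map]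
      simp only [Function.comp_def, pow_mul]
    rw [ofPsi_congr h3, ofPsi_powerSum, Finset.esymm_map_val, Multiset.map_map]
    simp only [Function.comp_def, Finset.prod_pow]
    rfl
  rw [ofPsi_congr h2, ofPsi_powerSum]
  congr 1
  exact Multiset.map_congr rfl fun s _ => by simp

/-- A pre-λ-ring over `ℚ` whose Adams operations are unital, multiplicative and compose is
special. -/
theorem isSpecial_of_adamsOp [LambdaOps K] [Algebra ℚ K]
    (h1 : ∀ k : ℕ, 1 ≤ k → adamsOp k (1 : K) = 1)
    (hmul : ∀ k : ℕ, 1 ≤ k → ∀ x y : K, adamsOp k (x * y) = adamsOp k x * adamsOp k y)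
    (hcomp : ∀ k k' : ℕ, 1 ≤ k → 1 ≤ k' → ∀ x : K,
      adamsOp k (adamsOp k' x) = adamsOp (k * k') x) : IsSpecial K where
  lam_one_eq_zero n hn := by
    rw [lam_eq_ofPsi, ofPsi_congr (b := fun k => (1 : K) ^ k) fun k hk _ => by rw [h1 k hk, one_pow],
      ofPsi_pow]
    obtain ⟨m, rfl⟩ := Nat.exists_eq_add_of_le' hn
    rfl
  lam_mul n P hP x y := by
    have hid := mulPoly_identity hP
    let ev : MvPolynomial (Fin n ⊕ Fin n) ℚ →+* K :=
      (aeval (R := ℚ) (Sum.elim (fun k : Fin n => adamsOp ((k : ℕ) + 1) x)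
        (fun k : Fin n => adamsOp ((k : ℕ) + 1) y))).toRingHom
    have hev : ∀ k, 1 ≤ k → k ≤ n → ev (varSeq Sum.inl k) = adamsOp k x ∧
        ev (varSeq Sum.inr k) = adamsOp k y := by
      intro k hk hk'
      obtain ⟨j, rfl⟩ := Nat.exists_eq_add_of_le' hk
      simp [ev, varSeq_succ _ (⟨j, hk'⟩ : Fin n)]
    have h := congr_arg ev hid
    rw [ringHom_aeval, ofPsi_map] at h
    rw [lam_eq_ofPsi]
    refine Eq.trans ?_ (h.symm.trans ?_)
    · refine ofPsi_congr fun k hk hk' => ?_
      simp [hmul k hk, (hev k hk hk').1, (hev k hk hk').2]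
    · congr 2
      funext i
      rcases i with k | k
      · rw [Sum.elim_inl, Sum.elim_inl, ofPsi_map, lam_eq_ofPsi]
        exact ofPsi_congr fun l hl hl' => (hev l hl (by omega)).1
      · rw [Sum.elim_inr, Sum.elim_inr, ofPsi_map, lam_eq_ofPsi]
        exact ofPsi_congr fun l hl hl' => (hev l hl (by omega)).2
  lam_lam i j Q hQ x := by
    have hid := compPoly_identity hQ
    let ev : MvPolynomial (Fin (i * j)) ℚ →+* K :=
      (aeval (R := ℚ) fun k : Fin (i * j) => adamsOp ((k : ℕ) + 1) x).toRingHom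
    have hev : ∀ k, 1 ≤ k → k ≤ i * j → ev (varSeq id k) = adamsOp k x := by
      intro k hk hk'
      obtain ⟨m, rfl⟩ := Nat.exists_eq_add_of_le' hk
      simp [ev, varSeq_succ _ (⟨m, hk'⟩ : Fin (i * j))]
    have h := congr_arg ev hid
    rw [ringHom_aeval, ofPsi_map] at h
    rw [lam_eq_ofPsi]
    refine Eq.trans ?_ (h.symm.trans ?_)
    · refine ofPsi_congr fun k hk hk' => ?_
      rw [Function.comp_apply, ofPsi_map, lam_eq_ofPsi i x]
      let φ : K →+* K := RingHom.mk'
        { toFun := adamsOp k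
          map_one' := h1 k hk
          map_mul' := hmul k hk } (adamsOp_add k)
      refine (ofPsi_map φ _ _).trans (ofPsi_congr fun l hl hl' => ?_)
      exact (hcomp k l hk hl x).trans (hev (k * l) (Nat.le_mul_of_pos_right _ hl |>.trans' hk)
        (by rw [mul_comm i j]; exact Nat.mul_le_mul hk' hl')).symm
    · congr 2
      funext k
      rw [ofPsi_map, lam_eq_ofPsi]
      exact ofPsi_congr fun l hl hl' => hev l hl (by omega)

theorem isSpecial_opsOfPsi [Algebra ℚ K] (ψ : ℕ → K →+ K) (h : ψ 1 = AddMonoidHom.id K)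
    (h1 : ∀ k : ℕ, 1 ≤ k → ψ k (1 : K) = 1)
    (hmul : ∀ k : ℕ, 1 ≤ k → ∀ x y : K, ψ k (x * y) = ψ k x * ψ k y)
    (hcomp : ∀ k k' : ℕ, 1 ≤ k → 1 ≤ k' → ∀ x : K, ψ k (ψ k' x) = ψ (k * k') x) :
    @IsSpecial K _ (opsOfPsi ψ h) :=
  @isSpecial_of_adamsOp K _ (opsOfPsi ψ h) _
    (fun k hk => (adamsOp_opsOfPsi ψ h hk 1).trans (h1 k hk))
    (fun k hk x y => by simp only [adamsOp_opsOfPsi ψ h hk]; exact hmul k hk x y)
    (fun k k' hk hk' x => by
      simp only [adamsOp_opsOfPsi ψ h hk, adamsOp_opsOfPsi ψ h hk',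
        adamsOp_opsOfPsi ψ h (Nat.mul_le_mul hk hk')]
      exact hcomp k k' hk hk' x)

/-! ### Transfer -/

section Transfer

variable {L : Type v} [CommRing L] [LambdaOps K] [LambdaOps L] {f : K →+* L}

theorem isSpecial_of_injective (hf : Commutes f) (hinj : Function.Injective f)
    (hL : IsSpecial L) : IsSpecial K where
  lam_one_eq_zero n hn := hinj (by rw [hf, map_one, map_zero, hL.lam_one_eq_zero n hn])
  lam_mul n P hP x y := hinj (by
    rw [hf, map_mul, hL.lam_mul n P hP, ringHom_aeval]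
    congr 2
    funext i
    rcases i with i | i <;> simp [hf _ _])
  lam_lam i j Q hQ x := hinj (by
    rw [hf, hf, hL.lam_lam i j Q hQ, ringHom_aeval]
    simp [hf _ _])

theorem isSpecial_of_surjective (hf : Commutes f) (hsurj : Function.Surjective f)
    (hK : IsSpecial K) : IsSpecial L where
  lam_one_eq_zero n hn := by rw [← map_one f, ← hf, hK.lam_one_eq_zero n hn, map_zero]
  lam_mul n P hP x y := by
    obtain ⟨a, rfl⟩ := hsurj x
    obtain ⟨b, rfl⟩ := hsurj y
    rw [← map_mul, ← hf, hK.lam_mul n P hP, ringHom_aeval]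
    congr 2
    funext i
    rcases i with i | i <;> simp [hf _ _]
  lam_lam i j Q hQ x := by
    obtain ⟨a, rfl⟩ := hsurj x
    rw [← hf, ← hf, hK.lam_lam i j Q hQ, ringHom_aeval]
    simp [hf _ _]

end Transfer

/-! ### Rationalisation -/

section Rationalise

variable (K)

/-- the positive integers in `K` -/
def natMonoid : Submonoid K := (nonZeroDivisors ℕ).map (Nat.castRingHom K)

/-- `K ⊗ ℚ` -/
abbrev Rationalise : Type u := Localization (natMonoid K)

/-- the map `ℚ → K ⊗ ℚ` -/
noncomputable def ratHom : ℚ →+* Rationalise K :=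
  IsLocalization.lift (M := nonZeroDivisors ℤ) (g := Int.castRingHom (Rationalise K)) fun y => by
    have hy : (y : ℤ).natAbs ≠ 0 := Int.natAbs_ne_zero.2 (nonZeroDivisors.coe_ne_zero y)
    have hu : IsUnit (((y : ℤ).natAbs : ℕ) : Rationalise K) := by
      rw [← map_natCast (algebraMap K (Rationalise K))]
      exact IsLocalization.map_units (Rationalise K)
        (⟨((y : ℤ).natAbs : K), ⟨(y : ℤ).natAbs, mem_nonZeroDivisors_of_ne_zero hy, rfl⟩⟩ :
          natMonoid K)
    rcases Int.natAbs_eq (y : ℤ) with h | h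
    · rw [h]; simpa using hu
    · rw [h]; simpa using hu.neg

noncomputable instance instAlgebraRatRationalise : Algebra ℚ (Rationalise K) :=
  (ratHom K).toAlgebra

variable {K}

theorem algebraMap_rationalise_injective [IsAddTorsionFree K] :
    Function.Injective (algebraMap K (Rationalise K)) := by
  refine IsLocalization.injective (M := natMonoid K) _ ?_
  rintro _ ⟨m, hm, rfl⟩
  rw [mem_nonZeroDivisors_iff_right]
  intro z hz
  apply nsmul_right_injective (nonZeroDivisors.ne_zero hm)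
  simpa [nsmul_eq_mul, mul_comm] using hz

variable (K) in
/-- the binomial λ-structure on `K ⊗ ℚ` -/
@[reducible] noncomputable def rationalOps : LambdaOps (Rationalise K) :=
  opsOfPsi (fun _ => AddMonoidHom.id _) rfl

theorem isSpecial_rationalOps : @IsSpecial (Rationalise K) _ (rationalOps K) :=
  isSpecial_opsOfPsi _ rfl (fun _ _ => rfl) (fun _ _ _ _ => rfl) (fun _ _ _ _ _ => rfl)

theorem algebraMap_choose [BinomialRing K] (x : K) (n : ℕ) :
    algebraMap K (Rationalise K) (Ring.choose x n) =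
      ofPsi (fun _ => algebraMap K (Rationalise K) x) n := by
  induction n with
  | zero => simp [ofPsi_zero]
  | succ n ih =>
    refine natCast_succ_mul_injective n ?_
    rw [ofPsi_const_succ, ← ih, ← map_natCast (algebraMap K (Rationalise K)),
      ← map_natCast (algebraMap K (Rationalise K)), ← map_sub, ← map_mul, ← map_mul]
    congr 1
    have := BinomialRing.toIsAddTorsionFree (R := K)
    apply nsmul_right_injective (Nat.factorial_ne_zero n)
    simp only [nsmul_eq_mul]
    have h1 := Ring.descPochhammer_eq_factorial_smul_choose x (n + 1)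
    have h2 := Ring.descPochhammer_eq_factorial_smul_choose x n
    rw [descPochhammer_succ_right, Polynomial.smeval_mul, Polynomial.smeval_sub,
      Polynomial.smeval_X, Polynomial.smeval_natCast, pow_one, h2] at h1
    simp only [nsmul_eq_mul, Nat.factorial_succ, Nat.cast_mul, Nat.cast_succ, pow_zero] at h1 ⊢
    linear_combination -h1

theorem commutes_algebraMap_rationalise [LambdaOps K] [BinomialRing K] (hKb : IsBinomial K) :
    @Commutes K _ _ (Rationalise K) _ (rationalOps K) (algebraMap K (Rationalise K)) :=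
  fun n x => by
    rw [hKb n x, algebraMap_choose]
    rfl

theorem isSpecial_of_isBinomial [LambdaOps K] [BinomialRing K] (hKb : IsBinomial K) :
    IsSpecial K :=
  have := BinomialRing.toIsAddTorsionFree (R := K)
  @isSpecial_of_injective K _ (Rationalise K) _ _ (rationalOps K) _
    (commutes_algebraMap_rationalise hKb) algebraMap_rationalise_injective isSpecial_rationalOps

end Rationalise

end GrothLib.Lambda
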