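import Mathlib.RingTheory.PowerSeries.Derivative
import Mathlib.RingTheory.PowerSeries.Inverse
import Mathlib.RingTheory.PowerSeries.Substitution
import Mathlib.RingTheory.PowerSeries.WellKnown
import Mathlib.RingTheory.MvPolynomial.Symmetric.Defs
import Mathlib.Algebra.Module.Rat
import Mathlib.Algebra.Algebra.Rat

/-!
# Calculus of sequences `x = (x_n)` with `x_0 = 1` and their ghost sequences

`Newton x a` says that the Newton recursion
`(n+1) x_{n+1} = ∑_{i ≤ n} (-1)^i a_{i+1} x_{n-i}` holds; for a λ-ring element `x_n = λ^n`,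
`a_k = ψ^k`.
-/

namespace GrothLib.Lambda

open Finset PowerSeries

universe u

variable {K : Type u} [CommRing K]

/-- convolution of sequences -/
def conv (x y : ℕ → K) (n : ℕ) : K := ∑ i ∈ range (n + 1), x i * y (n - i)

theorem mk_conv (x y : ℕ → K) : mk (conv x y) = mk x * mk y := by
  ext n
  simp [conv, coeff_mul, Nat.sum_antidiagonal_eq_sum_range_succ_mk]

theorem conv_zero (x y : ℕ → K) (hx : x 0 = 1) (hy : y 0 = 1) : conv x y 0 = 1 := by
  simp [conv, hx, hy]

/-- The series `∑ (-1)^k a_{k+1} t^k`. -/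
noncomputable def ghostSeries (a : ℕ → K) : PowerSeries K := mk fun k => (-1) ^ k * a (k + 1)

/-- The Newton recursion. -/
def Newton (x a : ℕ → K) : Prop :=
  ∀ n : ℕ, ((n + 1 : ℕ) : K) * x (n + 1) = ∑ i ∈ range (n + 1), (-1) ^ i * a (i + 1) * x (n - i)

theorem newton_iff (x a : ℕ → K) :
    Newton x a ↔ derivative K (mk x) = ghostSeries a * mk x := by
  simp only [Newton, PowerSeries.ext_iff]
  refine forall_congr' fun n => ?_
  simp [coeff_derivative, coeff_mul, ghostSeries, Nat.sum_antidiagonal_eq_sum_range_succ_mk,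
    mul_comm (x (n + 1))]

/-- The ghost sequence of a sequence. -/
noncomputable def psiOf (x : ℕ → K) : ℕ → K
  | 0 => 0
  | k + 1 => (-1) ^ k * coeff k (derivative K (mk x) * (mk x).invOfUnit 1)

theorem newton_psiOf (x : ℕ → K) (h : x 0 = 1) : Newton x (psiOf x) := by
  rw [newton_iff]
  have : ghostSeries (psiOf x) = derivative K (mk x) * (mk x).invOfUnit 1 := by
    ext n
    simp [ghostSeries, psiOf, ← mul_assoc, ← mul_pow]
  rw [this, mul_assoc, invOfUnit_mul, mul_one]
  simp [h]

theorem Newton.ghost_unique {x a b : ℕ → K} (h : x 0 = 1) (ha : Newton x a) (hb : Newton x b)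
    (k : ℕ) : a (k + 1) = b (k + 1) := by
  rw [newton_iff] at ha hb
  have hu : IsUnit (mk x) := isUnit_iff_constantCoeff.2 (by simp [h])
  have he := congr_arg (coeff k) (hu.mul_right_cancel (ha.symm.trans hb))
  simp only [ghostSeries, coeff_mk] at he
  exact ((isUnit_one.neg.pow k).mul_left_cancel he)

theorem Newton.eq_psiOf {x a : ℕ → K} (h : x 0 = 1) (ha : Newton x a) (k : ℕ) (hk : 1 ≤ k) :
    a k = psiOf x k := by
  obtain ⟨j, rfl⟩ := Nat.exists_eq_add_of_le' hk
  exact ha.ghost_unique h (newton_psiOf x h) j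

theorem Newton.congr_ghost {x a b : ℕ → K} (ha : Newton x a) (h : ∀ k, 1 ≤ k → a k = b k) :
    Newton x b := fun n => by
  rw [ha n]
  exact sum_congr rfl fun i _ => by rw [h (i + 1) (Nat.le_add_left 1 i)]

theorem Newton.conv {x y a b : ℕ → K} (ha : Newton x a) (hb : Newton y b) :
    Newton (conv x y) (fun k => a k + b k) := by
  rw [newton_iff] at ha hb ⊢
  have : ghostSeries (fun k => a k + b k) = ghostSeries a + ghostSeries b := by
    ext n
    simp [ghostSeries, mul_add]
  rw [mk_conv, this, Derivation.leibniz, ha, hb]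
  simp only [smul_eq_mul]
  ring

theorem Newton.map {L : Type*} [CommRing L] (f : K →+* L) {x a : ℕ → K} (ha : Newton x a) :
    Newton (f ∘ x) (f ∘ a) := fun n => by
  have := congr_arg f (ha n)
  simpa [map_sum] using this

theorem psiOf_map {L : Type*} [CommRing L] (f : K →+* L) (x : ℕ → K) (h : x 0 = 1) (k : ℕ) :
    f (psiOf x k) = psiOf (f ∘ x) k := by
  rcases Nat.eq_zero_or_pos k with rfl | hk
  · simp [psiOf]
  · exact ((newton_psiOf x h).map f).eq_psiOf (by simp [h]) k hk

theorem psiOf_conv (x y : ℕ → K) (hx : x 0 = 1) (hy : y 0 = 1) (k : ℕ) :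
    psiOf (GrothLib.Lambda.conv x y) k = psiOf x k + psiOf y k := by
  rcases Nat.eq_zero_or_pos k with rfl | hk
  · simp [psiOf]
  · exact (((newton_psiOf x hx).conv (newton_psiOf y hy)).eq_psiOf (conv_zero x y hx hy) k hk).symm

theorem psiOf_one' (x : ℕ → K) (h : x 0 = 1) : psiOf x 1 = x 1 := by
  have := newton_psiOf x h 0
  simpa [h] using this.symm

theorem psiOf_congr {x y : ℕ → K} (hx : x 0 = 1) (hy : y 0 = 1) {k : ℕ}
    (h : ∀ m, m ≤ k → x m = y m) : psiOf x k = psiOf y k := by
  induction k using Nat.strong_induction_on with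
  | _ k ih =>
    rcases k with _ | r
    · rfl
    · have e1 := newton_psiOf x hx r
      have e2 := newton_psiOf y hy r
      rw [sum_range_succ, Nat.sub_self] at e1 e2
      rw [hx, mul_one] at e1
      rw [hy, mul_one, ← h (r + 1) le_rfl, e1] at e2
      rw [sum_congr rfl fun i hi => by
        rw [ih (i + 1) (by have := mem_range.1 hi; omega) (fun m hm => h m (by
          have := mem_range.1 hi; omega)), h (r - i) (by omega)]] at e2
      exact (isUnit_one.neg.pow r).mul_left_cancel (add_left_cancel e2)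

theorem conv_congr {x x' y y' : ℕ → K} {n : ℕ} (hx : ∀ m ≤ n, x m = x' m)
    (hy : ∀ m ≤ n, y m = y' m) : conv x y n = conv x' y' n :=
  sum_congr rfl fun i hi => by
    have := mem_range.1 hi
    rw [hx i (by omega), hy (n - i) (by omega)]

/-- the sequence of a line element -/
def lineSeq (u : K) : ℕ → K
  | 0 => 1
  | 1 => u
  | _ + 2 => 0

theorem newton_lineSeq (u : K) : Newton (lineSeq u) (fun k => u ^ k) := by
  intro n
  rw [sum_range_succ]
  rcases n with _ | n
  · simp [lineSeq]
  · rw [sum_range_succ, sum_eq_zero (s := range n)]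
    · have h : n + 1 - n = 1 := by omega
      simp [lineSeq, h]
      ring
    · intro i hi
      rw [mem_range] at hi
      obtain ⟨j, hj⟩ : ∃ j, n + 1 - i = j + 2 := ⟨n - 1 - i, by omega⟩
      simp [lineSeq, hj]

theorem esymm_cons (a : K) (s : Multiset K) (n : ℕ) :
    (a ::ₘ s).esymm (n + 1) = s.esymm (n + 1) + a * s.esymm n := by
  simp [Multiset.esymm, Multiset.powersetCard_cons, Multiset.map_map,
    Multiset.sum_map_mul_left]

theorem esymm_zero' (s : Multiset K) : s.esymm 0 = 1 := by
  simp [Multiset.esymm]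

theorem esymm_empty (n : ℕ) : (0 : Multiset K).esymm n = if n = 0 then 1 else 0 := by
  rcases n with _ | n
  · simp [Multiset.esymm]
  · simp [Multiset.esymm]

theorem esymm_eq_zero (s : Multiset K) {n : ℕ} (h : Multiset.card s < n) : s.esymm n = 0 := by
  simp [Multiset.esymm, Multiset.powersetCard_eq_empty n h]

theorem esymm_eq_conv (a : K) (s : Multiset K) (n : ℕ) :
    (a ::ₘ s).esymm n = GrothLib.Lambda.conv (lineSeq a) s.esymm n := by
  rcases n with _ | n
  · simp [GrothLib.Lambda.conv, lineSeq, esymm_zero']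
  · rw [esymm_cons, GrothLib.Lambda.conv, sum_range_succ', sum_range_succ', sum_eq_zero]
    · simp [lineSeq]
      ring
    · intro i _
      simp [lineSeq]

theorem newton_esymm (s : Multiset K) :
    Newton s.esymm (fun k => (s.map fun u => u ^ k).sum) := by
  induction s using Multiset.induction with
  | empty => intro n; simp [esymm_empty]
  | cons a s ih =>
    have : (a ::ₘ s).esymm = GrothLib.Lambda.conv (lineSeq a) s.esymm :=
      funext (esymm_eq_conv a s)
    rw [this]
    simpa using (newton_lineSeq a).conv ih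

theorem esymm_map {L : Type*} [CommRing L] (f : K →+* L) (s : Multiset K) (n : ℕ) :
    f (s.esymm n) = (s.map f).esymm n := by
  simp [Multiset.esymm, Multiset.powersetCard_map, map_multiset_sum, Multiset.map_map,
    map_multiset_prod]

section Gamma

/-- the γ-sequence of a sequence -/
def gammaOf (x : ℕ → K) (k : ℕ) : K :=
  if k = 0 then 1
  else ∑ j ∈ range (k + 1), (Nat.choose (k - 1) (j - 1) : K) * (if j = 0 then 0 else x j)

theorem gammaOf_zero (x : ℕ → K) : gammaOf x 0 = 1 := if_pos rfl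

theorem gammaOf_succ (x : ℕ → K) (r : ℕ) :
    gammaOf x (r + 1) = ∑ j ∈ range (r + 1), (Nat.choose r j : K) * x (j + 1) := by
  rw [gammaOf, if_neg r.succ_ne_zero, sum_range_succ']
  simp

theorem gammaOf_map {L : Type*} [CommRing L] (f : K →+* L) (x : ℕ → K) (k : ℕ) :
    f (gammaOf x k) = gammaOf (f ∘ x) k := by
  simp [gammaOf, apply_ite f, map_sum]

/-- inverse of `gammaOf` -/
def lamOfGamma (g : ℕ → K) : ℕ → K
  | 0 => 1
  | r + 1 => g (r + 1) - ∑ j : Fin r, (Nat.choose r j : K) * lamOfGamma g (j + 1)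

theorem gammaOf_lamOfGamma (g : ℕ → K) (r : ℕ) : gammaOf (lamOfGamma g) (r + 1) = g (r + 1) := by
  rw [gammaOf_succ, sum_range_succ, Finset.sum_range]
  conv_lhs => arg 2; rw [lamOfGamma]
  simp

theorem lamOfGamma_gammaOf (x : ℕ → K) (h : x 0 = 1) (n : ℕ) : lamOfGamma (gammaOf x) n = x n := by
  induction n using Nat.strong_induction_on with
  | _ n ih =>
    rcases n with _ | r
    · simp [lamOfGamma, h]
    · rw [lamOfGamma, gammaOf_succ, sum_range_succ, Finset.sum_range]
      rw [sum_congr rfl fun (j : Fin r) _ => by rw [← ih (j + 1) (by omega)]]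
      simp

theorem lamOfGamma_map {L : Type*} [CommRing L] (f : K →+* L) (g : ℕ → K) (n : ℕ) :
    f (lamOfGamma g n) = lamOfGamma (f ∘ g) n := by
  induction n using Nat.strong_induction_on with
  | _ n ih =>
    rcases n with _ | r
    · simp [lamOfGamma]
    · rw [lamOfGamma, lamOfGamma, map_sub, map_sum]
      congr 1
      exact sum_congr rfl fun j _ => by simp [ih (j + 1) (by omega)]

/-- the substitution series `t / (1 - t)` -/
noncomputable def gammaSubst : PowerSeries K := X * (invOneSubPow K 1).val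

theorem hasSubst_gammaSubst : PowerSeries.HasSubst (gammaSubst : PowerSeries K) :=
  HasSubst.of_constantCoeff_zero' (by simp [gammaSubst])

theorem coeff_gammaSubst_pow (d k : ℕ) :
    coeff (k + 1) ((gammaSubst : PowerSeries K) ^ d) =
      if d = 0 then 0 else (Nat.choose k (d - 1) : K) := by
  rcases d with _ | d
  · simp
  · rw [if_neg d.succ_ne_zero, gammaSubst, mul_pow, coeff_X_pow_mul', ← Units.val_pow_eq_pow_val,
      invOneSubPow_eq_inv_one_sub_pow K 1, pow_one, ← invOneSubPow_eq_inv_one_sub_pow]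
    split_ifs with h
    · rw [invOneSubPow_val_succ_eq_mk_add_choose, coeff_mk]
      rw [show d + (k + 1 - (d + 1)) = k by omega]
      simp
    · rw [Nat.choose_eq_zero_of_lt (by omega), Nat.cast_zero]

theorem mk_gammaOf (x : ℕ → K) (h : x 0 = 1) : mk (gammaOf x) = (mk x).subst gammaSubst := by
  ext k
  rw [coeff_mk, coeff_subst' hasSubst_gammaSubst]
  rcases k with _ | k
  · rw [finsum_eq_single _ 0]
    · simp [gammaOf, h]
    · intro d hd
      simp [coeff_zero_eq_constantCoeff, gammaSubst, zero_pow hd]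
  · rw [finsum_eq_sum_of_support_subset _ (s := range (k + 2))]
    · rw [gammaOf, if_neg k.succ_ne_zero]
      refine sum_congr rfl fun j _ => ?_
      rcases j with _ | j <;> simp [coeff_gammaSubst_pow, mul_comm]
    · intro d hd
      contrapose! hd
      simp only [Finset.coe_range, Set.mem_Iio, not_lt] at hd
      simp [coeff_gammaSubst_pow, show d ≠ 0 by omega,
        Nat.choose_eq_zero_of_lt (show k < d - 1 by omega)]

theorem gammaOf_conv (x y : ℕ → K) (hx : x 0 = 1) (hy : y 0 = 1) (k : ℕ) :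
    gammaOf (GrothLib.Lambda.conv x y) k = GrothLib.Lambda.conv (gammaOf x) (gammaOf y) k := by
  have : mk (gammaOf (GrothLib.Lambda.conv x y)) =
      mk (GrothLib.Lambda.conv (gammaOf x) (gammaOf y)) := by
    rw [mk_gammaOf _ (conv_zero x y hx hy), mk_conv, mk_conv, mk_gammaOf x hx, mk_gammaOf y hy,
      subst_mul hasSubst_gammaSubst]
  simpa using congr_arg (coeff k) this

end Gamma

section Rat

variable [Algebra ℚ K]

/-- A sequence from its ghost sequence. -/
noncomputable def ofPsi (a : ℕ → K) : ℕ → K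
  | 0 => 1
  | n + 1 => ((n + 1 : ℕ) : ℚ)⁻¹ •
      ∑ i : Fin (n + 1), (-1) ^ (i : ℕ) * a (i + 1) * ofPsi a (n - i)

theorem ofPsi_zero (a : ℕ → K) : ofPsi a 0 = 1 := by rw [ofPsi]

theorem natCast_succ_mul_smul (n : ℕ) (z : K) :
    ((n + 1 : ℕ) : K) * (((n + 1 : ℕ) : ℚ)⁻¹ • z) = z := by
  rw [← map_natCast (algebraMap ℚ K), ← Algebra.smul_def, smul_smul,
    mul_inv_cancel₀ (by exact_mod_cast n.succ_ne_zero), one_smul]

theorem natCast_succ_mul_injective (n : ℕ) {x y : K}
    (h : ((n + 1 : ℕ) : K) * x = ((n + 1 : ℕ) : K) * y) : x = y := by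
  have hu : IsUnit ((n + 1 : ℕ) : K) := by
    rw [← map_natCast (algebraMap ℚ K)]
    exact (isUnit_iff_ne_zero.2 (by exact_mod_cast n.succ_ne_zero)).map _
  exact hu.mul_left_cancel h

theorem newton_ofPsi (a : ℕ → K) : Newton (ofPsi a) a := fun n => by
  conv_lhs => rw [ofPsi]
  rw [natCast_succ_mul_smul, Finset.sum_range]

theorem Newton.eq_ofPsi {x a : ℕ → K} (h : x 0 = 1) (ha : Newton x a) (n : ℕ) :
    x n = ofPsi a n := by
  induction n using Nat.strong_induction_on with
  | _ n ih =>
    rcases n with _ | r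
    · rw [h, ofPsi_zero]
    · refine natCast_succ_mul_injective r ?_
      rw [ha r, newton_ofPsi a r]
      exact sum_congr rfl fun i _ => by rw [ih (r - i) (by omega)]

theorem ofPsi_congr {a b : ℕ → K} {n : ℕ} (h : ∀ k, 1 ≤ k → k ≤ n → a k = b k) :
    ofPsi a n = ofPsi b n := by
  induction n using Nat.strong_induction_on with
  | _ n ih =>
    rcases n with _ | r
    · rw [ofPsi_zero, ofPsi_zero]
    · refine natCast_succ_mul_injective r ?_
      rw [newton_ofPsi a r, newton_ofPsi b r]
      refine sum_congr rfl fun i hi => ?_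
      rw [mem_range] at hi
      rw [h (i + 1) (by omega) (by omega), ih (r - i) (by omega)
        fun k hk hk' => h k hk (by omega)]

theorem psiOf_ofPsi (a : ℕ → K) (k : ℕ) (hk : 1 ≤ k) : psiOf (ofPsi a) k = a k :=
  ((newton_ofPsi a).eq_psiOf (ofPsi_zero a) k hk).symm

theorem ofPsi_psiOf (x : ℕ → K) (h : x 0 = 1) (n : ℕ) : ofPsi (psiOf x) n = x n :=
  ((newton_psiOf x h).eq_ofPsi h n).symm

theorem ofPsi_map {L : Type*} [CommRing L] [Algebra ℚ L] (f : K →+* L) (a : ℕ → K) (n : ℕ) :
    f (ofPsi a n) = ofPsi (f ∘ a) n :=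
  ((newton_ofPsi a).map f).eq_ofPsi (by simp [ofPsi_zero]) n

theorem ofPsi_add (a b : ℕ → K) (n : ℕ) :
    ofPsi (fun k => a k + b k) n = GrothLib.Lambda.conv (ofPsi a) (ofPsi b) n :=
  (((newton_ofPsi a).conv (newton_ofPsi b)).eq_ofPsi
    (conv_zero _ _ (ofPsi_zero a) (ofPsi_zero b)) n).symm

theorem ofPsi_one (a : ℕ → K) : ofPsi a 1 = a 1 := by
  simpa [ofPsi_zero] using newton_ofPsi a 0

theorem ofPsi_pow (u : K) (n : ℕ) : ofPsi (fun k => u ^ k) n = lineSeq u n :=
  ((newton_lineSeq u).eq_ofPsi rfl n).symm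

theorem ofPsi_powerSum (s : Multiset K) (n : ℕ) :
    ofPsi (fun k => (s.map fun u => u ^ k).sum) n = s.esymm n :=
  ((newton_esymm s).eq_ofPsi (esymm_zero' s) n).symm

/-- `(n+1) E_{n+1} = (c - n) E_n` for the constant ghost sequence `c`. -/
theorem ofPsi_const_succ (c : K) (n : ℕ) :
    ((n + 1 : ℕ) : K) * ofPsi (fun _ => c) (n + 1) = (c - n) * ofPsi (fun _ => c) n := by
  rcases n with _ | n
  · simp [ofPsi_one, ofPsi_zero]
  · have h := newton_ofPsi (fun _ => c) n
    rw [newton_ofPsi (fun _ => c) (n + 1), sum_range_succ']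
    simp only [Nat.sub_zero, pow_zero, one_mul]
    rw [sum_congr rfl (g := fun i => -((-1) ^ i * c * ofPsi (fun _ => c) (n - i)))
      (fun i _ => by rw [Nat.add_sub_add_right, pow_succ]; ring), sum_neg_distrib, ← h]
    push_cast
    ring

end Rat

end GrothLib.Lambda
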